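import Mathlib

set_option autoImplicit false

/-!
Any two nondegenerate alternating bilinear forms on finite-dimensional spaces of the same dimension
are equivalent (abstract spaces; induction by splitting off a hyperbolic pair).
-/

namespace Cfsg.Agent.Lib.helper4.AltEquiv

universe u v

variable {F : Type u} [Field F] {W : Type v} [AddCommGroup W] [Module F W]

theorem alt_skew (β : W →ₗ[F] W →ₗ[F] F) (halt : ∀ x, β x x = 0) (x y : W) :
    β x y = - β y x := by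
  have h := halt (x + y)
  simp only [map_add, LinearMap.add_apply, halt, zero_add, add_zero] at h
  linear_combination h

/-- the orthogonal complement of a pair -/
def perp2 (β : W →ₗ[F] W →ₗ[F] F) (x y : W) : Submodule F W :=
  LinearMap.ker ((β x).prod (β y))

theorem mem_perp2 (β : W →ₗ[F] W →ₗ[F] F) (x y w : W) :
    w ∈ perp2 β x y ↔ β x w = 0 ∧ β y w = 0 := by
  unfold perp2
  rw [LinearMap.mem_ker, LinearMap.prod_apply, Prod.mk_eq_zero]
  exact Iff.rfl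

theorem finrank_perp2 [FiniteDimensional F W] (β : W →ₗ[F] W →ₗ[F] F) (halt : ∀ x, β x x = 0)
    (x y : W) (hxy : β x y = 1) :
    Module.finrank F (perp2 β x y) + 2 = Module.finrank F W := by
  have hyx : β y x = -1 := by rw [alt_skew β halt, hxy]
  have hsurj : Function.Surjective ((β x).prod (β y)) := by
    rintro ⟨a, b⟩
    refine ⟨a • y - b • x, ?_⟩
    rw [LinearMap.prod_apply]
    simp [halt, hxy, hyx]
  have h := LinearMap.finrank_range_add_finrank_ker ((β x).prod (β y))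
  rw [LinearMap.range_eq_top.mpr hsurj, finrank_top, Module.finrank_prod, Module.finrank_self] at h
  unfold perp2
  omega

theorem proj_mem (β : W →ₗ[F] W →ₗ[F] F) (halt : ∀ x, β x x = 0)
    (x y : W) (hxy : β x y = 1) (w : W) :
    w + β y w • x - β x w • y ∈ perp2 β x y := by
  have hyx : β y x = -1 := by rw [alt_skew β halt, hxy]
  rw [mem_perp2]
  constructor
  · simp [halt, hxy]
  · simp [halt, hyx]

theorem proj_form (β : W →ₗ[F] W →ₗ[F] F) (halt : ∀ x, β x x = 0)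
    (x y : W) (hxy : β x y = 1) (w w' : W) :
    β (w + β y w • x - β x w • y) (w' + β y w' • x - β x w' • y)
      = β w w' - β x w * β y w' + β y w * β x w' := by
  have hyx : β y x = -1 := by rw [alt_skew β halt, hxy]
  have h1 : β w x = - β x w := alt_skew β halt w x
  have h2 : β w y = - β y w := alt_skew β halt w y
  simp only [map_add, map_sub, map_smul, LinearMap.add_apply, LinearMap.sub_apply,
    LinearMap.smul_apply, smul_eq_mul, halt, hxy, hyx, h1, h2]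
  ring

theorem glue_form (β : W →ₗ[F] W →ₗ[F] F) (halt : ∀ x, β x x = 0)
    (x y : W) (hxy : β x y = 1) (k k' : W) (hk : k ∈ perp2 β x y) (hk' : k' ∈ perp2 β x y)
    (a b a' b' : F) :
    β (k + b • y - a • x) (k' + b' • y - a' • x) = β k k' + b * a' - a * b' := by
  have hyx : β y x = -1 := by rw [alt_skew β halt, hxy]
  rw [mem_perp2] at hk hk'
  have h1 : β k x = 0 := by rw [alt_skew β halt, hk.1, neg_zero]
  have h2 : β k y = 0 := by rw [alt_skew β halt, hk.2, neg_zero]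
  simp only [map_add, map_sub, map_smul, LinearMap.add_apply, LinearMap.sub_apply,
    LinearMap.smul_apply, smul_eq_mul, halt, hxy, hyx, h1, h2, hk'.1, hk'.2]
  ring

theorem perp2_nondeg (β : W →ₗ[F] W →ₗ[F] F) (halt : ∀ x, β x x = 0)
    (hn : ∀ x, x ≠ 0 → ∃ y, β x y ≠ 0) (x y : W) (hxy : β x y = 1)
    (z : perp2 β x y) (hz : z ≠ 0) : ∃ z' : perp2 β x y, β z.1 z'.1 ≠ 0 := by
  obtain ⟨w, hw⟩ := hn z.1 (fun h => hz (Subtype.ext h))
  have hzm := (mem_perp2 β x y z.1).mp z.2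
  have h1 : β z.1 x = 0 := by rw [alt_skew β halt, hzm.1, neg_zero]
  have h2 : β z.1 y = 0 := by rw [alt_skew β halt, hzm.2, neg_zero]
  refine ⟨⟨w + β y w • x - β x w • y, proj_mem β halt x y hxy w⟩, ?_⟩
  show β z.1 (w + β y w • x - β x w • y) ≠ 0
  simp only [map_add, map_sub, map_smul, smul_eq_mul, h1, h2, mul_zero, add_zero, sub_zero]
  exact hw

theorem exists_pair [FiniteDimensional F W] (β : W →ₗ[F] W →ₗ[F] F)
    (hn : ∀ x, x ≠ 0 → ∃ y, β x y ≠ 0) (hpos : 0 < Module.finrank F W) :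
    ∃ x y : W, β x y = 1 := by
  obtain ⟨x, hx⟩ := Module.finrank_pos_iff_exists_ne_zero.mp hpos
  obtain ⟨y, hy⟩ := hn x hx
  refine ⟨x, (β x y)⁻¹ • y, ?_⟩
  rw [map_smul, smul_eq_mul, inv_mul_cancel₀ hy]

theorem alt_equiv : ∀ (d : ℕ) (W₁ W₂ : Type v) [AddCommGroup W₁] [Module F W₁]
    [FiniteDimensional F W₁] [AddCommGroup W₂] [Module F W₂] [FiniteDimensional F W₂]
    (β₁ : W₁ →ₗ[F] W₁ →ₗ[F] F) (β₂ : W₂ →ₗ[F] W₂ →ₗ[F] F),
    Module.finrank F W₁ = d → Module.finrank F W₂ = d →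
    (∀ x, β₁ x x = 0) → (∀ x, β₂ x x = 0) →
    (∀ x, x ≠ 0 → ∃ y, β₁ x y ≠ 0) → (∀ x, x ≠ 0 → ∃ y, β₂ x y ≠ 0) →
    ∃ c : W₁ →ₗ[F] W₂, ∀ x y, β₂ (c x) (c y) = β₁ x y := by
  intro d
  induction d using Nat.strong_induction_on with
  | _ d ih =>
  intro W₁ W₂ _ _ _ _ _ _ β₁ β₂ hd₁ hd₂ ha₁ ha₂ hn₁ hn₂
  by_cases hd0 : d = 0
  · subst hd0
    refine ⟨0, fun x y => ?_⟩
    have : Subsingleton W₁ := Module.finrank_zero_iff.mp hd₁
    rw [Subsingleton.elim x 0]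
    simp
  obtain ⟨x₁, y₁, hxy₁⟩ := exists_pair β₁ hn₁ (by omega)
  obtain ⟨x₂, y₂, hxy₂⟩ := exists_pair β₂ hn₂ (by omega)
  have hf₁ := finrank_perp2 β₁ ha₁ x₁ y₁ hxy₁
  have hf₂ := finrank_perp2 β₂ ha₂ x₂ y₂ hxy₂
  obtain ⟨c', hc'⟩ := ih (d - 2) (by omega) (perp2 β₁ x₁ y₁) (perp2 β₂ x₂ y₂)
    (β₁.domRestrict₁₂ (perp2 β₁ x₁ y₁) (perp2 β₁ x₁ y₁))
    (β₂.domRestrict₁₂ (perp2 β₂ x₂ y₂) (perp2 β₂ x₂ y₂)) (by omega) (by omega)
    (fun x => by rw [LinearMap.domRestrict₁₂_apply]; exact ha₁ _)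
    (fun x => by rw [LinearMap.domRestrict₁₂_apply]; exact ha₂ _)
    (fun x hx => by
      obtain ⟨z', hz'⟩ := perp2_nondeg β₁ ha₁ hn₁ x₁ y₁ hxy₁ x hx
      exact ⟨z', by rw [LinearMap.domRestrict₁₂_apply]; exact hz'⟩)
    (fun x hx => by
      obtain ⟨z', hz'⟩ := perp2_nondeg β₂ ha₂ hn₂ x₂ y₂ hxy₂ x hx
      exact ⟨z', by rw [LinearMap.domRestrict₁₂_apply]; exact hz'⟩)
  obtain ⟨π, hπ⟩ : ∃ π : W₁ →ₗ[F] ↥(perp2 β₁ x₁ y₁),
      ∀ w, (π w).1 = w + β₁ y₁ w • x₁ - β₁ x₁ w • y₁ := by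
    refine ⟨LinearMap.codRestrict (perp2 β₁ x₁ y₁)
      (LinearMap.id + (β₁ y₁).smulRight x₁ - (β₁ x₁).smulRight y₁) (fun w => ?_), fun w => ?_⟩
    · simp only [LinearMap.sub_apply, LinearMap.add_apply, LinearMap.id_apply,
        LinearMap.smulRight_apply]
      exact proj_mem β₁ ha₁ x₁ y₁ hxy₁ w
    · rw [LinearMap.codRestrict_apply]
      simp only [LinearMap.sub_apply, LinearMap.add_apply, LinearMap.id_apply,
        LinearMap.smulRight_apply]
  refine ⟨(perp2 β₂ x₂ y₂).subtype ∘ₗ c' ∘ₗ π + (β₁ x₁).smulRight y₂ - (β₁ y₁).smulRight x₂,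
    fun w w' => ?_⟩
  simp only [LinearMap.sub_apply, LinearMap.add_apply, LinearMap.comp_apply,
    LinearMap.smulRight_apply, Submodule.subtype_apply]
  rw [glue_form β₂ ha₂ x₂ y₂ hxy₂ _ _ (c' (π w)).2 (c' (π w')).2]
  have h1 := hc' (π w) (π w')
  rw [LinearMap.domRestrict₁₂_apply, LinearMap.domRestrict₁₂_apply] at h1
  rw [h1, hπ, hπ, proj_form β₁ ha₁ x₁ y₁ hxy₁]
  ring

end Cfsg.Agent.Lib.helper4.AltEquiv
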