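import Mathlib
import Cfsg.Agent.Lib.helper4.AltEquiv

set_option autoImplicit false

/-!
The "corner" part of symplectic conjugacy: on the image of a self-adjoint idempotent `e`, an
alternating self-adjoint unit `h` commuting with `e` is of the form `c† c` with `c = e c e`.
-/

namespace Cfsg.Agent.Lib.helper4.SympConjCorner

open Cfsg.Agent.Lib.helper4.AltEquiv
open scoped Matrix

universe u v

variable {n : Type u} [Fintype n] [DecidableEq n] {F : Type v} [Field F]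

theorem mat_eq_of_form (M N : Matrix n n F)
    (h : ∀ x y : n → F, x ⬝ᵥ M *ᵥ y = x ⬝ᵥ N *ᵥ y) : M = N := by
  ext i j
  have := h (Pi.single i 1) (Pi.single j 1)
  simpa using this

theorem mat_eq_of_mulVec (M N : Matrix n n F) (h : ∀ x : n → F, M *ᵥ x = N *ᵥ x) : M = N := by
  ext i j
  have := congrFun (h (Pi.single j 1)) i
  simpa using this

theorem form_adj (J e : Matrix n n F) (heJ : eᵀ * J = J * e) (x y : n → F) :
    x ⬝ᵥ J *ᵥ (e *ᵥ y) = (e *ᵥ x) ⬝ᵥ J *ᵥ y := by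
  rw [Matrix.mulVec_mulVec, ← heJ, ← Matrix.mulVec_mulVec, Matrix.dotProduct_mulVec,
    Matrix.vecMul_transpose]

theorem corner (J : Matrix n n F) (hJJ : J * J = -1) (hJalt : ∀ x : n → F, x ⬝ᵥ J *ᵥ x = 0)
    (e h : Matrix n n F) (hee : e * e = e) (heJ : eᵀ * J = J * e) (hhJ : hᵀ * J = J * h)
    (heh : h * e = e * h) (hinj : ∀ x : n → F, h *ᵥ x = 0 → x = 0)
    (halt : ∀ x : n → F, x ⬝ᵥ (J * h) *ᵥ x = 0) :
    ∃ c : Matrix n n F, e * c = c ∧ c * e = c ∧ cᵀ * J * c = J * h * e := by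
  obtain ⟨W, hW⟩ : ∃ W : Submodule F (n → F), ∀ x, x ∈ W ↔ e *ᵥ x = x := by
    refine ⟨LinearMap.eqLocus (Matrix.toLin' e) LinearMap.id, fun x => ?_⟩
    rw [LinearMap.mem_eqLocus, Matrix.toLin'_apply, LinearMap.id_apply]
  have hemem : ∀ x : n → F, e *ᵥ x ∈ W := by
    intro x; rw [hW, Matrix.mulVec_mulVec, hee]
  obtain ⟨β₁, hβ₁⟩ : ∃ β₁ : ↥W →ₗ[F] ↥W →ₗ[F] F, ∀ x y, β₁ x y = x.1 ⬝ᵥ J *ᵥ y.1 :=
    ⟨(Matrix.toLinearMap₂' F J).domRestrict₁₂ W W, fun x y => by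
      rw [LinearMap.domRestrict₁₂_apply, Matrix.toLinearMap₂'_apply']⟩
  obtain ⟨β₂, hβ₂⟩ : ∃ β₂ : ↥W →ₗ[F] ↥W →ₗ[F] F, ∀ x y, β₂ x y = x.1 ⬝ᵥ (J * h) *ᵥ y.1 :=
    ⟨(Matrix.toLinearMap₂' F (J * h)).domRestrict₁₂ W W, fun x y => by
      rw [LinearMap.domRestrict₁₂_apply, Matrix.toLinearMap₂'_apply']⟩
  have hn₁ : ∀ x : ↥W, x ≠ 0 → ∃ y : ↥W, β₁ x y ≠ 0 := by
    intro x hx
    have hx1 : x.1 ≠ 0 := fun h0 => hx (Subtype.ext h0)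
    obtain ⟨i, hi⟩ := Function.ne_iff.mp hx1
    refine ⟨⟨e *ᵥ ((-J) *ᵥ Pi.single i 1), hemem _⟩, ?_⟩
    rw [hβ₁]
    show x.1 ⬝ᵥ J *ᵥ (e *ᵥ ((-J) *ᵥ Pi.single i 1)) ≠ 0
    rw [form_adj J e heJ, (hW x.1).mp x.2, Matrix.mulVec_mulVec, Matrix.mul_neg, hJJ, neg_neg,
      Matrix.one_mulVec, dotProduct_single_one]
    exact hi
  have hn₂ : ∀ x : ↥W, x ≠ 0 → ∃ y : ↥W, β₂ x y ≠ 0 := by
    intro x hx
    have hx1 : x.1 ≠ 0 := fun h0 => hx (Subtype.ext h0)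
    have hhx : h *ᵥ x.1 ∈ W := by
      rw [hW, Matrix.mulVec_mulVec, ← heh, ← Matrix.mulVec_mulVec, (hW x.1).mp x.2]
    have hhx0 : (⟨h *ᵥ x.1, hhx⟩ : ↥W) ≠ 0 := by
      intro h0
      exact hx1 (hinj _ (congrArg Subtype.val h0))
    obtain ⟨y, hy⟩ := hn₁ _ hhx0
    refine ⟨y, ?_⟩
    rw [hβ₁] at hy
    rw [hβ₂, ← hhJ, ← Matrix.mulVec_mulVec, Matrix.dotProduct_mulVec, Matrix.vecMul_transpose]
    exact hy
  obtain ⟨c₀, hc₀⟩ := alt_equiv (Module.finrank F ↥W) ↥W ↥W β₂ β₁ rfl rfl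
    (fun x => by rw [hβ₂]; exact halt _) (fun x => by rw [hβ₁]; exact hJalt _) hn₂ hn₁
  obtain ⟨P, hP⟩ : ∃ P : (n → F) →ₗ[F] ↥W, ∀ x, (P x).1 = e *ᵥ x :=
    ⟨LinearMap.codRestrict W (Matrix.toLin' e) (fun x => by
      rw [Matrix.toLin'_apply]; exact hemem x), fun x => by
      rw [LinearMap.codRestrict_apply, Matrix.toLin'_apply]⟩
  obtain ⟨c, hc⟩ : ∃ c : Matrix n n F, ∀ x, c *ᵥ x = (c₀ (P x)).1 := by
    refine ⟨LinearMap.toMatrix' (W.subtype ∘ₗ c₀ ∘ₗ P), fun x => ?_⟩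
    rw [← Matrix.toLin'_apply, Matrix.toLin'_toMatrix']
    rfl
  refine ⟨c, ?_, ?_, ?_⟩
  · apply mat_eq_of_mulVec
    intro x
    rw [← Matrix.mulVec_mulVec, hc]
    exact (hW _).mp (c₀ (P x)).2
  · apply mat_eq_of_mulVec
    intro x
    rw [← Matrix.mulVec_mulVec, hc, hc]
    have : P (e *ᵥ x) = P x := by
      apply Subtype.ext
      rw [hP, hP, Matrix.mulVec_mulVec, hee]
    rw [this]
  · apply mat_eq_of_form
    intro x y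
    have h1 : x ⬝ᵥ (cᵀ * J * c) *ᵥ y = (c *ᵥ x) ⬝ᵥ J *ᵥ (c *ᵥ y) := by
      rw [← Matrix.mulVec_mulVec, ← Matrix.mulVec_mulVec, Matrix.dotProduct_mulVec,
        Matrix.vecMul_transpose]
    have h2 : (e *ᵥ x) ⬝ᵥ (J * h) *ᵥ (e *ᵥ y) = x ⬝ᵥ (J * h * e) *ᵥ y := by
      have h3 : eᵀ * (J * h) * e = J * h * e := by
        calc eᵀ * (J * h) * e = (eᵀ * J) * h * e := by simp only [Matrix.mul_assoc]
          _ = J * (e * h) * e := by rw [heJ]; simp only [Matrix.mul_assoc]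
          _ = J * h * (e * e) := by rw [← heh]; simp only [Matrix.mul_assoc]
          _ = J * h * e := by rw [hee]
      have h4 : (eᵀ * (J * h) * e) *ᵥ y = eᵀ *ᵥ ((J * h) *ᵥ (e *ᵥ y)) := by
        rw [Matrix.mulVec_mulVec, Matrix.mulVec_mulVec]
      rw [← h3, h4, Matrix.dotProduct_mulVec x eᵀ, Matrix.vecMul_transpose]
    rw [h1, hc, hc, ← hβ₁, hc₀, hβ₂, hP, hP, h2]

end Cfsg.Agent.Lib.helper4.SympConjCorner
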