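import Mathlib
import Cfsg.Agent.Lib.helper10.HermNorm

set_option autoImplicit false

/-!
The "norm" part of symplectic conjugacy: on the part of the space where `A ^ 2 - 1` is invertible,
a self-adjoint unit `h` commuting with `A` is of the form `c† c` with `c` in the double centralizer.
-/

namespace Cfsg.Agent.Lib.helper4.SympConjNorm

open Cfsg.Agent.Lib.helper10
open scoped Matrix

universe u v

theorem norm_corner {R : Type u} [CommRing R] [Finite R] (τ : R →+* R) (hτ : ∀ x, τ (τ x) = x)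
    (a ai e w y yi : R) (hτa : τ a = ai) (hee : e * e = e) (hτe : τ e = e)
    (hw : (a - ai) * w = 1 - e) (hy : y * yi = 1) (hτy : τ y = y) :
    ∃ c : R, τ c * c = y * (1 - e) ∧ c * (1 - e) = c := by
  obtain ⟨I, hI⟩ : ∃ I : Ideal R, I = Ideal.span {e} := ⟨_, rfl⟩
  have hIτ : ∀ x ∈ I, τ x ∈ I := by
    intro x hx
    rw [hI, Ideal.mem_span_singleton'] at hx ⊢
    obtain ⟨r, rfl⟩ := hx
    exact ⟨τ r, by rw [map_mul, hτe]⟩
  have hle : I ≤ Ideal.comap τ I := fun x hx => Ideal.mem_comap.mpr (hIτ x hx)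
  have h1 : ∀ x, (Ideal.quotientMap I τ hle) ((Ideal.quotientMap I τ hle) x) = x := by
    intro x
    obtain ⟨x, rfl⟩ := Ideal.Quotient.mk_surjective x
    rw [Ideal.quotientMap_mk, Ideal.quotientMap_mk, hτ]
  have : Finite (R ⧸ I) := Finite.of_surjective _ Ideal.Quotient.mk_surjective
  have he0 : Ideal.Quotient.mk I e = 0 :=
    Ideal.Quotient.eq_zero_iff_mem.mpr (hI ▸ Ideal.mem_span_singleton_self e)
  have hω : IsUnit (Ideal.Quotient.mk I a - Ideal.quotientMap I τ hle (Ideal.Quotient.mk I a)) := by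
    rw [Ideal.quotientMap_mk, hτa, ← map_sub]
    refine IsUnit.of_mul_eq_one (Ideal.Quotient.mk I w) ?_
    rw [← map_mul, hw, map_sub, map_one, he0, sub_zero]
  obtain ⟨u', hu'⟩ := HermNorm.norm_surj (Ideal.quotientMap I τ hle) h1 _ hω
    (Ideal.Quotient.mk I y) ((IsUnit.of_mul_eq_one yi hy).map _)
    (by rw [Ideal.quotientMap_mk, hτy])
  obtain ⟨u, rfl⟩ := Ideal.Quotient.mk_surjective u'
  rw [Ideal.quotientMap_mk, ← map_mul] at hu'
  have hmem := Ideal.Quotient.eq.mp hu'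
  rw [hI, Ideal.mem_span_singleton'] at hmem
  obtain ⟨r, hr⟩ := hmem
  refine ⟨τ u * (1 - e), ?_, ?_⟩
  · rw [map_mul, hτ, map_sub, map_one, hτe]
    linear_combination (-(1 - e)) * hr + (u * τ u - r) * hee
  · linear_combination (τ u) * hee

theorem split {R : Type u} [CommRing R] (τ : R →+* R) (a ai e : R) (haai : a * ai = 1)
    (hτa : τ a = ai) (hee : e * e = e) (hτe : τ e = e) (hae : a * a * e = e)
    (h2 : (∃ hf : R, hf + hf = 1 ∧ τ hf = hf) ∨ a * e = e) :
    ∃ e₁ e₂ : R, e₁ * e₁ = e₁ ∧ e₂ * e₂ = e₂ ∧ e₁ * e₂ = 0 ∧ e₁ + e₂ = e ∧ a * e₁ = e₁ ∧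
      a * e₂ = -e₂ ∧ τ e₁ = e₁ ∧ τ e₂ = e₂ := by
  rcases h2 with ⟨hf, h2, hτhf⟩ | h2
  · refine ⟨hf * e * (1 + a), hf * e * (1 - a), ?_, ?_, ?_, ?_, ?_, ?_, ?_, ?_⟩
    · linear_combination (hf^2*(1+a)^2) * hee + hf^2 * hae + hf*(e + a*e) * h2
    · linear_combination (hf^2*(1-a)^2) * hee + hf^2 * hae + hf*(e - a*e) * h2
    · linear_combination (hf^2*(1-a^2)) * hee - hf^2 * hae
    · linear_combination e * h2
    · linear_combination hf * hae
    · linear_combination (-hf) * hae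
    · rw [map_mul, map_mul, map_add, map_one, hτhf, hτe, hτa]
      linear_combination (-hf*ai) * hae + (hf*a*e) * haai
    · rw [map_mul, map_mul, map_sub, map_one, hτhf, hτe, hτa]
      linear_combination (hf*ai) * hae - (hf*a*e) * haai
  · exact ⟨e, 0, hee, by ring, by ring, by ring, h2, by ring, hτe, map_zero τ⟩

section Avg

variable (F : Type u) [Field F] {M : Type v} [Ring M] [Algebra F M]

/-- the averaging idempotent of `T` (with `T ^ k = 1`, `k` invertible) -/
noncomputable def avg (k : ℕ) (T : M) : M := ((k : F)⁻¹) • ∑ i ∈ Finset.range k, T ^ i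

variable {F}

theorem pow_fix (T x : M) (hT : T * x = x) (i : ℕ) : T ^ i * x = x := by
  induction i with
  | zero => rw [pow_zero, one_mul]
  | succ i ih => rw [pow_succ, mul_assoc, hT, ih]

theorem avg_fix (k : ℕ) (hk : (k : F) ≠ 0) (T x : M) (hT : T * x = x) : avg F k T * x = x := by
  unfold avg
  rw [smul_mul_assoc, Finset.sum_mul, Finset.sum_congr rfl (fun i _ => pow_fix T x hT i),
    Finset.sum_const, Finset.card_range, ← Nat.cast_smul_eq_nsmul F, smul_smul,
    inv_mul_cancel₀ hk, one_smul]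

theorem mul_avg (k : ℕ) (T : M) (hTk : T ^ k = 1) : T * avg F k T = avg F k T := by
  unfold avg
  rw [mul_smul_comm]
  congr 1
  rw [Finset.mul_sum]
  have h1 := Finset.sum_range_succ (fun i => T ^ i) k
  have h2 := Finset.sum_range_succ' (fun i => T ^ i) k
  simp only [hTk, pow_zero] at h1 h2
  rw [h1] at h2
  have h3 : ∑ i ∈ Finset.range k, T * T ^ i = ∑ i ∈ Finset.range k, T ^ (i + 1) :=
    Finset.sum_congr rfl (fun i _ => (pow_succ' T i).symm)
  rw [h3]
  exact (add_right_cancel h2).symm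

theorem avg_idem (k : ℕ) (hk : (k : F) ≠ 0) (T : M) (hTk : T ^ k = 1) :
    avg F k T * avg F k T = avg F k T :=
  avg_fix k hk T _ (mul_avg k T hTk)

theorem avg_commute (k : ℕ) (T z : M) (hz : Commute z T) : Commute z (avg F k T) := by
  unfold avg
  exact Commute.smul_right (Commute.sum_right _ _ _ (fun i _ => hz.pow_right i)) _

/-- the partial inverse of `T - 1` -/
noncomputable def pinv (F : Type u) [Field F] {M : Type v} [Ring M] [Algebra F M]
    (k : ℕ) (T : M) : M :=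
  (-(k : F)⁻¹) • ∑ i ∈ Finset.range k, ∑ j ∈ Finset.range i, T ^ j

theorem pinv_commute (k : ℕ) (T z : M) (hz : Commute z T) : Commute z (pinv F k T) := by
  unfold pinv
  exact Commute.smul_right (Commute.sum_right _ _ _
    (fun i _ => Commute.sum_right _ _ _ (fun j _ => hz.pow_right j))) _

theorem sub_one_mul_pinv (k : ℕ) (hk : (k : F) ≠ 0) (T : M) :
    (T - 1) * pinv F k T = 1 - avg F k T := by
  unfold pinv avg
  rw [mul_smul_comm, Finset.mul_sum,
    Finset.sum_congr rfl (fun i _ => mul_geom_sum T i), Finset.sum_sub_distrib,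
    Finset.sum_const, Finset.card_range, smul_sub, ← Nat.cast_smul_eq_nsmul F, smul_smul,
    neg_mul, inv_mul_cancel₀ hk, neg_smul, neg_smul, one_smul]
  abel

end Avg

section Mat

variable {n : Type u} [Fintype n] [DecidableEq n] {F : Type v} [Field F]

/-- the adjoint with respect to the form `J` (for `J * J = -1`) -/
def adj (J X : Matrix n n F) : Matrix n n F := -(J * Xᵀ * J)

theorem adj_mul (J : Matrix n n F) (hJJ : J * J = -1) (X Y : Matrix n n F) :
    adj J (X * Y) = adj J Y * adj J X := by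
  unfold adj
  rw [Matrix.transpose_mul]
  calc -(J * (Yᵀ * Xᵀ) * J) = J * Yᵀ * (J * J) * Xᵀ * J := by
        rw [hJJ]; simp [Matrix.mul_assoc]
    _ = -(J * Yᵀ * J) * -(J * Xᵀ * J) := by
        simp only [neg_mul, mul_neg, neg_neg, Matrix.mul_assoc]

theorem adj_add (J X Y : Matrix n n F) : adj J (X + Y) = adj J X + adj J Y := by
  unfold adj
  rw [Matrix.transpose_add, Matrix.mul_add, Matrix.add_mul, neg_add]

theorem adj_zero (J : Matrix n n F) : adj J 0 = 0 := by
  unfold adj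
  simp

theorem adj_one (J : Matrix n n F) (hJJ : J * J = -1) : adj J 1 = 1 := by
  unfold adj
  rw [Matrix.transpose_one, Matrix.mul_one, hJJ, neg_neg]

theorem adj_adj (J : Matrix n n F) (hJJ : J * J = -1) (hJt : Jᵀ = -J) (X : Matrix n n F) :
    adj J (adj J X) = X := by
  unfold adj
  rw [Matrix.transpose_neg, Matrix.transpose_mul, Matrix.transpose_mul,
    Matrix.transpose_transpose, hJt]
  calc -(J * -(-J * (X * -J)) * J) = (J * J) * X * (J * J) := by
        simp only [neg_mul, mul_neg, neg_neg, Matrix.mul_assoc]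
    _ = X := by rw [hJJ]; simp

theorem adj_sp (J : Matrix n n F) (hJJ : J * J = -1) (A Ai : Matrix n n F)
    (hAAi : A * Ai = 1) (hA : Aᵀ * J * A = J) : adj J A = Ai := by
  have h1 : Aᵀ * J = J * Ai := by
    calc Aᵀ * J = Aᵀ * J * (A * Ai) := by rw [hAAi, Matrix.mul_one]
      _ = (Aᵀ * J * A) * Ai := by simp only [Matrix.mul_assoc]
      _ = J * Ai := by rw [hA]
  unfold adj
  rw [Matrix.mul_assoc, h1, ← Matrix.mul_assoc, hJJ]
  simp

/-- the double centralizer of `{A, h}` -/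
def dc2 (A h : Matrix n n F) : Subring (Matrix n n F) :=
  Subring.centralizer ((Subring.centralizer ({A, h} : Set (Matrix n n F)) :
    Subring (Matrix n n F)) : Set (Matrix n n F))

theorem mem_dc2 (A h m : Matrix n n F) :
    m ∈ dc2 A h ↔ ∀ z : Matrix n n F, A * z = z * A → h * z = z * h → z * m = m * z := by
  unfold dc2
  rw [Subring.mem_centralizer_iff]
  constructor
  · intro hm z hz1 hz2
    refine hm z ?_
    rw [SetLike.mem_coe, Subring.mem_centralizer_iff]
    intro g hg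
    rcases hg with rfl | hg
    · exact hz1
    · rw [Set.mem_singleton_iff] at hg
      rw [hg]; exact hz2
  · intro hm z hz
    rw [SetLike.mem_coe, Subring.mem_centralizer_iff] at hz
    exact hm z (hz A (Set.mem_insert _ _)) (hz h (Set.mem_insert_of_mem _ rfl))

theorem dc2_comm (A h : Matrix n n F) (hAh : A * h = h * A) (a b : Matrix n n F)
    (ha : a ∈ dc2 A h) (hb : b ∈ dc2 A h) : a * b = b * a := by
  rw [mem_dc2] at ha hb
  exact hb a (ha A rfl hAh.symm) (ha h hAh rfl)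

/-- the commutative ring structure on the double centralizer -/
@[reducible] noncomputable def dc2CommRing (A h : Matrix n n F) (hAh : A * h = h * A) :
    CommRing ↥(dc2 A h) :=
  { (inferInstance : Ring ↥(dc2 A h)) with
    mul_comm := fun a b => Subtype.ext (dc2_comm A h hAh a.1 b.1 a.2 b.2) }

theorem adj_mem_dc2 (J : Matrix n n F) (hJJ : J * J = -1) (hJt : Jᵀ = -J)
    (A Ai h : Matrix n n F) (hAAi : A * Ai = 1) (hAiA : Ai * A = 1) (hA : Aᵀ * J * A = J)
    (hh : adj J h = h) (m : Matrix n n F) (hm : m ∈ dc2 A h) : adj J m ∈ dc2 A h := by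
  rw [mem_dc2] at hm ⊢
  intro z hz1 hz2
  have hadjA := adj_sp J hJJ A Ai hAAi hA
  have h1 : A * adj J z = adj J z * A := by
    have := congrArg (adj J) hz1
    rw [adj_mul J hJJ, adj_mul J hJJ, hadjA] at this
    calc A * adj J z = A * (adj J z * Ai) * A := by
          rw [Matrix.mul_assoc, Matrix.mul_assoc, hAiA, Matrix.mul_one]
      _ = A * (Ai * adj J z) * A := by rw [this]
      _ = adj J z * A := by rw [← Matrix.mul_assoc, hAAi, Matrix.one_mul]
  have h2 : h * adj J z = adj J z * h := by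
    have := congrArg (adj J) hz2
    rw [adj_mul J hJJ, adj_mul J hJJ, hh] at this
    exact this.symm
  have h3 := congrArg (adj J) (hm _ h1 h2)
  rw [adj_mul J hJJ, adj_mul J hJJ, adj_adj J hJJ hJt] at h3
  exact h3.symm

theorem inv_mem_dc2 (A h a ai : Matrix n n F) (haai : a * ai = 1) (haia : ai * a = 1)
    (ha : a ∈ dc2 A h) : ai ∈ dc2 A h := by
  rw [mem_dc2] at ha ⊢
  intro z hz1 hz2
  have := ha z hz1 hz2
  calc z * ai = ai * a * (z * ai) := by rw [haia, Matrix.one_mul]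
    _ = ai * (a * z) * ai := by simp only [Matrix.mul_assoc]
    _ = ai * (z * a) * ai := by rw [this]
    _ = ai * z * (a * ai) := by simp only [Matrix.mul_assoc]
    _ = ai * z := by rw [haai, Matrix.mul_one]

theorem adj_avg (J : Matrix n n F) (hJJ : J * J = -1) (hJt : Jᵀ = -J)
    (A Ai : Matrix n n F) (hAAi : A * Ai = 1) (hAiA : Ai * A = 1) (hA : Aᵀ * J * A = J)
    (k : ℕ) (hAk : A ^ k = 1) (hk : (k : F) ≠ 0) :
    adj J (avg F k (A * A)) = avg F k (A * A) := by
  have hadjA := adj_sp J hJJ A Ai hAAi hA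
  have hTk : (A * A) ^ k = 1 := by rw [← pow_two, ← pow_mul, mul_comm, pow_mul, hAk, one_pow]
  have h1 : A * A * avg F k (A * A) = avg F k (A * A) := mul_avg k _ hTk
  have h2 : avg F k (A * A) * (A * A) = avg F k (A * A) := by
    rw [← (avg_commute k (A * A) (A * A) (Commute.refl _)).eq, h1]
  have h3 : Ai * Ai * adj J (avg F k (A * A)) = adj J (avg F k (A * A)) := by
    have := congrArg (adj J) h2
    rwa [adj_mul J hJJ, adj_mul J hJJ, hadjA] at this
  have h4 : A * A * adj J (avg F k (A * A)) = adj J (avg F k (A * A)) := by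
    calc A * A * adj J (avg F k (A * A)) = A * A * (Ai * Ai * adj J (avg F k (A * A))) := by
          rw [h3]
      _ = A * (A * Ai) * Ai * adj J (avg F k (A * A)) := by simp only [Matrix.mul_assoc]
      _ = adj J (avg F k (A * A)) := by rw [hAAi, Matrix.mul_one, hAAi, Matrix.one_mul]
  have h5 : avg F k (A * A) * adj J (avg F k (A * A)) = adj J (avg F k (A * A)) :=
    avg_fix k hk _ _ h4
  have h6 := congrArg (adj J) h5
  rw [adj_mul J hJJ, adj_adj J hJJ hJt, h5] at h6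
  exact h6

theorem parts [Finite F] (J : Matrix n n F) (hJJ : J * J = -1) (hJt : Jᵀ = -J)
    (A Ai h hi : Matrix n n F) (hAAi : A * Ai = 1) (hAiA : Ai * A = 1) (hA : Aᵀ * J * A = J)
    (hhi : h * hi = 1) (hih : hi * h = 1) (hh : adj J h = h) (hAh : A * h = h * A)
    (k : ℕ) (hAk : A ^ k = 1) (hk : (k : F) ≠ 0) :
    ∃ c e₁ e₂ : Matrix n n F, c * A = A * c ∧ c * (1 - avg F k (A * A)) = c ∧
      (1 - avg F k (A * A)) * c = c ∧ adj J c * c = h * (1 - avg F k (A * A)) ∧
      e₁ * e₁ = e₁ ∧ e₂ * e₂ = e₂ ∧ e₁ * e₂ = 0 ∧ e₂ * e₁ = 0 ∧ e₁ + e₂ = avg F k (A * A) ∧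
      A * e₁ = e₁ ∧ e₁ * A = e₁ ∧ A * e₂ = -e₂ ∧ e₂ * A = -e₂ ∧ adj J e₁ = e₁ ∧ adj J e₂ = e₂ ∧
      h * e₁ = e₁ * h ∧ h * e₂ = e₂ * h := by
  let _ : CommRing ↥(dc2 A h) := dc2CommRing A h hAh
  have hadjA := adj_sp J hJJ A Ai hAAi hA
  have hTk : (A * A) ^ k = 1 := by rw [← pow_two, ← pow_mul, mul_comm, pow_mul, hAk, one_pow]
  have hAmem : A ∈ dc2 A h := by
    rw [mem_dc2]; intro z hz _; exact hz.symm
  have hhmem : h ∈ dc2 A h := by
    rw [mem_dc2]; intro z _ hz; exact hz.symm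
  have hAimem : Ai ∈ dc2 A h := inv_mem_dc2 A h A Ai hAAi hAiA hAmem
  have himem : hi ∈ dc2 A h := inv_mem_dc2 A h h hi hhi hih hhmem
  have hemem : avg F k (A * A) ∈ dc2 A h := by
    rw [mem_dc2]; intro z hz _
    have hc : Commute z A := hz.symm
    exact (avg_commute k (A * A) z (hc.mul_right hc)).eq
  have hwmem : A * pinv F k (A * A) ∈ dc2 A h := by
    rw [mem_dc2]; intro z hz _
    have hc : Commute z A := hz.symm
    exact (hc.mul_right (pinv_commute k (A * A) z (hc.mul_right hc))).eq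
  let τ : ↥(dc2 A h) →+* ↥(dc2 A h) :=
    { toFun := fun m => ⟨adj J m.1, adj_mem_dc2 J hJJ hJt A Ai h hAAi hAiA hA hh m.1 m.2⟩
      map_one' := Subtype.ext (adj_one J hJJ)
      map_mul' := fun a b => Subtype.ext (by
        show adj J (a.1 * b.1) = adj J a.1 * adj J b.1
        rw [adj_mul J hJJ]
        exact dc2_comm A h hAh _ _ (adj_mem_dc2 J hJJ hJt A Ai h hAAi hAiA hA hh b.1 b.2)
          (adj_mem_dc2 J hJJ hJt A Ai h hAAi hAiA hA hh a.1 a.2))
      map_zero' := Subtype.ext (adj_zero J)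
      map_add' := fun a b => Subtype.ext (adj_add J a.1 b.1) }
  have hτval : ∀ m : ↥(dc2 A h), (τ m).1 = adj J m.1 := fun m => rfl
  have hττ : ∀ m : ↥(dc2 A h), τ (τ m) = m := by
    intro m; apply Subtype.ext; rw [hτval, hτval, adj_adj J hJJ hJt]
  have hw : ((⟨A, hAmem⟩ : ↥(dc2 A h)) - ⟨Ai, hAimem⟩) * ⟨A * pinv F k (A * A), hwmem⟩
      = 1 - ⟨avg F k (A * A), hemem⟩ := by
    apply Subtype.ext
    show (A - Ai) * (A * pinv F k (A * A)) = 1 - avg F k (A * A)
    rw [← Matrix.mul_assoc, Matrix.sub_mul, hAiA, sub_one_mul_pinv k hk]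
  obtain ⟨c, hc1, hc2⟩ := norm_corner τ hττ ⟨A, hAmem⟩ ⟨Ai, hAimem⟩ ⟨avg F k (A * A), hemem⟩
    ⟨A * pinv F k (A * A), hwmem⟩ ⟨h, hhmem⟩ ⟨hi, himem⟩ (Subtype.ext hadjA)
    (Subtype.ext (avg_idem k hk _ hTk))
    (Subtype.ext (adj_avg J hJJ hJt A Ai hAAi hAiA hA k hAk hk)) hw (Subtype.ext hhi)
    (Subtype.ext hh)
  have hc2' : c.1 * (1 - avg F k (A * A)) = c.1 := congrArg Subtype.val hc2
  have hc1' : adj J c.1 * c.1 = h * (1 - avg F k (A * A)) := congrArg Subtype.val hc1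
  have hcA : A * c.1 = c.1 * A := (mem_dc2 A h c.1).mp c.2 A rfl hAh.symm
  have hsplit : (∃ hf : ↥(dc2 A h), hf + hf = 1 ∧ τ hf = hf) ∨
      (⟨A, hAmem⟩ : ↥(dc2 A h)) * ⟨avg F k (A * A), hemem⟩ = ⟨avg F k (A * A), hemem⟩ := by
    by_cases h2 : (2 : F) = 0
    · right
      apply Subtype.ext
      show A * avg F k (A * A) = avg F k (A * A)
      have hodd : k % 2 = 1 := by
        by_contra hne
        have hk2 : k = 2 * (k / 2) := by omega
        apply hk
        rw [hk2, Nat.cast_mul, Nat.cast_ofNat, h2, zero_mul]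
      have hA1 : (A * A) ^ ((k + 1) / 2) = A := by
        rw [← pow_two, ← pow_mul, show 2 * ((k + 1) / 2) = k + 1 by omega, pow_succ, hAk, one_mul]
      have := pow_fix (A * A) (avg F k (A * A)) (mul_avg k _ hTk) ((k + 1) / 2)
      rwa [hA1] at this
    · left
      have hmem : ((2⁻¹ : F) • (1 : Matrix n n F)) ∈ dc2 A h := by
        rw [mem_dc2]; intro z _ _
        rw [Matrix.mul_smul, Matrix.smul_mul, Matrix.mul_one, Matrix.one_mul]
      refine ⟨⟨_, hmem⟩, Subtype.ext ?_, Subtype.ext ?_⟩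
      · show (2⁻¹ : F) • (1 : Matrix n n F) + (2⁻¹ : F) • (1 : Matrix n n F) = 1
        rw [← add_smul, ← two_mul, mul_inv_cancel₀ h2, one_smul]
      · show adj J ((2⁻¹ : F) • (1 : Matrix n n F)) = (2⁻¹ : F) • (1 : Matrix n n F)
        unfold adj
        rw [Matrix.transpose_smul, Matrix.transpose_one, Matrix.mul_smul, Matrix.mul_one,
          Matrix.smul_mul, hJJ, smul_neg, neg_neg]
  obtain ⟨e₁, e₂, h11, h22, h12, hs, ha1, ha2, ht1, ht2⟩ := split τ ⟨A, hAmem⟩ ⟨Ai, hAimem⟩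
    ⟨avg F k (A * A), hemem⟩ (Subtype.ext hAAi) (Subtype.ext hadjA)
    (Subtype.ext (avg_idem k hk _ hTk))
    (Subtype.ext (adj_avg J hJJ hJt A Ai hAAi hAiA hA k hAk hk))
    (Subtype.ext (mul_avg k _ hTk)) hsplit
  have h11' : e₁.1 * e₁.1 = e₁.1 := congrArg Subtype.val h11
  have h22' : e₂.1 * e₂.1 = e₂.1 := congrArg Subtype.val h22
  have h12' : e₁.1 * e₂.1 = 0 := congrArg Subtype.val h12
  have hs' : e₁.1 + e₂.1 = avg F k (A * A) := congrArg Subtype.val hs
  have ha1' : A * e₁.1 = e₁.1 := congrArg Subtype.val ha1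
  have ha2' : A * e₂.1 = -e₂.1 := congrArg Subtype.val ha2
  have ht1' : adj J e₁.1 = e₁.1 := congrArg Subtype.val ht1
  have ht2' : adj J e₂.1 = e₂.1 := congrArg Subtype.val ht2
  refine ⟨c.1, e₁.1, e₂.1, hcA.symm, hc2', ?_, hc1', h11', h22', h12', ?_, hs', ha1', ?_, ha2', ?_,
    ht1', ht2', dc2_comm A h hAh _ _ hhmem e₁.2, dc2_comm A h hAh _ _ hhmem e₂.2⟩
  · have h1 : (1 - avg F k (A * A)) ∈ dc2 A h := Subring.sub_mem _ (Subring.one_mem _) hemem
    rw [dc2_comm A h hAh _ _ h1 c.2, hc2']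
  · rw [dc2_comm A h hAh _ _ e₂.2 e₁.2, h12']
  · rw [dc2_comm A h hAh _ _ e₁.2 hAmem, ha1']
  · rw [dc2_comm A h hAh _ _ e₂.2 hAmem, ha2']

end Mat

end Cfsg.Agent.Lib.helper4.SympConjNorm
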