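import Mathlib
import Cfsg.Agent.Lib.helper4.SympConjNorm
import Cfsg.Agent.Lib.helper4.SympConjCorner

set_option autoImplicit false

/-!
Conjugacy of semisimple elements of the symplectic group: `Sp`-conjugate iff `GL`-conjugate.
-/

namespace Cfsg.Agent.Lib.helper4.SympConj

open Cfsg.Agent.Lib.helper4.SympConjNorm Cfsg.Agent.Lib.helper4.SympConjCorner
open scoped Matrix

universe u v

variable {n : Type u} [Fintype n] [DecidableEq n] {F : Type v} [Field F]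

theorem adj_fix (J X : Matrix n n F) (hJJ : J * J = -1) (h : adj J X = X) : Xᵀ * J = J * X := by
  have h1 : J * X = J * adj J X := by rw [h]
  rw [h1]
  unfold adj
  rw [Matrix.mul_neg, ← Matrix.mul_assoc, ← Matrix.mul_assoc, hJJ]
  simp

theorem cross (J ci cj ei ej : Matrix n n F) (hci : ei * ci = ci) (hcj : ej * cj = cj)
    (hE : eiᵀ * J = J * ei) (h0 : ei * ej = 0) : ciᵀ * J * cj = 0 := by
  calc ciᵀ * J * cj = (ei * ci)ᵀ * J * (ej * cj) := by rw [hci, hcj]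
    _ = ciᵀ * (eiᵀ * J) * ej * cj := by rw [Matrix.transpose_mul]; simp only [Matrix.mul_assoc]
    _ = ciᵀ * J * (ei * ej) * cj := by rw [hE]; simp only [Matrix.mul_assoc]
    _ = 0 := by rw [h0]; simp

theorem sp_conj_core [Finite F] (J : Matrix n n F) (hJJ : J * J = -1) (hJt : Jᵀ = -J)
    (hJalt : ∀ x : n → F, x ⬝ᵥ J *ᵥ x = 0)
    (A Ai B X Xi : Matrix n n F) (hAAi : A * Ai = 1) (hAiA : Ai * A = 1)
    (hA : Aᵀ * J * A = J) (hA' : A * J * Aᵀ = J) (hB : Bᵀ * J * B = J)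
    (hXXi : X * Xi = 1) (hXiX : Xi * X = 1) (hXA : X * A = B * X)
    (k : ℕ) (hAk : A ^ k = 1) (hk : (k : F) ≠ 0) :
    ∃ c ci : Matrix n n F, c * ci = 1 ∧ ci * c = 1 ∧ c * A = A * c ∧
      cᵀ * J * c = Xᵀ * J * X := by
  obtain ⟨G, hG⟩ : ∃ G, G = Xᵀ * J * X := ⟨_, rfl⟩
  obtain ⟨Gi, hGi⟩ : ∃ Gi, Gi = -(Xi * J * Xiᵀ) := ⟨_, rfl⟩
  have hGGi : G * Gi = 1 := by
    rw [hG, hGi]
    calc Xᵀ * J * X * -(Xi * J * Xiᵀ) = -(Xᵀ * J * (X * Xi) * J * Xiᵀ) := by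
          simp only [Matrix.mul_neg, Matrix.mul_assoc]
      _ = -(Xᵀ * (J * J) * Xiᵀ) := by rw [hXXi, Matrix.mul_one]; simp only [Matrix.mul_assoc]
      _ = Xᵀ * Xiᵀ := by rw [hJJ]; simp
      _ = 1 := by rw [← Matrix.transpose_mul, hXiX, Matrix.transpose_one]
  have hGiG : Gi * G = 1 := mul_eq_one_comm.mp hGGi
  have hGt : Gᵀ = -G := by
    rw [hG, Matrix.transpose_mul, Matrix.transpose_mul, Matrix.transpose_transpose, hJt]
    simp [Matrix.mul_assoc]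
  obtain ⟨h, hh⟩ : ∃ h, h = -(J * G) := ⟨_, rfl⟩
  obtain ⟨hi, hhi⟩ : ∃ hi, hi = Gi * J := ⟨_, rfl⟩
  have hJh : J * h = G := by
    rw [hh, Matrix.mul_neg, ← Matrix.mul_assoc, hJJ]; simp
  have hhhi : h * hi = 1 := by
    rw [hh, hhi]
    calc -(J * G) * (Gi * J) = -(J * (G * Gi) * J) := by
          simp only [Matrix.neg_mul, Matrix.mul_assoc]
      _ = 1 := by rw [hGGi, Matrix.mul_one, hJJ, neg_neg]
  have hhih : hi * h = 1 := mul_eq_one_comm.mp hhhi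
  have hhJ : hᵀ * J = J * h := by
    rw [hJh, hh, Matrix.transpose_neg, Matrix.transpose_mul, hGt, hJt]
    calc -(-G * -J) * J = -(G * (J * J)) := by
          simp only [Matrix.neg_mul, Matrix.mul_neg, neg_neg, Matrix.mul_assoc]
      _ = G := by rw [hJJ]; simp
  have hadjh : adj J h = h := by
    unfold adj
    rw [Matrix.mul_assoc, hhJ, hJh, hh]
  have halt : ∀ x : n → F, x ⬝ᵥ (J * h) *ᵥ x = 0 := by
    intro x
    have h1 : (Xᵀ * J * X) *ᵥ x = Xᵀ *ᵥ (J *ᵥ (X *ᵥ x)) := by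
      rw [Matrix.mulVec_mulVec, Matrix.mulVec_mulVec]
    rw [hJh, hG, h1, Matrix.dotProduct_mulVec, Matrix.vecMul_transpose]
    exact hJalt _
  have hinj : ∀ x : n → F, h *ᵥ x = 0 → x = 0 := by
    intro x hx
    have h1 : hi *ᵥ (h *ᵥ x) = x := by rw [Matrix.mulVec_mulVec, hhih, Matrix.one_mulVec]
    rw [← h1, hx, Matrix.mulVec_zero]
  have hAG : Aᵀ * G * A = G := by
    rw [hG]
    calc Aᵀ * (Xᵀ * J * X) * A = (X * A)ᵀ * J * (X * A) := by
          rw [Matrix.transpose_mul]; simp only [Matrix.mul_assoc]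
      _ = Xᵀ * (Bᵀ * J * B) * X := by
          rw [hXA, Matrix.transpose_mul]; simp only [Matrix.mul_assoc]
      _ = Xᵀ * J * X := by rw [hB]
  have hGA : G * A = Aiᵀ * G := by
    calc G * A = (A * Ai)ᵀ * G * A := by rw [hAAi, Matrix.transpose_one, Matrix.one_mul]
      _ = Aiᵀ * (Aᵀ * G * A) := by rw [Matrix.transpose_mul]; simp only [Matrix.mul_assoc]
      _ = Aiᵀ * G := by rw [hAG]
  have hAJ : A * J = J * Aiᵀ := by
    calc A * J = A * J * (Ai * A)ᵀ := by rw [hAiA, Matrix.transpose_one, Matrix.mul_one]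
      _ = (A * J * Aᵀ) * Aiᵀ := by rw [Matrix.transpose_mul]; simp only [Matrix.mul_assoc]
      _ = J * Aiᵀ := by rw [hA']
  have hAh : A * h = h * A := by
    rw [hh, Matrix.mul_neg, Matrix.neg_mul, ← Matrix.mul_assoc, hAJ, Matrix.mul_assoc J G A, hGA]
    simp only [Matrix.mul_assoc]
  obtain ⟨c₀, e₁, e₂, hc₀A, hc₀e, hec₀, hc₀, he₁, he₂, he₁₂, he₂₁, hsum, hAe₁, he₁A, hAe₂, he₂A,
    hτ₁, hτ₂, hhe₁, hhe₂⟩ := parts J hJJ hJt A Ai h hi hAAi hAiA hA hhhi hhih hadjh hAh k hAk hk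
  have hE₁ := adj_fix J e₁ hJJ hτ₁
  have hE₂ := adj_fix J e₂ hJJ hτ₂
  obtain ⟨c₁, hc₁a, hc₁b, hc₁⟩ := corner J hJJ hJalt e₁ h he₁ hE₁ hhJ hhe₁ hinj halt
  obtain ⟨c₂, hc₂a, hc₂b, hc₂⟩ := corner J hJJ hJalt e₂ h he₂ hE₂ hhJ hhe₂ hinj halt
  obtain ⟨e, hedef⟩ : ∃ e, e = avg F k (A * A) := ⟨_, rfl⟩
  rw [← hedef] at hc₀e hec₀ hc₀ hsum
  have hE : eᵀ * J = J * e := by
    rw [hedef]
    exact adj_fix J _ hJJ (adj_avg J hJJ hJt A Ai hAAi hAiA hA k hAk hk)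
  have hE₀ : (1 - e)ᵀ * J = J * (1 - e) := by
    rw [Matrix.transpose_sub, Matrix.transpose_one, Matrix.sub_mul, Matrix.mul_sub, hE,
      Matrix.one_mul, Matrix.mul_one]
  have hc₀' : c₀ᵀ * J * c₀ = J * h * (1 - e) := by
    have h1 : J * (adj J c₀ * c₀) = c₀ᵀ * J * c₀ := by
      unfold adj
      calc J * (-(J * c₀ᵀ * J) * c₀) = -((J * J) * c₀ᵀ * J * c₀) := by
            simp only [Matrix.neg_mul, Matrix.mul_neg, Matrix.mul_assoc]
        _ = c₀ᵀ * J * c₀ := by rw [hJJ]; simp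
    rw [← h1, hc₀, Matrix.mul_assoc]
  have z10 : e₁ * (1 - e) = 0 := by
    rw [← hsum, Matrix.mul_sub, Matrix.mul_one, Matrix.mul_add, he₁, he₁₂, add_zero, sub_self]
  have z01 : (1 - e) * e₁ = 0 := by
    rw [← hsum, Matrix.sub_mul, Matrix.one_mul, Matrix.add_mul, he₁, he₂₁, add_zero, sub_self]
  have z20 : e₂ * (1 - e) = 0 := by
    rw [← hsum, Matrix.mul_sub, Matrix.mul_one, Matrix.mul_add, he₂, he₂₁, zero_add, sub_self]
  have z02 : (1 - e) * e₂ = 0 := by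
    rw [← hsum, Matrix.sub_mul, Matrix.one_mul, Matrix.add_mul, he₂, he₁₂, zero_add, sub_self]
  have x12 := cross J c₁ c₂ e₁ e₂ hc₁a hc₂a hE₁ he₁₂
  have x21 := cross J c₂ c₁ e₂ e₁ hc₂a hc₁a hE₂ he₂₁
  have x10 := cross J c₁ c₀ e₁ (1 - e) hc₁a hec₀ hE₁ z10
  have x01 := cross J c₀ c₁ (1 - e) e₁ hec₀ hc₁a hE₀ z01
  have x20 := cross J c₂ c₀ e₂ (1 - e) hc₂a hec₀ hE₂ z20
  have x02 := cross J c₀ c₂ (1 - e) e₂ hec₀ hc₂a hE₀ z02
  have hcc : (c₁ + c₂ + c₀)ᵀ * J * (c₁ + c₂ + c₀) = G := by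
    rw [Matrix.transpose_add, Matrix.transpose_add]
    simp only [Matrix.add_mul, Matrix.mul_add]
    rw [hc₁, hc₂, hc₀', x12, x21, x10, x01, x20, x02]
    simp only [add_zero, zero_add]
    rw [← Matrix.mul_add, ← Matrix.mul_add, hsum, add_sub_cancel, Matrix.mul_one, hJh]
  have hcA : (c₁ + c₂ + c₀) * A = A * (c₁ + c₂ + c₀) := by
    have h1 : c₁ * A = A * c₁ := by
      calc c₁ * A = c₁ * (e₁ * A) := by rw [← Matrix.mul_assoc, hc₁b]
        _ = c₁ := by rw [he₁A, hc₁b]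
        _ = A * e₁ * c₁ := by rw [hAe₁, hc₁a]
        _ = A * c₁ := by rw [Matrix.mul_assoc, hc₁a]
    have h2 : c₂ * A = A * c₂ := by
      calc c₂ * A = c₂ * (e₂ * A) := by rw [← Matrix.mul_assoc, hc₂b]
        _ = -c₂ := by rw [he₂A, Matrix.mul_neg, hc₂b]
        _ = A * e₂ * c₂ := by rw [hAe₂, Matrix.neg_mul, hc₂a]
        _ = A * c₂ := by rw [Matrix.mul_assoc, hc₂a]
    rw [Matrix.add_mul, Matrix.add_mul, Matrix.mul_add, Matrix.mul_add, h1, h2, hc₀A]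
  have hleft : (Gi * (c₁ + c₂ + c₀)ᵀ * J) * (c₁ + c₂ + c₀) = 1 := by
    calc (Gi * (c₁ + c₂ + c₀)ᵀ * J) * (c₁ + c₂ + c₀)
        = Gi * ((c₁ + c₂ + c₀)ᵀ * J * (c₁ + c₂ + c₀)) := by simp only [Matrix.mul_assoc]
      _ = 1 := by rw [hcc, hGiG]
  exact ⟨c₁ + c₂ + c₀, Gi * (c₁ + c₂ + c₀)ᵀ * J, mul_eq_one_comm.mp hleft, hleft, hcA, by
    rw [hcc, hG]⟩

theorem J_alt (m : ℕ) (F : Type v) [Field F] (x : Fin m ⊕ Fin m → F) :
    x ⬝ᵥ Matrix.J (Fin m) F *ᵥ x = 0 := by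
  simp only [Matrix.J, dotProduct, Matrix.mulVec, Fintype.sum_sum_type, Matrix.fromBlocks_apply₁₁,
    Matrix.fromBlocks_apply₁₂, Matrix.fromBlocks_apply₂₁, Matrix.fromBlocks_apply₂₂,
    Matrix.zero_apply, Matrix.neg_apply, Matrix.one_apply, zero_mul, Finset.sum_const_zero,
    zero_add, add_zero, neg_mul, ite_mul, one_mul, Finset.sum_neg_distrib, Finset.sum_ite_eq,
    Finset.mem_univ, if_true]
  rw [← Finset.sum_add_distrib]
  apply Finset.sum_eq_zero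
  intro i _
  ring

theorem sp_conj_iff {F : Type v} [Field F] [Fintype F] {p : ℕ} [Fact p.Prime] [CharP F p]
    {m : ℕ} (A B : Matrix.symplecticGroup (Fin m) F) (hA : (orderOf A).Coprime p) :
    IsConj A B ↔ IsConj (A : Matrix (Fin m ⊕ Fin m) (Fin m ⊕ Fin m) F)
      (B : Matrix (Fin m ⊕ Fin m) (Fin m ⊕ Fin m) F) := by
  constructor
  · intro h
    exact (Submonoid.subtype (Matrix.symplecticGroup (Fin m) F)).map_isConj h
  · rintro ⟨g, hg⟩
    have hXA : (g : Matrix (Fin m ⊕ Fin m) (Fin m ⊕ Fin m) F) * A.1 = B.1 * g := hg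
    have hAAi : A.1 * (A⁻¹).1 = 1 := by
      have : (A * A⁻¹).1 = 1 := by rw [mul_inv_cancel]; rfl
      exact this
    have hAiA : (A⁻¹).1 * A.1 = 1 := by
      have : (A⁻¹ * A).1 = 1 := by rw [inv_mul_cancel]; rfl
      exact this
    have hAk : A.1 ^ orderOf A = 1 := by
      have : (A ^ orderOf A).1 = 1 := by rw [pow_orderOf_eq_one]; rfl
      rwa [SubmonoidClass.coe_pow] at this
    have hk : ((orderOf A : ℕ) : F) ≠ 0 := by
      intro h0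
      have hdvd := (CharP.cast_eq_zero_iff F p (orderOf A)).mp h0
      have := Nat.Coprime.eq_one_of_dvd hA.symm hdvd
      exact (Fact.out : p.Prime).one_lt.ne' this
    obtain ⟨c, ci, hcci, hcic, hcA, hcJ⟩ := sp_conj_core (Matrix.J (Fin m) F)
      (Matrix.J_squared (Fin m) F) (Matrix.J_transpose (Fin m) F) (J_alt m F)
      A.1 (A⁻¹).1 B.1 (g : Matrix (Fin m ⊕ Fin m) (Fin m ⊕ Fin m) F)
      ((g⁻¹ : (Matrix (Fin m ⊕ Fin m) (Fin m ⊕ Fin m) F)ˣ) :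
        Matrix (Fin m ⊕ Fin m) (Fin m ⊕ Fin m) F) hAAi hAiA
      (SymplecticGroup.mem_iff'.mp A.2) (SymplecticGroup.mem_iff.mp A.2)
      (SymplecticGroup.mem_iff'.mp B.2) (Units.mul_inv g) (Units.inv_mul g) hXA
      (orderOf A) hAk hk
    obtain ⟨X, hX⟩ : ∃ X : Matrix (Fin m ⊕ Fin m) (Fin m ⊕ Fin m) F, X = g := ⟨_, rfl⟩
    rw [← hX] at hcJ hXA
    have hmem : X * ci ∈ Matrix.symplecticGroup (Fin m) F := by
      rw [SymplecticGroup.mem_iff']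
      calc (X * ci)ᵀ * Matrix.J (Fin m) F * (X * ci)
          = ciᵀ * (Xᵀ * Matrix.J (Fin m) F * X) * ci := by
            rw [Matrix.transpose_mul]; simp only [Matrix.mul_assoc]
        _ = (c * ci)ᵀ * Matrix.J (Fin m) F * (c * ci) := by
            rw [← hcJ, Matrix.transpose_mul]; simp only [Matrix.mul_assoc]
        _ = Matrix.J (Fin m) F := by rw [hcci, Matrix.transpose_one, Matrix.one_mul, Matrix.mul_one]
    have hciA : ci * A.1 = A.1 * ci := by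
      calc ci * A.1 = ci * A.1 * (c * ci) := by rw [hcci, Matrix.mul_one]
        _ = ci * (A.1 * c) * ci := by simp only [Matrix.mul_assoc]
        _ = ci * (c * A.1) * ci := by rw [hcA]
        _ = (ci * c) * A.1 * ci := by simp only [Matrix.mul_assoc]
        _ = A.1 * ci := by rw [hcic, Matrix.one_mul]
    rw [isConj_iff]
    refine ⟨⟨X * ci, hmem⟩, ?_⟩
    rw [mul_inv_eq_iff_eq_mul]
    apply Subtype.ext
    show X * ci * A.1 = B.1 * (X * ci)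
    rw [Matrix.mul_assoc, hciA, ← Matrix.mul_assoc, hXA, Matrix.mul_assoc]

end Cfsg.Agent.Lib.helper4.SympConj
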