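import Mathlib
import Cfsg.Agent.S0765
import Cfsg.Agent.Lib.helper4.SympConj

set_option autoImplicit false

/-!
Symplectic matrices have determinant one and a self-reciprocal characteristic polynomial.
-/

namespace Cfsg.Agent.Lib.helper4.SpPalin

open Polynomial
open scoped Matrix

universe u

variable {F : Type u} [Field F] {m : ℕ}

theorem det_sympTransvection (w : Fin m ⊕ Fin m → F) (c : F) :
    (Cfsg.sympTransvection m w c).det = 1 := by
  unfold Cfsg.sympTransvection
  rw [← Matrix.smul_vecMulVec, Matrix.vecMulVec_eq (ι := Unit),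
    Matrix.det_one_add_replicateCol_mul_replicateRow, dotProduct_smul, dotProduct_comm,
    SympConj.J_alt, smul_zero, add_zero]

theorem sp_det_one (A : Matrix.symplecticGroup (Fin m) F) :
    (A : Matrix (Fin m ⊕ Fin m) (Fin m ⊕ Fin m) F).det = 1 := by
  have hA : A ∈ Subgroup.closure {A : Matrix.symplecticGroup (Fin m) F |
      ∃ (w : Fin m ⊕ Fin m → F) (c : F),
        (A : Matrix (Fin m ⊕ Fin m) (Fin m ⊕ Fin m) F) = Cfsg.sympTransvection m w c} := by
    rw [Cfsg.Agent.S0765.result]
    exact Subgroup.mem_top A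
  induction hA using Subgroup.closure_induction with
  | mem x hx =>
    obtain ⟨w, c, hwc⟩ := hx
    rw [hwc, det_sympTransvection]
  | one => exact Matrix.det_one
  | mul x y _ _ hx hy =>
    have : ((x * y : Matrix.symplecticGroup (Fin m) F) :
        Matrix (Fin m ⊕ Fin m) (Fin m ⊕ Fin m) F) = x.1 * y.1 := rfl
    rw [this, Matrix.det_mul, hx, hy, mul_one]
  | inv x _ hx =>
    have h1 : x.1 * (x⁻¹).1 = 1 := by
      have : (x * x⁻¹).1 = 1 := by rw [mul_inv_cancel]; rfl
      exact this
    have h2 := congrArg Matrix.det h1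
    rw [Matrix.det_mul, hx, one_mul, Matrix.det_one] at h2
    exact h2

theorem sp_charpoly_inv (A : Matrix.symplecticGroup (Fin m) F) :
    ((A⁻¹ : Matrix.symplecticGroup (Fin m) F) :
      Matrix (Fin m ⊕ Fin m) (Fin m ⊕ Fin m) F).charpoly = A.1.charpoly := by
  rw [SymplecticGroup.coe_inv, Matrix.charpoly_mul_comm, ← Matrix.mul_assoc, Matrix.mul_neg,
    Matrix.J_squared, neg_neg, Matrix.one_mul, Matrix.charpoly_transpose]

theorem sp_charpoly_reverse (A : Matrix.symplecticGroup (Fin m) F) :
    A.1.charpoly.reverse = A.1.charpoly := by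
  have h1 : A.1 * (A⁻¹).1 = 1 := by
    have : (A * A⁻¹).1 = 1 := by rw [mul_inv_cancel]; rfl
    exact this
  have h2 : (A⁻¹).1 * A.1 = 1 := by
    have : (A⁻¹ * A).1 = 1 := by rw [inv_mul_cancel]; rfl
    exact this
  rw [Matrix.reverse_charpoly]
  conv_rhs => rw [← sp_charpoly_inv A]
  unfold Matrix.charpolyRev Matrix.charpoly
  have h3 : Matrix.charmatrix (A⁻¹).1 * (A.1).map C
      = -(1 - (X : F[X]) • (A.1).map C) := by
    unfold Matrix.charmatrix
    have h4 : (C : F →+* F[X]).mapMatrix (A⁻¹).1 * (A.1).map C = 1 := by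
      have := congrArg (C : F →+* F[X]).mapMatrix h2
      rw [map_mul, map_one] at this
      exact this
    rw [Matrix.sub_mul, h4, neg_sub]
    congr 1
    ext i j
    simp [Matrix.mul_apply, Matrix.scalar_apply, Matrix.diagonal_apply]
  have h5 := congrArg Matrix.det h3
  have h6 : ((A.1).map C).det = (1 : F[X]) := by
    have : (A.1).map C = (C : F →+* F[X]).mapMatrix A.1 := rfl
    rw [this, ← RingHom.map_det, sp_det_one, map_one]
  rw [Matrix.det_mul, h6, mul_one, Matrix.det_neg, Fintype.card_sum, Fintype.card_fin,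
    ← two_mul, pow_mul, neg_one_sq, one_pow, one_mul] at h5
  exact h5.symm

theorem sp_charpoly_coeff (A : Matrix.symplecticGroup (Fin m) F) (i : ℕ) (hi : i ≤ 2 * m) :
    A.1.charpoly.coeff i = A.1.charpoly.coeff (2 * m - i) := by
  have hdeg : A.1.charpoly.natDegree = 2 * m := by
    rw [Matrix.charpoly_natDegree_eq_dim, Fintype.card_sum, Fintype.card_fin, two_mul]
  have h := congrArg (fun P => P.coeff i) (sp_charpoly_reverse A)
  simp only [coeff_reverse, hdeg, revAt_le hi] at h
  exact h.symm

end Cfsg.Agent.Lib.helper4.SpPalin
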