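import Mathlib
import Cfsg.Agent.Lib.helper4.SympConj

set_option autoImplicit false

/-!
Realising `ψ ^ 2` as the characteristic polynomial of `g + g⁻¹` for a semisimple isometry `g` of a
nondegenerate alternating form.
-/

namespace Cfsg.Agent.Lib.helper4.SpReal

open Polynomial
open scoped Matrix
open Cfsg.Agent.Lib.helper4.SympConjNorm

universe u

theorem idem_pow {R : Type u} [Monoid R] (e : R) (he : e * e = e) (k : ℕ) (hk : 1 ≤ k) :
    e ^ k = e := by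
  induction k with
  | zero => omega
  | succ k ih =>
    rcases Nat.eq_zero_or_pos k with rfl | hk'
    · simp
    · rw [pow_succ, ih hk', he]

/-- In a commutative ring of characteristic `p`: if `g + g⁻¹` is fixed by the `p ^ N`-power map and
`(g - g⁻¹) ^ 2` is invertible then `g` is fixed by the `p ^ (2 N)`-power map. -/
theorem frob_order {R : Type u} [CommRing R] (p : ℕ) [Fact p.Prime] [CharP R p] (N : ℕ)
    (g gi Di : R) (hggi : g * gi = 1) (hT : (g + gi) ^ (p ^ N) = g + gi)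
    (hDi : (g - gi) * (g - gi) * Di = 1) : g ^ (p ^ N * p ^ N) = g := by
  obtain ⟨a, ha⟩ : ∃ a, a = g ^ (p ^ N) - g := ⟨_, rfl⟩
  have hg' : g ^ (p ^ N) = g + a := by rw [ha]; ring
  have h1 : g ^ (p ^ N) + gi ^ (p ^ N) = g + gi := by rw [← add_pow_char_pow, hT]
  have hgi' : gi ^ (p ^ N) = gi - a := by linear_combination h1 - hg'
  have h2 : g ^ (p ^ N) * gi ^ (p ^ N) = 1 := by rw [← mul_pow, hggi, one_pow]
  have hsq : a * a = -(g - gi) * a := by
    rw [hg', hgi'] at h2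
    linear_combination -h2 + hggi
  obtain ⟨δ, hδ⟩ : ∃ δ, δ = g - gi := ⟨_, rfl⟩
  rw [← hδ] at hsq hDi
  have hcube : a * a * a = δ * δ * a := by linear_combination (a - δ) * hsq
  obtain ⟨e, he⟩ : ∃ e, e = a * a * Di := ⟨_, rfl⟩
  have hea : e * a = a := by rw [he]; linear_combination Di * hcube + a * hDi
  have hee : e * e = e := by
    rw [he]; linear_combination (a * Di * Di) * hcube + (a * a * Di) * hDi
  have hae : a = -δ * e := by linear_combination (δ + a) * he - hea + (a * Di) * hsq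
  have hpos : 1 ≤ p ^ N := Nat.one_le_pow _ _ (Fact.out : p.Prime).pos
  have heQ : e ^ (p ^ N) = e := idem_pow e hee _ hpos
  have hδQ : δ ^ (p ^ N) = δ + (a + a) := by
    rw [hδ, sub_pow_char_pow, hg', hgi']; ring
  have haQ : a ^ (p ^ N) = -a := by
    have h3 : a ^ (p ^ N) = (-δ * e) ^ (p ^ N) := by rw [← hae]
    have h4 : (-δ) ^ (p ^ N) = -(δ ^ (p ^ N)) := by
      have := sub_pow_char_pow (0 : R) δ N (p := p)
      rw [zero_sub, zero_pow (by omega), zero_sub] at this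
      exact this
    rw [h3, mul_pow, heQ, h4, hδQ]
    linear_combination -hae - 2 * hea
  calc g ^ (p ^ N * p ^ N) = (g ^ (p ^ N)) ^ (p ^ N) := by rw [pow_mul]
    _ = (g + a) ^ (p ^ N) := by rw [hg']
    _ = g ^ (p ^ N) + a ^ (p ^ N) := add_pow_char_pow g a p N
    _ = g := by rw [hg', haQ]; ring

variable (F : Type u) [Field F]

/-- `ψ ^ 2` is the characteristic polynomial of `g + g⁻¹` for a semisimple isometry `g` of a
nondegenerate alternating form on a space of dimension `2 deg ψ`. -/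
def Real (ψ : F[X]) : Prop :=
  ∃ (ι : Type) (_ : Fintype ι) (_ : DecidableEq ι) (g gi Ω Ωi : Matrix ι ι F) (k : ℕ),
    Fintype.card ι = 2 * ψ.natDegree ∧ g * gi = 1 ∧ gi * g = 1 ∧ g ^ k = 1 ∧ (k : F) ≠ 0 ∧
    gᵀ * Ω * g = Ω ∧ (∀ x : ι → F, x ⬝ᵥ Ω *ᵥ x = 0) ∧ Ω * Ωi = 1 ∧
    (g + gi).charpoly = ψ ^ 2

variable {F}

theorem real_one : Real F 1 := by
  refine ⟨Empty, inferInstance, inferInstance, 1, 1, 1, 1, 1, ?_, ?_, ?_, ?_, ?_, ?_, ?_, ?_, ?_⟩
  · simp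
  · simp
  · simp
  · simp
  · simp
  · simp
  · intro x; simp
  · simp
  · simp [Matrix.charpoly]

theorem real_scalar (ε : F) (hε : ε * ε = 1) (k : ℕ) (hk : ε ^ k = 1) (hkF : (k : F) ≠ 0) :
    Real F (X - C (ε + ε)) := by
  refine ⟨Fin 1 ⊕ Fin 1, inferInstance, inferInstance, Matrix.diagonal (fun _ => ε),
    Matrix.diagonal (fun _ => ε), Matrix.J (Fin 1) F, -Matrix.J (Fin 1) F, k, ?_, ?_, ?_, ?_, hkF,
    ?_, SympConj.J_alt 1 F, ?_, ?_⟩
  · rw [natDegree_X_sub_C]; simp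
  · rw [Matrix.diagonal_mul_diagonal]; simp [hε]
  · rw [Matrix.diagonal_mul_diagonal]; simp [hε]
  · rw [Matrix.diagonal_pow]
    have : (fun _ : Fin 1 ⊕ Fin 1 => ε) ^ k = fun _ => (1 : F) := by
      funext i; rw [Pi.pow_apply, hk]
    rw [this]; simp
  · ext i j
    rw [Matrix.diagonal_transpose, Matrix.mul_diagonal, Matrix.diagonal_mul]
    linear_combination (Matrix.J (Fin 1) F i j) * hε
  · rw [Matrix.mul_neg, Matrix.J_squared, neg_neg]
  · rw [Matrix.diagonal_add, Matrix.charpoly_diagonal]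
    simp

theorem real_mul (ψ₁ ψ₂ : F[X]) (h₁ : ψ₁ ≠ 0) (h₂ : ψ₂ ≠ 0) (r₁ : Real F ψ₁) (r₂ : Real F ψ₂) :
    Real F (ψ₁ * ψ₂) := by
  obtain ⟨ι₁, _, _, g₁, gi₁, Ω₁, Ωi₁, k₁, hc₁, hg₁, hgi₁, hk₁, hkF₁, hΩ₁, ha₁, hi₁, hχ₁⟩ := r₁
  obtain ⟨ι₂, _, _, g₂, gi₂, Ω₂, Ωi₂, k₂, hc₂, hg₂, hgi₂, hk₂, hkF₂, hΩ₂, ha₂, hi₂, hχ₂⟩ := r₂
  refine ⟨ι₁ ⊕ ι₂, inferInstance, inferInstance, Matrix.fromBlocks g₁ 0 0 g₂,
    Matrix.fromBlocks gi₁ 0 0 gi₂, Matrix.fromBlocks Ω₁ 0 0 Ω₂, Matrix.fromBlocks Ωi₁ 0 0 Ωi₂,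
    k₁ * k₂, ?_, ?_, ?_, ?_, ?_, ?_, ?_, ?_, ?_⟩
  · rw [Fintype.card_sum, hc₁, hc₂, natDegree_mul h₁ h₂]; ring
  · rw [Matrix.fromBlocks_multiply]; simp [hg₁, hg₂]
  · rw [Matrix.fromBlocks_multiply]; simp [hgi₁, hgi₂]
  · rw [Matrix.fromBlocks_diagonal_pow, pow_mul, hk₁, one_pow, mul_comm, pow_mul, hk₂, one_pow,
      Matrix.fromBlocks_one]
  · rw [Nat.cast_mul]; exact mul_ne_zero hkF₁ hkF₂
  · rw [Matrix.fromBlocks_transpose, Matrix.fromBlocks_multiply, Matrix.fromBlocks_multiply]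
    simp [hΩ₁, hΩ₂]
  · intro x
    have e1 := ha₁ (x ∘ Sum.inl)
    have e2 := ha₂ (x ∘ Sum.inr)
    simp only [dotProduct, Matrix.mulVec, Fintype.sum_sum_type, Matrix.fromBlocks_apply₁₁,
      Matrix.fromBlocks_apply₁₂, Matrix.fromBlocks_apply₂₁, Matrix.fromBlocks_apply₂₂,
      Matrix.zero_apply, zero_mul, Finset.sum_const_zero, add_zero, zero_add,
      Function.comp_apply] at e1 e2 ⊢
    rw [e1, e2, add_zero]
  · rw [Matrix.fromBlocks_multiply]; simp [hi₁, hi₂]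
  · rw [Matrix.fromBlocks_add]
    simp only [add_zero]
    rw [Matrix.charpoly_fromBlocks_zero₁₂, hχ₁, hχ₂, mul_pow]


theorem exists_inv_sub {n : Type} [Fintype n] [DecidableEq n] (A : Matrix n n F) (f : F[X])
    (hfA : aeval A f = 0) (c : F) (hc : f.eval c ≠ 0) :
    ∃ M : Matrix n n F, (A - algebraMap F (Matrix n n F) c) * M = 1 := by
  have h := Polynomial.modByMonic_add_div f (X - Polynomial.C c)
  rw [modByMonic_X_sub_C_eq_C_eval] at h
  have h' := congrArg (aeval A) h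
  rw [map_add, map_mul, map_sub, aeval_X, aeval_C, aeval_C, hfA] at h'
  refine ⟨(-(f.eval c)⁻¹) • aeval A (f /ₘ (X - Polynomial.C c)), ?_⟩
  rw [Matrix.mul_smul, eq_neg_of_add_eq_zero_right h', smul_neg, neg_smul, neg_neg,
    Algebra.algebraMap_eq_smul_one, smul_smul, inv_mul_cancel₀ hc, one_smul]

theorem blk_alt {n : Type} [Fintype n] [DecidableEq n] (K : Matrix n n F) (hK : Kᵀ = K)
    (x : n ⊕ n → F) : x ⬝ᵥ (Matrix.fromBlocks 0 K (-K) 0) *ᵥ x = 0 := by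
  have hsymm : ∀ i j, K i j = K j i := fun i j => by
    have := congrFun (congrFun hK j) i
    rw [Matrix.transpose_apply] at this
    exact this
  simp only [dotProduct, Matrix.mulVec, Fintype.sum_sum_type, Matrix.fromBlocks_apply₁₁,
    Matrix.fromBlocks_apply₁₂, Matrix.fromBlocks_apply₂₁, Matrix.fromBlocks_apply₂₂,
    Matrix.zero_apply, Matrix.neg_apply, zero_mul, Finset.sum_const_zero, add_zero, zero_add,
    neg_mul, Finset.sum_neg_distrib, mul_neg]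
  rw [add_neg_eq_zero]
  simp only [Finset.mul_sum]
  rw [Finset.sum_comm]
  refine Finset.sum_congr rfl (fun i _ => Finset.sum_congr rfl (fun j _ => ?_))
  rw [hsymm i j]
  ring

theorem real_irred [Fintype F] (p : ℕ) [Fact p.Prime] [CharP F p] (f : F[X]) (hf : Irreducible f)
    (hm : f.Monic) (h2 : f.eval (1 + 1) ≠ 0) (h2' : f.eval (-1 + -1) ≠ 0) : Real F f := by
  haveI : Fact (Irreducible f) := ⟨hf⟩
  have hpos : 0 < f.natDegree := hf.natDegree_pos
  obtain ⟨pb, hdim, hgen, hmin⟩ : ∃ pb : PowerBasis F (AdjoinRoot f), pb.dim = f.natDegree ∧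
      pb.gen = AdjoinRoot.root f ∧ minpoly F pb.gen = f :=
    ⟨AdjoinRoot.powerBasis hf.ne_zero, rfl, rfl, AdjoinRoot.minpoly_powerBasis_gen_of_monic hm⟩
  haveI : Module.Finite F (AdjoinRoot f) := pb.finite
  haveI : Finite (AdjoinRoot f) := Module.finite_of_finite F
  haveI : Fintype (AdjoinRoot f) := Fintype.ofFinite _
  haveI : CharP (AdjoinRoot f) p :=
    charP_of_injective_algebraMap (algebraMap F (AdjoinRoot f)).injective p
  haveI : Nonempty (Fin pb.dim ⊕ Fin pb.dim) := ⟨Sum.inl ⟨0, by omega⟩⟩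
  obtain ⟨N, -, hN⟩ := FiniteField.card (AdjoinRoot f) p
  -- the matrix of multiplication by the root and the trace form
  obtain ⟨Cm, hCm⟩ : ∃ Cm : Matrix (Fin pb.dim) (Fin pb.dim) F,
      Cm = Algebra.leftMulMatrix pb.basis pb.gen := ⟨_, rfl⟩
  obtain ⟨K, hKdef⟩ : ∃ K : Matrix (Fin pb.dim) (Fin pb.dim) F,
      K = Algebra.traceMatrix F pb.basis := ⟨_, rfl⟩
  have hχ : Cm.charpoly = f := by rw [hCm, charpoly_leftMulMatrix, hmin]
  have hfC : aeval Cm f = 0 := by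
    have := Matrix.aeval_self_charpoly Cm
    rwa [hχ] at this
  have hKdet : K.det ≠ 0 := by rw [hKdef]; exact det_traceMatrix_ne_zero' pb
  have hKK : K * K⁻¹ = 1 := Matrix.mul_nonsing_inv K (isUnit_iff_ne_zero.mpr hKdet)
  have hKsymm : Kᵀ = K := by
    ext i j
    rw [Matrix.transpose_apply, hKdef, Algebra.traceMatrix_apply, Algebra.traceMatrix_apply,
      Algebra.traceForm_apply, Algebra.traceForm_apply, mul_comm]
  have hKC : ∀ i j, (K * Cm) i j = Algebra.trace F (AdjoinRoot f) (pb.basis i * (pb.gen * pb.basis j)) := by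
    intro i j
    rw [Matrix.mul_apply]
    have h1 : ∀ k, K i k * Cm k j = Algebra.trace F (AdjoinRoot f)
        (pb.basis.repr (pb.gen * pb.basis j) k • (pb.basis i * pb.basis k)) := by
      intro k
      rw [map_smul, smul_eq_mul, hKdef, hCm, Algebra.traceMatrix_apply, Algebra.traceForm_apply,
        Algebra.leftMulMatrix_eq_repr_mul, mul_comm]
    rw [Finset.sum_congr rfl (fun k _ => h1 k), ← map_sum]
    congr 1
    have h2 : ∀ k, pb.basis.repr (pb.gen * pb.basis j) k • (pb.basis i * pb.basis k)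
        = pb.basis i * (pb.basis.repr (pb.gen * pb.basis j) k • pb.basis k) := by
      intro k; rw [mul_smul_comm]
    rw [Finset.sum_congr rfl (fun k _ => h2 k), ← Finset.mul_sum, pb.basis.sum_repr]
  have hCK : Cmᵀ * K = K * Cm := by
    have h1 : (K * Cm)ᵀ = K * Cm := by
      ext i j
      rw [Matrix.transpose_apply, hKC, hKC]
      congr 1
      ring
    rw [← h1, Matrix.transpose_mul, hKsymm]
  -- Frobenius
  have hroot : (AdjoinRoot.root f) ^ (p ^ (N : ℕ)) = AdjoinRoot.root f := by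
    rw [← hN]; exact FiniteField.pow_card _
  have hdvd : f ∣ X ^ (p ^ (N : ℕ)) - X := by
    rw [← AdjoinRoot.mk_eq_zero, map_sub, map_pow, AdjoinRoot.mk_X, hroot, sub_self]
  have hCQ : Cm ^ (p ^ (N : ℕ)) = Cm := by
    obtain ⟨r, hr⟩ := hdvd
    have := congrArg (aeval Cm) hr
    rw [map_sub, map_pow, aeval_X, map_mul, hfC, zero_mul] at this
    exact sub_eq_zero.mp this
  obtain ⟨M₁, hM₁⟩ := exists_inv_sub Cm f hfC (1 + 1) h2
  obtain ⟨M₂, hM₂⟩ := exists_inv_sub Cm f hfC (-1 + -1) h2'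
  rw [map_add, map_one] at hM₁
  rw [map_add, map_neg, map_one] at hM₂
  have hNM : (Cm * Cm - (1 + 1) * (1 + 1)) * (M₂ * M₁) = 1 := by
    have h1 : Cm * Cm - (1 + 1) * (1 + 1) = (Cm - (1 + 1)) * (Cm - (-1 + -1)) := by
      noncomm_ring
    rw [h1]
    calc (Cm - (1 + 1)) * (Cm - (-1 + -1)) * (M₂ * M₁)
        = (Cm - (1 + 1)) * ((Cm - (-1 + -1)) * M₂) * M₁ := by simp only [Matrix.mul_assoc]
      _ = 1 := by rw [hM₂, Matrix.mul_one, hM₁]
  -- the block matrices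
  obtain ⟨g, hg⟩ : ∃ g : Matrix (Fin pb.dim ⊕ Fin pb.dim) (Fin pb.dim ⊕ Fin pb.dim) F,
      g = Matrix.fromBlocks 0 (-1) 1 Cm := ⟨_, rfl⟩
  obtain ⟨gi, hgi⟩ : ∃ gi : Matrix (Fin pb.dim ⊕ Fin pb.dim) (Fin pb.dim ⊕ Fin pb.dim) F,
      gi = Matrix.fromBlocks Cm 1 (-1) 0 := ⟨_, rfl⟩
  have hggi : g * gi = 1 := by
    rw [hg, hgi, Matrix.fromBlocks_multiply]
    simp
  have hgig : gi * g = 1 := by
    rw [hg, hgi, Matrix.fromBlocks_multiply]
    simp
  have hsum : g + gi = Matrix.fromBlocks Cm 0 0 Cm := by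
    rw [hg, hgi, Matrix.fromBlocks_add]
    simp
  have hD : (g - gi) * (g - gi) = Matrix.fromBlocks (Cm * Cm - (1 + 1) * (1 + 1)) 0 0
      (Cm * Cm - (1 + 1) * (1 + 1)) := by
    rw [hg, hgi, sub_eq_add_neg, Matrix.fromBlocks_neg, Matrix.fromBlocks_add,
      Matrix.fromBlocks_multiply]
    congr 1 <;> noncomm_ring
  have hDDi : (g - gi) * (g - gi) * Matrix.fromBlocks (M₂ * M₁) 0 0 (M₂ * M₁) = 1 := by
    rw [hD, Matrix.fromBlocks_multiply]
    simp [hNM]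
  have hT : (g + gi) ^ (p ^ (N : ℕ)) = g + gi := by
    rw [hsum, Matrix.fromBlocks_diagonal_pow, hCQ]
  have hgQ : g ^ (p ^ (N : ℕ) * p ^ (N : ℕ)) = g := by
    let _ : CommRing ↥(dc2 g g) := dc2CommRing g g rfl
    haveI : CharP ↥(dc2 g g) p := CharP.subring _ p (dc2 g g)
    have hgmem : g ∈ dc2 g g := by
      rw [mem_dc2]; intro z hz _; exact hz.symm
    have hgimem : gi ∈ dc2 g g := inv_mem_dc2 g g g gi hggi hgig hgmem
    have hDmem : (g - gi) * (g - gi) ∈ dc2 g g :=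
      Subring.mul_mem _ (Subring.sub_mem _ hgmem hgimem) (Subring.sub_mem _ hgmem hgimem)
    have hDimem : Matrix.fromBlocks (M₂ * M₁) 0 0 (M₂ * M₁) ∈ dc2 g g :=
      inv_mem_dc2 g g _ _ hDDi (mul_eq_one_comm.mp hDDi) hDmem
    have hfrob := frob_order (R := ↥(dc2 g g)) p N ⟨g, hgmem⟩ ⟨gi, hgimem⟩ ⟨_, hDimem⟩
      (Subtype.ext hggi) (Subtype.ext hT) (Subtype.ext hDDi)
    exact congrArg Subtype.val hfrob
  have hNpos : 1 ≤ p ^ (N : ℕ) * p ^ (N : ℕ) :=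
    Nat.mul_pos (Nat.pos_of_ne_zero (pow_ne_zero _ (Fact.out : p.Prime).ne_zero))
      (Nat.pos_of_ne_zero (pow_ne_zero _ (Fact.out : p.Prime).ne_zero))
  obtain ⟨k, hk⟩ : ∃ k, p ^ (N : ℕ) * p ^ (N : ℕ) = k + 1 := ⟨p ^ (N : ℕ) * p ^ (N : ℕ) - 1, by omega⟩
  have hgk : g ^ k = 1 := by
    calc g ^ k = g ^ k * (g * gi) := by rw [hggi, Matrix.mul_one]
      _ = g ^ (k + 1) * gi := by rw [pow_succ, Matrix.mul_assoc]
      _ = 1 := by rw [← hk, hgQ, hggi]
  have hkF : (k : F) ≠ 0 := by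
    have h1 : ((k + 1 : ℕ) : F) = 0 := by
      rw [← hk, Nat.cast_mul, Nat.cast_pow, CharP.cast_eq_zero F p, zero_pow N.ne_zero, zero_mul]
    rw [Nat.cast_succ] at h1
    intro h0
    rw [h0, zero_add] at h1
    exact one_ne_zero h1
  refine ⟨Fin pb.dim ⊕ Fin pb.dim, inferInstance, inferInstance, g, gi,
    Matrix.fromBlocks 0 K (-K) 0, Matrix.fromBlocks 0 (-K⁻¹) K⁻¹ 0, k, ?_, hggi, hgig, hgk, hkF,
    ?_, blk_alt K hKsymm, ?_, ?_⟩
  · rw [Fintype.card_sum, Fintype.card_fin, hdim, two_mul]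
  · rw [hg, Matrix.fromBlocks_transpose, Matrix.fromBlocks_multiply, Matrix.fromBlocks_multiply]
    simp [hCK]
  · rw [Matrix.fromBlocks_multiply]
    simp [hKK]
  · rw [hsum, Matrix.charpoly_fromBlocks_zero₁₂, hχ, pow_two]

end Cfsg.Agent.Lib.helper4.SpReal
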