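import Mathlib

set_option autoImplicit false

/-!
Semisimple endomorphisms with the same characteristic polynomial are conjugate.
-/

namespace Cfsg.Agent.Lib.helper4.SSConj

open Polynomial Module

universe u v

variable {F : Type u} [Field F]

/-- an irreducible factor of the characteristic polynomial kills a nonzero vector -/
theorem exists_ker_of_dvd_charpoly {V : Type v} [AddCommGroup V] [Module F V]
    [FiniteDimensional F V] (T : Module.End F V) (f : F[X]) (hf : Irreducible f)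
    (hdvd : f ∣ T.charpoly) : ∃ v : V, v ≠ 0 ∧ aeval T f v = 0 := by
  by_contra hcon
  push Not at hcon
  have hinj : LinearMap.ker (aeval T f) = ⊥ := by
    rw [LinearMap.ker_eq_bot']
    intro v hv
    by_contra hv0
    exact hcon v hv0 hv
  obtain ⟨S, hS⟩ := LinearMap.exists_leftInverse_of_injective (aeval T f) hinj
  haveI : Fact (Irreducible f) := ⟨hf⟩
  have hroot : ((T.baseChange (AdjoinRoot f)).charpoly).IsRoot (AdjoinRoot.root f) := by
    rw [LinearMap.charpoly_baseChange, IsRoot.def, eval_map_algebraMap]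
    obtain ⟨g, hg⟩ := hdvd
    rw [hg, map_mul, AdjoinRoot.aeval_eq, AdjoinRoot.mk_self, zero_mul]
  obtain ⟨w, hw⟩ := ((Module.End.hasEigenvalue_iff_isRoot_charpoly
    (T.baseChange (AdjoinRoot f)) _).mpr hroot).exists_hasEigenvector
  have h1 : aeval (T.baseChange (AdjoinRoot f)) (f.map (algebraMap F (AdjoinRoot f))) w
      = (f.map (algebraMap F (AdjoinRoot f))).eval (AdjoinRoot.root f) • w :=
    Module.End.aeval_apply_of_hasEigenvector hw
  rw [eval_map_algebraMap, AdjoinRoot.aeval_eq, AdjoinRoot.mk_self, zero_smul,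
    aeval_map_algebraMap] at h1
  have h2 : aeval (T.baseChange (AdjoinRoot f)) f
      = Module.End.baseChangeHom F (AdjoinRoot f) V (aeval T f) :=
    Polynomial.aeval_algHom_apply (Module.End.baseChangeHom F (AdjoinRoot f) V) T f
  have h3 : Module.End.baseChangeHom F (AdjoinRoot f) V S *
      Module.End.baseChangeHom F (AdjoinRoot f) V (aeval T f) = 1 := by
    rw [← map_mul, ← map_one (Module.End.baseChangeHom F (AdjoinRoot f) V)]
    congr 1
  have h4 : w = 0 := by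
    have := congrArg (fun g => g w) h3
    simp only [Module.End.mul_apply, ← h2, h1, map_zero, Module.End.one_apply] at this
    exact this.symm
  exact hw.2 h4

/-- the characteristic polynomial over an invariant complementary decomposition -/
theorem charpoly_isCompl {V : Type v} [AddCommGroup V] [Module F V] [FiniteDimensional F V]
    (T : Module.End F V) (p q : Submodule F V) (hp : p ∈ T.invtSubmodule)
    (hq : q ∈ T.invtSubmodule) (hpq : IsCompl p q) :
    T.charpoly = (T.restrict hp).charpoly * (T.restrict hq).charpoly := by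
  have hψ : (T.restrict hp).prodMap (T.restrict hq)
      = (Submodule.prodEquivOfIsCompl p q hpq).symm.conj T := by
    apply LinearMap.ext
    rintro ⟨a, b⟩
    rw [LinearEquiv.conj_apply]
    simp only [LinearMap.comp_apply, LinearEquiv.coe_coe, LinearEquiv.symm_symm]
    rw [LinearEquiv.eq_symm_apply, Submodule.coe_prodEquivOfIsCompl',
      Submodule.coe_prodEquivOfIsCompl', map_add]
    rfl
  rw [← (Submodule.prodEquivOfIsCompl p q hpq).symm.charpoly_conj T, ← hψ,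
    LinearMap.charpoly_prodMap]

theorem ker_char {V : Type v} [AddCommGroup V] [Module F V] (T : Module.End F V) (f : F[X])
    (hf : Irreducible f) (v : V) (hv : v ≠ 0) (hfv : aeval T f v = 0) (p : F[X]) :
    aeval T p v = 0 ↔ f ∣ p := by
  constructor
  · intro hp
    by_contra hnd
    obtain ⟨a, b, hab⟩ := (hf.coprime_iff_not_dvd.mpr hnd)
    have h1 : aeval T (a * f + b * p) v = v := by rw [hab, map_one, Module.End.one_apply]
    rw [map_add, map_mul, map_mul, LinearMap.add_apply, Module.End.mul_apply, Module.End.mul_apply,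
      hfv, hp, map_zero, map_zero, add_zero] at h1
    exact hv h1.symm
  · rintro ⟨g, rfl⟩
    rw [mul_comm, map_mul, Module.End.mul_apply, hfv, map_zero]

theorem cyc_iso {V₁ V₂ : Type v} [AddCommGroup V₁] [Module F V₁] [AddCommGroup V₂] [Module F V₂]
    (T₁ : Module.End F V₁) (T₂ : Module.End F V₂) (f : F[X]) (hf : Irreducible f)
    (v₁ : V₁) (v₂ : V₂) (hv₁ : v₁ ≠ 0) (hv₂ : v₂ ≠ 0) (h₁ : aeval T₁ f v₁ = 0)
    (h₂ : aeval T₂ f v₂ = 0) :
    ∃ (U₁ : Submodule F V₁) (U₂ : Submodule F V₂) (hU₁ : U₁ ∈ T₁.invtSubmodule)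
      (hU₂ : U₂ ∈ T₂.invtSubmodule) (θ : U₁ ≃ₗ[F] U₂), v₁ ∈ U₁ ∧
      ∀ x, θ (T₁.restrict hU₁ x) = T₂.restrict hU₂ (θ x) := by
  obtain ⟨ψ₁, hψ₁⟩ : ∃ ψ₁ : F[X] →ₗ[F] V₁, ∀ p, ψ₁ p = aeval T₁ p v₁ :=
    ⟨(LinearMap.applyₗ v₁).comp (aeval T₁).toLinearMap, fun p => rfl⟩
  obtain ⟨ψ₂, hψ₂⟩ : ∃ ψ₂ : F[X] →ₗ[F] V₂, ∀ p, ψ₂ p = aeval T₂ p v₂ :=
    ⟨(LinearMap.applyₗ v₂).comp (aeval T₂).toLinearMap, fun p => rfl⟩
  have hker : LinearMap.ker ψ₁ = LinearMap.ker ψ₂ := by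
    ext p
    rw [LinearMap.mem_ker, LinearMap.mem_ker, hψ₁, hψ₂, ker_char T₁ f hf v₁ hv₁ h₁,
      ker_char T₂ f hf v₂ hv₂ h₂]
  have hT₁ : ∀ p, T₁ (ψ₁ p) = ψ₁ (X * p) := by
    intro p; rw [hψ₁, hψ₁, map_mul, aeval_X, Module.End.mul_apply]
  have hT₂ : ∀ p, T₂ (ψ₂ p) = ψ₂ (X * p) := by
    intro p; rw [hψ₂, hψ₂, map_mul, aeval_X, Module.End.mul_apply]
  have hU₁ : LinearMap.range ψ₁ ∈ T₁.invtSubmodule := by
    rw [Module.End.mem_invtSubmodule]
    rintro x ⟨p, rfl⟩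
    exact ⟨X * p, (hT₁ p).symm⟩
  have hU₂ : LinearMap.range ψ₂ ∈ T₂.invtSubmodule := by
    rw [Module.End.mem_invtSubmodule]
    rintro x ⟨p, rfl⟩
    exact ⟨X * p, (hT₂ p).symm⟩
  obtain ⟨θ, hθ⟩ : ∃ θ : LinearMap.range ψ₁ ≃ₗ[F] LinearMap.range ψ₂,
      ∀ p (h : ψ₁ p ∈ LinearMap.range ψ₁), (θ ⟨ψ₁ p, h⟩).1 = ψ₂ p := by
    refine ⟨(LinearMap.quotKerEquivRange ψ₁).symm ≪≫ₗ
      (Submodule.quotEquivOfEq _ _ hker) ≪≫ₗ (LinearMap.quotKerEquivRange ψ₂), fun p h => ?_⟩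
    rw [LinearEquiv.trans_apply, LinearEquiv.trans_apply,
      LinearMap.quotKerEquivRange_symm_apply_image]
    exact LinearMap.quotKerEquivRange_apply_mk ψ₂ p
  refine ⟨LinearMap.range ψ₁, LinearMap.range ψ₂, hU₁, hU₂, θ, ⟨1, by rw [hψ₁, map_one,
    Module.End.one_apply]⟩, ?_⟩
  have key : ∀ (y : ↥(LinearMap.range ψ₁)) (p : F[X]), y.1 = ψ₁ p → (θ y).1 = ψ₂ p := by
    rintro ⟨y, hy'⟩ p hy
    subst hy
    exact hθ p _
  rintro ⟨x, p, rfl⟩
  apply Subtype.ext
  rw [key _ (X * p) (hT₁ p)]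
  exact ((congrArg T₂ (key _ p rfl)).trans (hT₂ p)).symm

theorem ss_conj : ∀ (d : ℕ) (V₁ V₂ : Type v) [AddCommGroup V₁] [Module F V₁]
    [FiniteDimensional F V₁] [AddCommGroup V₂] [Module F V₂] [FiniteDimensional F V₂]
    (T₁ : Module.End F V₁) (T₂ : Module.End F V₂), finrank F V₁ = d → T₁.IsSemisimple →
    T₂.IsSemisimple → T₁.charpoly = T₂.charpoly →
    ∃ φ : V₁ ≃ₗ[F] V₂, ∀ x, φ (T₁ x) = T₂ (φ x) := by
  intro d
  induction d using Nat.strong_induction_on with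
  | _ d ih =>
  intro V₁ V₂ _ _ _ _ _ _ T₁ T₂ hd hs₁ hs₂ hχ
  have hd₂ : finrank F V₂ = d := by
    rw [← hd, ← LinearMap.charpoly_natDegree T₁, hχ, LinearMap.charpoly_natDegree]
  by_cases hd0 : d = 0
  · have : Subsingleton V₂ := finrank_zero_iff.mp (hd0 ▸ hd₂)
    exact ⟨LinearEquiv.ofFinrankEq V₁ V₂ (hd.trans hd₂.symm), fun x => Subsingleton.elim _ _⟩
  have hnu : ¬ IsUnit T₁.charpoly := by
    intro hu
    have := natDegree_eq_zero_of_isUnit hu
    rw [LinearMap.charpoly_natDegree] at this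
    omega
  obtain ⟨f, hf, hfd⟩ := WfDvdMonoid.exists_irreducible_factor hnu
    (LinearMap.charpoly_monic T₁).ne_zero
  obtain ⟨v₁, hv₁, hfv₁⟩ := exists_ker_of_dvd_charpoly T₁ f hf hfd
  obtain ⟨v₂, hv₂, hfv₂⟩ := exists_ker_of_dvd_charpoly T₂ f hf (hχ ▸ hfd)
  obtain ⟨U₁, U₂, hU₁, hU₂, θ, hvU, hθ⟩ := cyc_iso T₁ T₂ f hf v₁ v₂ hv₁ hv₂ hfv₁ hfv₂
  obtain ⟨W₁, hW₁, hc₁⟩ := (Module.End.isSemisimple_iff.mp hs₁) U₁ hU₁
  obtain ⟨W₂, hW₂, hc₂⟩ := (Module.End.isSemisimple_iff.mp hs₂) U₂ hU₂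
  have hχ₁ := charpoly_isCompl T₁ U₁ W₁ hU₁ hW₁ hc₁
  have hχ₂ := charpoly_isCompl T₂ U₂ W₂ hU₂ hW₂ hc₂
  have hχU : (T₁.restrict hU₁).charpoly = (T₂.restrict hU₂).charpoly := by
    have h1 : T₂.restrict hU₂ = θ.conj (T₁.restrict hU₁) := by
      apply LinearMap.ext
      intro y
      rw [LinearEquiv.conj_apply]
      simp only [LinearMap.comp_apply, LinearEquiv.coe_coe]
      rw [hθ, LinearEquiv.apply_symm_apply]
    rw [h1, LinearEquiv.charpoly_conj]
  have hχW : (T₁.restrict hW₁).charpoly = (T₂.restrict hW₂).charpoly := by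
    rw [hχ₁, hχ₂, hχU] at hχ
    exact mul_left_cancel₀ (LinearMap.charpoly_monic _).ne_zero hχ
  have hdimW : finrank F W₁ < d := by
    have h1 := Submodule.finrank_add_eq_of_isCompl hc₁
    have h2 : 0 < finrank F U₁ :=
      finrank_pos_iff_exists_ne_zero.mpr ⟨⟨v₁, hvU⟩, fun h => hv₁ (congrArg Subtype.val h)⟩
    omega
  obtain ⟨φW, hφW⟩ := ih (finrank F W₁) hdimW W₁ W₂ (T₁.restrict hW₁) (T₂.restrict hW₂) rfl
    (hs₁.restrict hW₁) (hs₂.restrict hW₂) hχW
  refine ⟨(Submodule.prodEquivOfIsCompl U₁ W₁ hc₁).symm ≪≫ₗ (θ.prodCongr φW) ≪≫ₗ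
    (Submodule.prodEquivOfIsCompl U₂ W₂ hc₂), fun x => ?_⟩
  obtain ⟨⟨a, b⟩, rfl⟩ := (Submodule.prodEquivOfIsCompl U₁ W₁ hc₁).surjective x
  have h1 : T₁ (Submodule.prodEquivOfIsCompl U₁ W₁ hc₁ (a, b))
      = Submodule.prodEquivOfIsCompl U₁ W₁ hc₁ (T₁.restrict hU₁ a, T₁.restrict hW₁ b) := by
    rw [Submodule.coe_prodEquivOfIsCompl', Submodule.coe_prodEquivOfIsCompl', map_add]
    rfl
  rw [h1]
  simp only [LinearEquiv.trans_apply, LinearEquiv.symm_apply_apply, LinearEquiv.prodCongr_apply]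
  rw [hθ, hφW, Submodule.coe_prodEquivOfIsCompl', Submodule.coe_prodEquivOfIsCompl', map_add]
  rfl

theorem mat_conj_of_charpoly {n : Type v} [Fintype n] [DecidableEq n] (A B : Matrix n n F)
    (P : F[X]) (hP : Squarefree P) (hA : aeval A P = 0) (hB : aeval B P = 0)
    (hχ : A.charpoly = B.charpoly) :
    ∃ g gi : Matrix n n F, g * gi = 1 ∧ gi * g = 1 ∧ g * A = B * g := by
  have hsA : Module.End.IsSemisimple (Matrix.toLin' A) := by
    apply Module.End.isSemisimple_of_squarefree_aeval_eq_zero hP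
    have := Polynomial.aeval_algHom_apply (Matrix.toLinAlgEquiv' (R := F) (n := n)) A P
    rw [hA, map_zero] at this
    exact this
  have hsB : Module.End.IsSemisimple (Matrix.toLin' B) := by
    apply Module.End.isSemisimple_of_squarefree_aeval_eq_zero hP
    have := Polynomial.aeval_algHom_apply (Matrix.toLinAlgEquiv' (R := F) (n := n)) B P
    rw [hB, map_zero] at this
    exact this
  have hcA : (Matrix.toLin' A).charpoly = A.charpoly := by
    rw [← Matrix.toLin_eq_toLin', Matrix.charpoly_toLin]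
  have hcB : (Matrix.toLin' B).charpoly = B.charpoly := by
    rw [← Matrix.toLin_eq_toLin', Matrix.charpoly_toLin]
  obtain ⟨φ, hφ⟩ := ss_conj (finrank F (n → F)) (n → F) (n → F) (Matrix.toLin' A)
    (Matrix.toLin' B) rfl hsA hsB (by rw [hcA, hcB, hχ])
  refine ⟨LinearMap.toMatrix' φ.toLinearMap, LinearMap.toMatrix' φ.symm.toLinearMap, ?_, ?_, ?_⟩
  · rw [← LinearMap.toMatrix'_comp, ← LinearMap.toMatrix'_id]
    congr 1
    apply LinearMap.ext
    intro x
    simp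
  · rw [← LinearMap.toMatrix'_comp, ← LinearMap.toMatrix'_id]
    congr 1
    apply LinearMap.ext
    intro x
    simp
  · have h1 : A = LinearMap.toMatrix' (Matrix.toLin' A) := (LinearMap.toMatrix'_toLin' A).symm
    have h2 : B = LinearMap.toMatrix' (Matrix.toLin' B) := (LinearMap.toMatrix'_toLin' B).symm
    rw [h1, h2, ← LinearMap.toMatrix'_comp, ← LinearMap.toMatrix'_comp]
    congr 1
    apply LinearMap.ext
    intro x
    simp only [LinearMap.comp_apply, LinearEquiv.coe_coe]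
    exact hφ x

end Cfsg.Agent.Lib.helper4.SSConj
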