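import Mathlib
import Cfsg.Agent.Lib.helper4.SympConj
import Cfsg.Agent.Lib.helper4.SSConj

set_option autoImplicit false

/-!
Semisimple elements of `Sp` with the same characteristic polynomial are conjugate.
-/

namespace Cfsg.Agent.Lib.helper4.SympSS

open Polynomial

universe u w

theorem cast_order_ne_zero {F : Type u} [Field F] (p : ℕ) [Fact p.Prime] [CharP F p]
    (k : ℕ) (hk : k.Coprime p) : (k : F) ≠ 0 := by
  intro h0
  have hdvd := (CharP.cast_eq_zero_iff F p k).mp h0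
  have := Nat.Coprime.eq_one_of_dvd hk.symm hdvd
  exact (Fact.out : p.Prime).one_lt.ne' this

theorem mat_isConj_of_charpoly {F : Type u} [Field F] {n : Type w} [Fintype n] [DecidableEq n]
    (A B : Matrix n n F) (k : ℕ) (hk : (k : F) ≠ 0) (hA : A ^ k = 1) (hB : B ^ k = 1)
    (hχ : A.charpoly = B.charpoly) : IsConj A B := by
  have hP : Squarefree (X ^ k - 1 : F[X]) := (X_pow_sub_one_separable_iff.mpr hk).squarefree
  obtain ⟨g, gi, h1, h2, h3⟩ := SSConj.mat_conj_of_charpoly A B (X ^ k - 1) hP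
    (by simp [hA]) (by simp [hB]) hχ
  exact ⟨⟨g, gi, h1, h2⟩, h3⟩

theorem sp_conj_of_charpoly {F : Type u} [Field F] [Fintype F] (p : ℕ) [Fact p.Prime]
    [CharP F p] (n : ℕ) (g h : ↥(Matrix.symplecticGroup (Fin n) F))
    (hg : (orderOf g).Coprime p) (hh : (orderOf h).Coprime p)
    (hc : (g : Matrix (Fin n ⊕ Fin n) (Fin n ⊕ Fin n) F).charpoly
      = (h : Matrix (Fin n ⊕ Fin n) (Fin n ⊕ Fin n) F).charpoly) : IsConj g h := by
  rw [SympConj.sp_conj_iff (p := p) g h hg]
  have hgk : g.1 ^ orderOf g = 1 := by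
    have : (g ^ orderOf g).1 = 1 := by rw [pow_orderOf_eq_one]; rfl
    rwa [SubmonoidClass.coe_pow] at this
  have hhk : h.1 ^ orderOf h = 1 := by
    have : (h ^ orderOf h).1 = 1 := by rw [pow_orderOf_eq_one]; rfl
    rwa [SubmonoidClass.coe_pow] at this
  refine mat_isConj_of_charpoly g.1 h.1 (orderOf g * orderOf h) ?_ ?_ ?_ hc
  · rw [Nat.cast_mul]
    exact mul_ne_zero (cast_order_ne_zero p _ hg) (cast_order_ne_zero p _ hh)
  · rw [pow_mul, hgk, one_pow]
  · rw [mul_comm, pow_mul, hhk, one_pow]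

end Cfsg.Agent.Lib.helper4.SympSS
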