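import Mathlib
import Cfsg.Agent.Lib.helper4.SpReal
import Cfsg.Agent.Lib.helper4.SpPalin
import Cfsg.Agent.Lib.helper4.SympSS

set_option autoImplicit false

/-!
The number of semisimple conjugacy classes of `Sp_2n(q)` is `q ^ n`.
-/

namespace Cfsg.Agent.Lib.helper4.SpSSCount

open Polynomial
open scoped Matrix
open Cfsg.Agent.Lib.helper4.SpReal Cfsg.Agent.Lib.helper4.AltEquiv
  Cfsg.Agent.Lib.helper4.SympConjCorner

universe u

variable {F : Type u} [Field F]

theorem monic_irred_eq_of_root (f : F[X]) (hf : Irreducible f) (hm : f.Monic) (c : F)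
    (hc : f.eval c = 0) : f = X - C c := by
  have hdvd : (X - C c) ∣ f := dvd_iff_isRoot.mpr hc
  have hassoc : Associated (X - C c) f := (irreducible_X_sub_C c).associated_of_dvd hf hdvd
  exact (eq_of_monic_of_associated (monic_X_sub_C c) hm hassoc).symm

theorem real_all [Fintype F] (p : ℕ) [Fact p.Prime] [CharP F p] :
    ∀ (d : ℕ) (ψ : F[X]), ψ.Monic → ψ.natDegree = d → Real F ψ := by
  intro d
  induction d using Nat.strong_induction_on with
  | _ d ih =>
  intro ψ hψ hd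
  by_cases hd0 : d = 0
  · rw [eq_one_of_monic_natDegree_zero hψ (hd.trans hd0)]
    exact real_one
  have hnu : ¬ IsUnit ψ := by
    intro hu
    have := natDegree_eq_zero_of_isUnit hu
    omega
  obtain ⟨f₀, hf₀, hf₀d⟩ := WfDvdMonoid.exists_irreducible_factor hnu hψ.ne_zero
  have hu : IsUnit (C f₀.leadingCoeff⁻¹) :=
    isUnit_C.mpr (isUnit_iff_ne_zero.mpr (inv_ne_zero (leadingCoeff_ne_zero.mpr hf₀.ne_zero)))
  obtain ⟨f, hf, hfm, hfd⟩ : ∃ f : F[X], Irreducible f ∧ f.Monic ∧ f ∣ ψ :=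
    ⟨f₀ * C f₀.leadingCoeff⁻¹, (irreducible_mul_isUnit hu).mpr hf₀,
      monic_mul_leadingCoeff_inv hf₀.ne_zero, (IsUnit.mul_right_dvd hu).mpr hf₀d⟩
  obtain ⟨ψ', hψ'⟩ := hfd
  have hψ'm : ψ'.Monic := by rw [hψ'] at hψ; exact hfm.of_mul_monic_left hψ
  have hdeg : ψ.natDegree = f.natDegree + ψ'.natDegree := by rw [hψ', hfm.natDegree_mul hψ'm]
  have hfpos := hf.natDegree_pos
  have r' : Real F ψ' := ih ψ'.natDegree (by omega) ψ' hψ'm rfl
  have rf : Real F f := by
    by_cases h2 : f.eval (1 + 1) = 0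
    · rw [monic_irred_eq_of_root f hf hfm _ h2]
      exact real_scalar 1 (mul_one 1) 1 (pow_one 1) (by simp)
    by_cases h2' : f.eval (-1 + -1) = 0
    · rw [monic_irred_eq_of_root f hf hfm _ h2']
      have h2F : (2 : F) ≠ 0 := by
        intro h0
        apply h2
        have : (-1 + -1 : F) = 1 + 1 := by linear_combination (-2 : F) * h0
        rw [← this]; exact h2'
      exact real_scalar (-1) (by ring) 2 (by ring) (by exact_mod_cast h2F)
    exact real_irred p f hf hfm h2 h2'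
  rw [hψ']
  exact real_mul f ψ' hfm.ne_zero hψ'm.ne_zero rf r'

theorem exists_sp [Fintype F] (n : ℕ) (ψ : F[X]) (hdeg : ψ.natDegree = n) (r : Real F ψ) :
    ∃ (s : Matrix.symplecticGroup (Fin n) F) (k : ℕ), s ^ k = 1 ∧ (k : F) ≠ 0 ∧
      (s.1 + (s⁻¹).1).charpoly = ψ ^ 2 := by
  obtain ⟨ι, _, _, g, gi, Ω, Ωi, k, hc, hg, hgi, hk, hkF, hΩ, ha, hi, hχ⟩ := r
  rw [hdeg] at hc
  have hn₁ : ∀ x : ι → F, x ≠ 0 → ∃ y, x ⬝ᵥ Ω *ᵥ y ≠ 0 := by
    intro x hx
    obtain ⟨i, hi'⟩ := Function.ne_iff.mp hx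
    refine ⟨Ωi *ᵥ Pi.single i 1, ?_⟩
    rw [Matrix.mulVec_mulVec, hi, Matrix.one_mulVec, dotProduct_single_one]
    exact hi'
  have hn₂ : ∀ x : Fin n ⊕ Fin n → F, x ≠ 0 → ∃ y, x ⬝ᵥ Matrix.J (Fin n) F *ᵥ y ≠ 0 := by
    intro x hx
    obtain ⟨i, hi'⟩ := Function.ne_iff.mp hx
    refine ⟨(-Matrix.J (Fin n) F) *ᵥ Pi.single i 1, ?_⟩
    rw [Matrix.mulVec_mulVec, Matrix.mul_neg, Matrix.J_squared, neg_neg, Matrix.one_mulVec,
      dotProduct_single_one]
    exact hi'
  have hf₁ : Module.finrank F (ι → F) = 2 * n := by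
    rw [Module.finrank_fintype_fun_eq_card, hc]
  have hf₂ : Module.finrank F (Fin n ⊕ Fin n → F) = 2 * n := by
    rw [Module.finrank_fintype_fun_eq_card, Fintype.card_sum, Fintype.card_fin, two_mul]
  obtain ⟨c, hcform⟩ := alt_equiv (2 * n) (ι → F) (Fin n ⊕ Fin n → F)
    (Matrix.toLinearMap₂' F Ω) (Matrix.toLinearMap₂' F (Matrix.J (Fin n) F)) hf₁ hf₂
    (fun x => by rw [Matrix.toLinearMap₂'_apply']; exact ha x)
    (fun x => by rw [Matrix.toLinearMap₂'_apply']; exact SympConj.J_alt n F x)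
    (fun x hx => by
      obtain ⟨y, hy⟩ := hn₁ x hx
      exact ⟨y, by rw [Matrix.toLinearMap₂'_apply']; exact hy⟩)
    (fun x hx => by
      obtain ⟨y, hy⟩ := hn₂ x hx
      exact ⟨y, by rw [Matrix.toLinearMap₂'_apply']; exact hy⟩)
  have hcform' : ∀ x y : ι → F, (c x) ⬝ᵥ Matrix.J (Fin n) F *ᵥ (c y) = x ⬝ᵥ Ω *ᵥ y := by
    intro x y
    have := hcform x y
    rwa [Matrix.toLinearMap₂'_apply', Matrix.toLinearMap₂'_apply'] at this
  have hcinj : Function.Injective c := by
    rw [injective_iff_map_eq_zero]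
    intro x hx
    by_contra hx0
    obtain ⟨y, hy⟩ := hn₁ x hx0
    apply hy
    rw [← hcform', hx, zero_dotProduct]
  obtain ⟨ce, hce⟩ : ∃ ce : (ι → F) ≃ₗ[F] (Fin n ⊕ Fin n → F), ∀ x, ce x = c x :=
    ⟨LinearMap.linearEquivOfInjective c hcinj (hf₁.trans hf₂.symm),
      fun x => LinearMap.linearEquivOfInjective_apply hcinj (hf₁.trans hf₂.symm) x⟩
  obtain ⟨P, hP⟩ : ∃ P : Matrix (Fin n ⊕ Fin n) ι F, P = LinearMap.toMatrix' c := ⟨_, rfl⟩
  obtain ⟨Pi, hPi⟩ : ∃ Pi : Matrix ι (Fin n ⊕ Fin n) F,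
      Pi = LinearMap.toMatrix' ce.symm.toLinearMap := ⟨_, rfl⟩
  have hPx : ∀ x, P *ᵥ x = c x := by
    intro x
    rw [hP, ← Matrix.toLin'_apply, Matrix.toLin'_toMatrix']
  have hPPi : P * Pi = 1 := by
    rw [hP, hPi, ← LinearMap.toMatrix'_comp, ← LinearMap.toMatrix'_id]
    congr 1
    apply LinearMap.ext
    intro x
    simp only [LinearMap.comp_apply, LinearEquiv.coe_coe, LinearMap.id_apply]
    rw [← hce, LinearEquiv.apply_symm_apply]
  have hPiP : Pi * P = 1 := by
    rw [hP, hPi, ← LinearMap.toMatrix'_comp, ← LinearMap.toMatrix'_id]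
    congr 1
    apply LinearMap.ext
    intro x
    simp only [LinearMap.comp_apply, LinearEquiv.coe_coe, LinearMap.id_apply]
    rw [← hce, LinearEquiv.symm_apply_apply]
  have hPJ : Pᵀ * Matrix.J (Fin n) F * P = Ω := by
    apply mat_eq_of_form
    intro x y
    have h1 : (Pᵀ * Matrix.J (Fin n) F * P) *ᵥ y = Pᵀ *ᵥ (Matrix.J (Fin n) F *ᵥ (P *ᵥ y)) := by
      rw [Matrix.mulVec_mulVec, Matrix.mulVec_mulVec]
    rw [h1, Matrix.dotProduct_mulVec, Matrix.vecMul_transpose, hPx, hPx, hcform']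
  have hsp : (P * g * Pi)ᵀ * Matrix.J (Fin n) F * (P * g * Pi) = Matrix.J (Fin n) F := by
    calc (P * g * Pi)ᵀ * Matrix.J (Fin n) F * (P * g * Pi)
        = Piᵀ * (gᵀ * (Pᵀ * Matrix.J (Fin n) F * P) * g) * Pi := by
          rw [Matrix.transpose_mul, Matrix.transpose_mul]; simp only [Matrix.mul_assoc]
      _ = Piᵀ * (Pᵀ * Matrix.J (Fin n) F * P) * Pi := by rw [hPJ, hΩ]
      _ = (P * Pi)ᵀ * Matrix.J (Fin n) F * (P * Pi) := by
          rw [Matrix.transpose_mul]; simp only [Matrix.mul_assoc]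
      _ = Matrix.J (Fin n) F := by
          rw [hPPi, Matrix.transpose_one, Matrix.one_mul, Matrix.mul_one]
  have hpow : ∀ j : ℕ, (P * g * Pi) ^ j = P * g ^ j * Pi := by
    intro j
    induction j with
    | zero => rw [pow_zero, pow_zero, Matrix.mul_one, hPPi]
    | succ j ih =>
      rw [pow_succ, ih, pow_succ]
      calc P * g ^ j * Pi * (P * g * Pi) = P * g ^ j * (Pi * P) * g * Pi := by
            simp only [Matrix.mul_assoc]
        _ = P * (g ^ j * g) * Pi := by rw [hPiP, Matrix.mul_one]; simp only [Matrix.mul_assoc]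
  have hgg : (P * g * Pi) * (P * gi * Pi) = 1 := by
    calc (P * g * Pi) * (P * gi * Pi) = P * g * (Pi * P) * gi * Pi := by
          simp only [Matrix.mul_assoc]
      _ = P * (g * gi) * Pi := by rw [hPiP, Matrix.mul_one]; simp only [Matrix.mul_assoc]
      _ = 1 := by rw [hg, Matrix.mul_one, hPPi]
  obtain ⟨s, hs⟩ : ∃ s : Matrix.symplecticGroup (Fin n) F, s.1 = P * g * Pi :=
    ⟨⟨P * g * Pi, SymplecticGroup.mem_iff'.mpr hsp⟩, rfl⟩
  have hsinv : (s⁻¹).1 = P * gi * Pi := by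
    have h1 : (s⁻¹).1 * s.1 = 1 := by
      have : (s⁻¹ * s).1 = 1 := by rw [inv_mul_cancel]; rfl
      exact this
    calc (s⁻¹).1 = (s⁻¹).1 * ((P * g * Pi) * (P * gi * Pi)) := by rw [hgg, Matrix.mul_one]
      _ = ((s⁻¹).1 * s.1) * (P * gi * Pi) := by rw [hs]; simp only [Matrix.mul_assoc]
      _ = P * gi * Pi := by rw [h1, Matrix.one_mul]
  refine ⟨s, k, ?_, hkF, ?_⟩
  · apply Subtype.ext
    rw [SubmonoidClass.coe_pow, hs, hpow, hk, Matrix.mul_one, hPPi]
    rfl
  · rw [hs, hsinv]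
    have h1 : P * g * Pi + P * gi * Pi = P * ((g + gi) * Pi) := by
      rw [Matrix.add_mul, Matrix.mul_add, Matrix.mul_assoc, Matrix.mul_assoc]
    have h2 : (g + gi) * Pi * P = g + gi := by rw [Matrix.mul_assoc, hPiP, Matrix.mul_one]
    have h3 := Matrix.charpoly_mul_comm' P ((g + gi) * Pi)
    rw [h2, hc, Fintype.card_sum, Fintype.card_fin, ← two_mul] at h3
    rw [h1, ← hχ]
    exact mul_left_cancel₀ (pow_ne_zero _ X_ne_zero) h3


/-- the monic polynomial of degree `n` with lower coefficients `a` -/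
noncomputable def psiOf (n : ℕ) (a : Fin n → F) : F[X] :=
  X ^ n + ∑ i : Fin n, C (a i) * X ^ (i : ℕ)

theorem psiOf_monic (n : ℕ) (a : Fin n → F) : (psiOf n a).Monic :=
  monic_X_pow_add (degree_sum_fin_lt a)

theorem psiOf_natDegree (n : ℕ) (a : Fin n → F) : (psiOf n a).natDegree = n := by
  unfold psiOf
  apply natDegree_eq_of_degree_eq_some
  rw [degree_add_eq_left_of_degree_lt, degree_X_pow]
  rw [degree_X_pow]
  exact degree_sum_fin_lt a

theorem psiOf_coeff (n : ℕ) (a : Fin n → F) (i : Fin n) : (psiOf n a).coeff i = a i := by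
  unfold psiOf
  rw [coeff_add, coeff_X_pow, if_neg (by omega : (i : ℕ) ≠ n), zero_add, finsetSum_coeff]
  simp only [coeff_C_mul_X_pow]
  rw [Finset.sum_eq_single i]
  · simp
  · intro j _ hj
    rw [if_neg]
    intro h
    exact hj (Fin.ext h.symm)
  · simp

theorem psiOf_injective (n : ℕ) : Function.Injective (psiOf (F := F) n) := fun a b h =>
  funext fun i => by rw [← psiOf_coeff n a i, h, psiOf_coeff]

theorem sp_card_ss [Fintype F] {q : ℕ} (hq : Fintype.card F = q) (p : ℕ) [Fact p.Prime]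
    [CharP F p] (n : ℕ) :
    Nat.card {c : ConjClasses ↥(Matrix.symplecticGroup (Fin n) F) //
      ∃ g : ↥(Matrix.symplecticGroup (Fin n) F), ConjClasses.mk g = c ∧ (orderOf g).Coprime p}
      = q ^ n := by
  have hcard : Nat.card (Fin n → F) = q ^ n := by
    rw [Nat.card_eq_fintype_card, Fintype.card_fun, Fintype.card_fin, hq]
  apply le_antisymm
  · rw [← hcard]
    have h : ∀ c : {c : ConjClasses ↥(Matrix.symplecticGroup (Fin n) F) //
        ∃ g : ↥(Matrix.symplecticGroup (Fin n) F), ConjClasses.mk g = c ∧ (orderOf g).Coprime p},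
        ∃ g : ↥(Matrix.symplecticGroup (Fin n) F),
          ConjClasses.mk g = c.1 ∧ (orderOf g).Coprime p := fun c => c.2
    choose rep hrep using h
    refine Nat.card_le_card_of_injective
      (fun c => fun i : Fin n => (rep c).1.charpoly.coeff (i.1 + 1)) ?_
    intro c c' hcc'
    have hχ : (rep c).1.charpoly = (rep c').1.charpoly := by
      have hdeg : ∀ A : ↥(Matrix.symplecticGroup (Fin n) F),
          A.1.charpoly.natDegree = 2 * n := fun A => by
        rw [Matrix.charpoly_natDegree_eq_dim, Fintype.card_sum, Fintype.card_fin, two_mul]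
      have h0 : ∀ A : ↥(Matrix.symplecticGroup (Fin n) F), A.1.charpoly.coeff 0 = 1 := fun A => by
        rw [SpPalin.sp_charpoly_coeff A 0 (by omega), Nat.sub_zero, ← hdeg A]
        exact (Matrix.charpoly_monic A.1).coeff_natDegree
      have key : ∀ j, j ≤ n → (rep c).1.charpoly.coeff j = (rep c').1.charpoly.coeff j := by
        intro j hj
        rcases Nat.eq_zero_or_pos j with rfl | hjpos
        · rw [h0, h0]
        · have := congrFun hcc' ⟨j - 1, by omega⟩
          simp only at this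
          rwa [Nat.sub_add_cancel hjpos] at this
      ext j
      by_cases hj : j ≤ n
      · exact key j hj
      by_cases hj2 : j ≤ 2 * n
      · rw [SpPalin.sp_charpoly_coeff _ j hj2, SpPalin.sp_charpoly_coeff _ j hj2]
        exact key _ (by omega)
      · rw [coeff_eq_zero_of_natDegree_lt (by rw [hdeg]; omega),
          coeff_eq_zero_of_natDegree_lt (by rw [hdeg]; omega)]
    have hconj := SympSS.sp_conj_of_charpoly p n (rep c) (rep c') (hrep c).2 (hrep c').2 hχ
    apply Subtype.ext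
    rw [← (hrep c).1, ← (hrep c').1]
    exact ConjClasses.mk_eq_mk_iff_isConj.mpr hconj
  · rw [← hcard]
    have hex : ∀ a : Fin n → F, ∃ s : ↥(Matrix.symplecticGroup (Fin n) F),
        (orderOf s).Coprime p ∧ (s.1 + (s⁻¹).1).charpoly = (psiOf n a) ^ 2 := by
      intro a
      obtain ⟨s, k, hsk, hkF, hχ⟩ := exists_sp n (psiOf n a) (psiOf_natDegree n a)
        (real_all p n (psiOf n a) (psiOf_monic n a) (psiOf_natDegree n a))
      refine ⟨s, ?_, hχ⟩
      have hdvd : orderOf s ∣ k := orderOf_dvd_of_pow_eq_one hsk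
      have hnd : ¬ p ∣ orderOf s := by
        intro hp
        exact hkF ((CharP.cast_eq_zero_iff F p k).mpr (hp.trans hdvd))
      exact ((Nat.Prime.coprime_iff_not_dvd (Fact.out : p.Prime)).mpr hnd).symm
    choose s hs1 hs2 using hex
    refine Nat.card_le_card_of_injective
      (fun a => ⟨ConjClasses.mk (s a), ⟨s a, rfl, hs1 a⟩⟩) ?_
    intro a b hab
    have hab' : ConjClasses.mk (s a) = ConjClasses.mk (s b) := congrArg Subtype.val hab
    rw [ConjClasses.mk_eq_mk_iff_isConj, isConj_iff] at hab'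
    obtain ⟨t, ht⟩ := hab'
    have h1 : (s b).1 + ((s b)⁻¹).1 = t.1 * (((s a).1 + ((s a)⁻¹).1) * (t⁻¹).1) := by
      rw [← ht]
      have e1 : (t * s a * t⁻¹ : ↥(Matrix.symplecticGroup (Fin n) F)).1
          = t.1 * (s a).1 * (t⁻¹).1 := rfl
      have e2 : ((t * s a * t⁻¹)⁻¹ : ↥(Matrix.symplecticGroup (Fin n) F)).1
          = t.1 * ((s a)⁻¹).1 * (t⁻¹).1 := by
        rw [mul_inv_rev, mul_inv_rev, inv_inv, ← mul_assoc]
        rfl
      rw [e1, e2]
      simp only [Matrix.mul_add, Matrix.add_mul, Matrix.mul_assoc]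
    have h2 : (t⁻¹).1 * t.1 = 1 := by
      have : (t⁻¹ * t).1 = 1 := by rw [inv_mul_cancel]; rfl
      exact this
    have h3 : ((s b).1 + ((s b)⁻¹).1).charpoly = ((s a).1 + ((s a)⁻¹).1).charpoly := by
      rw [h1, Matrix.charpoly_mul_comm, Matrix.mul_assoc, h2, Matrix.mul_one]
    rw [hs2, hs2] at h3
    have h4 : psiOf n b = psiOf n a := by
      rcases sq_eq_sq_iff_eq_or_eq_neg.mp h3 with h | h
      · exact h
      · have h5 := congrArg (fun P => P.coeff n) h
        simp only [coeff_neg] at h5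
        have hb := (psiOf_monic n b).coeff_natDegree
        rw [psiOf_natDegree] at hb
        have ha := (psiOf_monic n a).coeff_natDegree
        rw [psiOf_natDegree] at ha
        rw [hb, ha] at h5
        have h2F : (2 : F) = 0 := by linear_combination h5
        rw [h, neg_eq_iff_add_eq_zero, ← two_smul F (psiOf n a), h2F, zero_smul]
    exact (psiOf_injective n h4).symm

end Cfsg.Agent.Lib.helper4.SpSSCount
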