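import Mathlib
import Cfsg.Agent.Lib.helper4.OrthIdx

set_option autoImplicit false

/-!
# The subgroup generated by the reflections of a fixed norm class has index two

`refl_pair_rewrite` (a product of two reflections rewritten with a prescribed first vector of the
plane), `pair_mem_Rc`, `Rc_index_two`.
-/

namespace Cfsg.Agent.Lib.helper4

open Cfsg.Agent.Lib.helper13

section OrthRc

variable {F : Type*} [Field F] {ι : Type} [Fintype ι] [DecidableEq ι]

omit [Fintype ι] [DecidableEq ι] in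
lemma Q_lin2 (Q : QuadraticForm F (ι → F)) (a b : ι → F) (x y : F) :
    Q (x • a + y • b) = x ^ 2 * Q a + y ^ 2 * Q b + x * y * QuadraticMap.polar (⇑Q) a b := by
  rw [QuadraticMap.map_add (⇑Q), QuadraticMap.map_smul, QuadraticMap.map_smul,
    QuadraticMap.polar_smul_left, QuadraticMap.polar_smul_right]
  simp only [smul_eq_mul]
  ring

omit [Fintype ι] [DecidableEq ι] in
lemma polar_self' (Q : QuadraticForm F (ι → F)) (a : ι → F) :
    QuadraticMap.polar (⇑Q) a a = 2 * Q a := by
  rw [QuadraticMap.polar_self, two_nsmul, two_mul]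

/-- `r_a r_b = r_u r_u'` for any non-singular `u = x a + y b` of the plane. -/
theorem refl_pair_rewrite (Q : QuadraticForm F (ι → F)) (a b : ι → F) (ha : Q a ≠ 0)
    (hb : Q b ≠ 0) (x y : F) (hu : Q (x • a + y • b) ≠ 0) :
    Q ((-(y * Q b)) • a + (x * Q a + y * QuadraticMap.polar (⇑Q) a b) • b)
        = Q a * Q b * Q (x • a + y • b) ∧
    reflEl Q a * reflEl Q b = reflEl Q (x • a + y • b)
      * reflEl Q ((-(y * Q b)) • a + (x * Q a + y * QuadraticMap.polar (⇑Q) a b) • b) := by
  have hN := Q_lin2 Q a b x y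
  have hN' : Q ((-(y * Q b)) • a + (x * Q a + y * QuadraticMap.polar (⇑Q) a b) • b)
      = Q a * Q b * Q (x • a + y • b) := by
    rw [Q_lin2, Q_lin2]
    ring
  refine ⟨hN', ?_⟩
  have hu' : Q ((-(y * Q b)) • a + (x * Q a + y * QuadraticMap.polar (⇑Q) a b) • b) ≠ 0 := by
    rw [hN']
    exact mul_ne_zero (mul_ne_zero ha hb) hu
  have hN0 : x ^ 2 * Q a + y ^ 2 * Q b + x * y * QuadraticMap.polar (⇑Q) a b ≠ 0 := by
    rw [← hN]
    exact hu
  apply isom_ext
  rw [isom_coe_mul, isom_coe_mul, reflEl_coe Q a ha, reflEl_coe Q b hb, reflEl_coe Q _ hu,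
    reflEl_coe Q _ hu']
  apply Matrix.mulVec_injective
  funext z
  rw [← Matrix.mulVec_mulVec, ← Matrix.mulVec_mulVec, refl_mulVec, refl_mulVec, refl_mulVec,
    refl_mulVec, hN', hN]
  simp only [QuadraticMap.polar_add_left, QuadraticMap.polar_smul_left,
    QuadraticMap.polar_sub_right, QuadraticMap.polar_smul_right, QuadraticMap.polar_add_right,
    smul_eq_mul, polar_self', QuadraticMap.polar_comm (⇑Q) b a]
  obtain ⟨N, hNdef⟩ : ∃ N : F, N = x ^ 2 * Q a + y ^ 2 * Q b
      + x * y * QuadraticMap.polar (⇑Q) a b := ⟨_, rfl⟩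
  rw [← hNdef] at hN0 ⊢
  match_scalars
  · field_simp
  · field_simp
    rw [hNdef]
    ring
  · field_simp
    rw [hNdef]
    ring

/-- the subgroup generated by the reflections `r_v` with `Q v ∈ c (F^×)^2` -/
def Rc (Q : QuadraticForm F (ι → F)) (c : F) : Subgroup ↥(Cfsg.isometryGroup F ⇑Q) :=
  Subgroup.closure {g : ↥(Cfsg.isometryGroup F ⇑Q) | ∃ (v : ι → F) (t : F), t ≠ 0 ∧
    Q v = c * t ^ 2 ∧ ((g : Matrix.GeneralLinearGroup ι F) : Matrix ι ι F)
      = Cfsg.reflectionMatrix ⇑Q v}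

lemma refl_mem_Rc (Q : QuadraticForm F (ι → F)) (c : F) (hc : c ≠ 0) (v : ι → F) (t : F)
    (ht : t ≠ 0) (hv : Q v = c * t ^ 2) : reflEl Q v ∈ Rc Q c :=
  Subgroup.subset_closure ⟨v, t, ht, hv, reflEl_coe Q v (by
    rw [hv]
    exact mul_ne_zero hc (pow_ne_zero 2 ht))⟩

omit [Fintype ι] [DecidableEq ι] in
lemma exists_binary [Fintype F] (h2 : (2 : F) ≠ 0) (α β c : F) (hα : α ≠ 0) (hβ : β ≠ 0) :
    ∃ x y : F, α * x ^ 2 + β * y ^ 2 = c := by
  have hchar : ringChar F ≠ 2 := by
    intro h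
    have : CharP F 2 := ringChar.of_eq h
    exact h2 (by exact_mod_cast CharP.cast_eq_zero F 2)
  have hf : (Polynomial.C α * Polynomial.X ^ 2 : Polynomial F).degree = 2 :=
    Polynomial.degree_C_mul_X_pow 2 hα
  have hg : (Polynomial.C β * Polynomial.X ^ 2 - Polynomial.C c : Polynomial F).degree = 2 := by
    rw [Polynomial.degree_sub_C (by rw [Polynomial.degree_C_mul_X_pow 2 hβ]; norm_num)]
    exact Polynomial.degree_C_mul_X_pow 2 hβ
  obtain ⟨x, y, hxy⟩ := FiniteField.exists_root_sum_quadratic hf hg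
    (FiniteField.odd_card_of_char_ne_two hchar)
  simp only [Polynomial.eval_sub, Polynomial.eval_mul, Polynomial.eval_pow, Polynomial.eval_X,
    Polynomial.eval_C] at hxy
  exact ⟨x, y, by linear_combination hxy⟩

/-- the non-degenerate case: the plane of `a`, `b` contains a vector of norm `c`. -/
theorem pair_mem_Rc_nondeg [Fintype F] (h2 : (2 : F) ≠ 0) (Q : QuadraticForm F (ι → F)) (c : F)
    (hc : c ≠ 0) (a b : ι → F) (ha : Q a ≠ 0) (hb : Q b ≠ 0) (hsq : IsSquare (Q a * Q b))
    (hnd : QuadraticMap.polar (⇑Q) a b ^ 2 ≠ 4 * Q a * Q b) :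
    reflEl Q a * reflEl Q b ∈ Rc Q c := by
  have h4 : (4 : F) ≠ 0 := by
    have : (4 : F) = 2 * 2 := by norm_num
    rw [this]
    exact mul_ne_zero h2 h2
  have hβ' : (4 * Q a * Q b - QuadraticMap.polar (⇑Q) a b ^ 2) / (4 * Q a) ≠ 0 := by
    apply div_ne_zero
    · intro h
      exact hnd (by linear_combination -h)
    · exact mul_ne_zero h4 ha
  obtain ⟨x', y, hxy⟩ := exists_binary h2 (Q a) _ c ha hβ'
  have hQu : Q ((x' - QuadraticMap.polar (⇑Q) a b * y / (2 * Q a)) • a + y • b) = c := by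
    rw [Q_lin2, ← hxy]
    field_simp
    ring
  have hu : Q ((x' - QuadraticMap.polar (⇑Q) a b * y / (2 * Q a)) • a + y • b) ≠ 0 := by
    rw [hQu]
    exact hc
  obtain ⟨e1, e2⟩ := refl_pair_rewrite Q a b ha hb _ y hu
  obtain ⟨s, hs⟩ := hsq
  have hs0 : s ≠ 0 := by
    rintro rfl
    exact mul_ne_zero ha hb (by rw [hs]; ring)
  rw [e2]
  apply mul_mem
  · exact refl_mem_Rc Q c hc _ 1 one_ne_zero (by rw [hQu]; ring)
  · exact refl_mem_Rc Q c hc _ s hs0 (by rw [e1, hQu, hs]; ring)

omit [Fintype ι] [DecidableEq ι] in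
lemma exists_diff_sq [Fintype F] (h2 : (2 : F) ≠ 0) (ρ : F)
    (hρ : ρ ≠ -1 ∨ Fintype.card F ≠ 3) : ∃ ξ s : F, s ≠ 0 ∧ s ^ 2 - ξ ^ 2 = ρ := by
  classical
  by_cases h1 : ρ = -1
  · have hcard : Fintype.card F ≠ 3 := hρ.resolve_left (not_not.mpr h1)
    obtain ⟨k, hk0, hk1, hk2⟩ : ∃ k : F, k ≠ 0 ∧ k ≠ 1 ∧ k ≠ -1 := by
      by_contra hcon
      push Not at hcon
      have hsub : (Finset.univ : Finset F) ⊆ {0, 1, -1} := by
        intro k _
        by_cases hk0 : k = 0
        · simp [hk0]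
        · by_cases hk1 : k = 1
          · simp [hk1]
          · simp [hcon k hk0 hk1]
      have hle : Fintype.card F ≤ 3 := (Finset.card_le_card hsub).trans Finset.card_le_three
      have hge : 3 ≤ Fintype.card F := by
        have h3 : ({0, 1, -1} : Finset F).card = 3 := by
          rw [Finset.card_insert_of_notMem, Finset.card_insert_of_notMem, Finset.card_singleton]
          · rw [Finset.mem_singleton]
            intro h
            apply h2
            linear_combination h
          · rw [Finset.mem_insert, Finset.mem_singleton]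
            rintro (h | h)
            · exact zero_ne_one h
            · exact one_ne_zero (neg_eq_zero.mp h.symm)
        rw [← h3]
        exact Finset.card_le_univ _
      omega
    refine ⟨-(k + k⁻¹) / 2, (k - k⁻¹) / 2, ?_, ?_⟩
    · intro h
      have h3 : k - k⁻¹ = 0 := by
        rcases div_eq_zero_iff.mp h with h | h
        · exact h
        · exact absurd h h2
      have h4 : k * k = 1 := by
        have h5 : k = k⁻¹ := sub_eq_zero.mp h3
        nth_rewrite 2 [h5]
        exact mul_inv_cancel₀ hk0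
      have h5 : (k - 1) * (k + 1) = 0 := by linear_combination h4
      rcases mul_eq_zero.mp h5 with h | h
      · exact hk1 (sub_eq_zero.mp h)
      · exact hk2 (eq_neg_of_add_eq_zero_left h)
    · rw [h1]
      field_simp
      ring
  · refine ⟨(ρ - 1) / 2, (ρ + 1) / 2, ?_, ?_⟩
    · intro h
      rcases div_eq_zero_iff.mp h with h | h
      · exact h1 (eq_neg_of_add_eq_zero_left h)
      · exact h2 h
    · field_simp
      ring

/-- the degenerate case: an intermediate vector. -/
lemma exists_mid [Fintype F] (h2 : (2 : F) ≠ 0) (Q : QuadraticForm F (ι → F))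
    (hQ : (QuadraticMap.polarBilin Q).Nondegenerate)
    (hn : Fintype.card ι = 2 ∨ 4 ≤ Fintype.card ι)
    (h43 : ¬ (Fintype.card ι = 4 ∧ Fintype.card F = 3))
    (a b : ι → F) (ha : Q a ≠ 0) (hb : Q b ≠ 0)
    (hdeg : QuadraticMap.polar (⇑Q) a b ^ 2 = 4 * Q a * Q b)
    (hnp : b - (QuadraticMap.polar (⇑Q) a b / (2 * Q a)) • a ≠ 0) :
    ∃ z, Q z ≠ 0 ∧ IsSquare (Q a * Q z) ∧
      QuadraticMap.polar (⇑Q) a z ^ 2 ≠ 4 * Q a * Q z ∧
      QuadraticMap.polar (⇑Q) z b ^ 2 ≠ 4 * Q z * Q b := by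
  classical
  have h4 : (4 : F) ≠ 0 := by
    have : (4 : F) = 2 * 2 := by norm_num
    rw [this]
    exact mul_ne_zero h2 h2
  obtain ⟨lam, hlam⟩ : ∃ lam : F, lam = QuadraticMap.polar (⇑Q) a b / (2 * Q a) := ⟨_, rfl⟩
  obtain ⟨b', hb'⟩ : ∃ b' : ι → F, b' = b - lam • a := ⟨_, rfl⟩
  have h2a : 2 * Q a ≠ 0 := mul_ne_zero h2 ha
  have haa : QuadraticMap.polar (⇑Q) a a = 2 * Q a := polar_self' Q a
  have hγ : QuadraticMap.polar (⇑Q) a b = 2 * lam * Q a := by
    rw [hlam]
    field_simp
  have hab' : QuadraticMap.polar (⇑Q) a b' = 0 := by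
    rw [hb', QuadraticMap.polar_sub_right, QuadraticMap.polar_smul_right, haa, hγ, smul_eq_mul]
    ring
  have hQb : Q b = lam ^ 2 * Q a := by
    have h1 : 4 * Q a * (Q b - lam ^ 2 * Q a) = 0 := by
      rw [hγ] at hdeg
      linear_combination -hdeg
    rcases mul_eq_zero.mp h1 with h | h
    · exact absurd h (mul_ne_zero h4 ha)
    · exact sub_eq_zero.mp h
  have hQb' : Q b' = 0 := by
    rw [hb', sub_eq_add_neg, ← neg_smul, QuadraticMap.map_add (⇑Q), QuadraticMap.map_smul,
      QuadraticMap.polar_smul_right, QuadraticMap.polar_comm (⇑Q) b a, hγ, hQb]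
    simp only [smul_eq_mul]
    ring
  have hb'0 : b' ≠ 0 := by
    rw [hb', hlam]
    exact hnp
  have hbb' : b = b' + lam • a := by
    rw [hb']
    abel
  have hlam0 : lam ≠ 0 := by
    rintro h
    rw [h] at hQb
    apply hb
    rw [hQb]
    ring
  have hA : GoodSub Q (Submodule.span F {a}) := by
    intro x hx hxy
    obtain ⟨t, rfl⟩ := Submodule.mem_span_singleton.mp hx
    have h1 := hxy a (Submodule.mem_span_singleton_self a)
    rw [QuadraticMap.polar_smul_left, haa, smul_eq_mul] at h1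
    rcases mul_eq_zero.mp h1 with h | h
    · rw [h, zero_smul]
    · exact absurd h h2a
  have hU : GoodSub Q (orthSub Q (Submodule.span F {a})) := goodSub_orth Q hQ _ hA
  have hb'U : b' ∈ orthSub Q (Submodule.span F {a}) := by
    rw [mem_orthSub]
    intro x hx
    obtain ⟨t, rfl⟩ := Submodule.mem_span_singleton.mp hx
    rw [QuadraticMap.polar_smul_left, hab', smul_zero]
  obtain ⟨w, hwU, hw⟩ : ∃ w ∈ orthSub Q (Submodule.span F {a}),
      QuadraticMap.polar (⇑Q) b' w ≠ 0 := by
    by_contra hcon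
    push Not at hcon
    exact hb'0 (hU b' hb'U hcon)
  have haw : QuadraticMap.polar (⇑Q) a w = 0 :=
    (mem_orthSub Q _ w).mp hwU a (Submodule.mem_span_singleton_self a)
  have ha0 : a ≠ 0 := by
    rintro rfl
    exact ha (map_zero Q)
  have hn4 : 4 ≤ Fintype.card ι := by
    rcases hn with hn | hn
    · exfalso
      have hfin : Module.finrank F ↥(orthSub Q (Submodule.span F {a})) = 1 := by
        rw [finrank_orthSub Q hQ, finrank_span_singleton ha0, hn]
      obtain ⟨v, hv0, hv⟩ := finrank_eq_one_iff'.mp hfin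
      obtain ⟨c₁, hc₁⟩ := hv ⟨b', hb'U⟩
      obtain ⟨c₂, hc₂⟩ := hv ⟨w, hwU⟩
      have e1 : b' = c₁ • (v : ι → F) := (congrArg Subtype.val hc₁).symm
      have e2 : w = c₂ • (v : ι → F) := (congrArg Subtype.val hc₂).symm
      have h3 : c₁ * c₁ * Q (v : ι → F) = 0 := by
        have h5 := hQb'
        rw [e1, QuadraticMap.map_smul, smul_eq_mul] at h5
        exact h5
      apply hw
      rw [e1, e2, QuadraticMap.polar_smul_left, QuadraticMap.polar_smul_right, polar_self']
      simp only [smul_eq_mul]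
      rcases mul_eq_zero.mp h3 with h | h
      · have : c₁ = 0 := mul_self_eq_zero.mp h
        rw [this]
        ring
      · rw [h]
        ring
    · exact hn
  obtain ⟨K, hK⟩ : ∃ K : Submodule F (ι → F), K = Submodule.span F {a, b', w} := ⟨_, rfl⟩
  have haK : a ∈ K := by
    rw [hK]
    exact Submodule.subset_span (by simp)
  have hb'K : b' ∈ K := by
    rw [hK]
    exact Submodule.subset_span (by simp)
  have hwK : w ∈ K := by
    rw [hK]
    exact Submodule.subset_span (by simp)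
  have hKgood : GoodSub Q K := by
    intro x hx hxy
    rw [hK] at hx
    obtain ⟨x₁, x₂, x₃, rfl⟩ := Submodule.mem_span_triple.mp hx
    have e1 := hxy a haK
    have e2 := hxy b' hb'K
    have e3 := hxy w hwK
    simp only [QuadraticMap.polar_add_left, QuadraticMap.polar_smul_left, smul_eq_mul] at e1 e2 e3
    rw [haa, QuadraticMap.polar_comm (⇑Q) b' a, hab', QuadraticMap.polar_comm (⇑Q) w a, haw]
      at e1
    rw [hab', polar_self', hQb', QuadraticMap.polar_comm (⇑Q) w b'] at e2
    rw [haw] at e3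
    have hx1 : x₁ = 0 := by
      have : x₁ * (2 * Q a) = 0 := by linear_combination e1
      exact (mul_eq_zero.mp this).resolve_right h2a
    have hx3 : x₃ = 0 := by
      have : x₃ * QuadraticMap.polar (⇑Q) b' w = 0 := by linear_combination e2
      exact (mul_eq_zero.mp this).resolve_right hw
    have hx2 : x₂ = 0 := by
      rw [hx1, hx3] at e3
      have : x₂ * QuadraticMap.polar (⇑Q) b' w = 0 := by linear_combination e3
      exact (mul_eq_zero.mp this).resolve_right hw
    rw [hx1, hx2, hx3]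
    simp
  have hKfin : Module.finrank F ↥K ≤ 3 := by
    have h1 : K = Submodule.span F (↑({a, b', w} : Finset (ι → F)) : Set (ι → F)) := by
      rw [hK]
      congr 1
      simp
    rw [h1]
    exact (finrank_span_finset_le_card _).trans Finset.card_le_three
  have hWgood : GoodSub Q (orthSub Q K) := goodSub_orth Q hQ K hKgood
  have hWfin : Fintype.card ι - 3 ≤ Module.finrank F ↥(orthSub Q K) := by
    rw [finrank_orthSub Q hQ]
    omega
  have hWorth : ∀ z ∈ orthSub Q K, QuadraticMap.polar (⇑Q) a z = 0 ∧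
      QuadraticMap.polar (⇑Q) z b = 0 := by
    intro z hz
    have e1 : QuadraticMap.polar (⇑Q) a z = 0 := (mem_orthSub Q K z).mp hz a haK
    have e2 : QuadraticMap.polar (⇑Q) b' z = 0 := (mem_orthSub Q K z).mp hz b' hb'K
    refine ⟨e1, ?_⟩
    rw [QuadraticMap.polar_comm, hbb', QuadraticMap.polar_add_left, QuadraticMap.polar_smul_left,
      e1, e2, smul_zero, add_zero]
  by_cases hA' : ∃ z ∈ orthSub Q K, Q z ≠ 0 ∧ IsSquare (Q a * Q z)
  · obtain ⟨z, hzW, hz0, hzsq⟩ := hA'
    obtain ⟨e1, e2⟩ := hWorth z hzW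
    refine ⟨z, hz0, hzsq, ?_, ?_⟩
    · rw [e1]
      intro h
      exact mul_ne_zero (mul_ne_zero h4 ha) hz0 (by rw [← h]; ring)
    · rw [e2]
      intro h
      exact mul_ne_zero (mul_ne_zero h4 hz0) hb (by rw [← h]; ring)
  · push Not at hA'
    have hW1 : Module.finrank F ↥(orthSub Q K) < 2 := by
      by_contra hge
      push Not at hge
      obtain ⟨z, hzW, hz⟩ := good_universal Q hQ _ hWgood hge (Q a) ha
      exact hA' z hzW (by rw [hz]; exact ha) (by rw [hz]; exact ⟨Q a, rfl⟩)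
    have hn4' : Fintype.card ι = 4 := by omega
    have hF3 : Fintype.card F ≠ 3 := fun h => h43 ⟨hn4', h⟩
    have hW0 : orthSub Q K ≠ ⊥ := by
      intro h
      rw [h, finrank_bot] at hWfin
      omega
    obtain ⟨d, hdW, hd0⟩ := exists_nonsing_of_good Q _ hWgood hW0
    obtain ⟨e1, e2⟩ := hWorth d hdW
    obtain ⟨ξ, s, hs0, hs⟩ := exists_diff_sq h2 (Q d / Q a) (Or.inr hF3)
    have hρ0 : s ^ 2 - ξ ^ 2 ≠ 0 := by
      rw [hs]
      exact div_ne_zero hd0 ha
    have hQd : Q d = Q a * (s ^ 2 - ξ ^ 2) := by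
      rw [hs]
      field_simp
    have hQz : Q (ξ • a + d) = Q a * s ^ 2 := by
      rw [QuadraticMap.map_add (⇑Q), QuadraticMap.map_smul, QuadraticMap.polar_smul_left, e1, hQd]
      simp only [smul_eq_mul]
      ring
    refine ⟨ξ • a + d, ?_, ?_, ?_, ?_⟩
    · rw [hQz]
      exact mul_ne_zero ha (pow_ne_zero 2 hs0)
    · rw [hQz]
      exact ⟨Q a * s, by ring⟩
    · rw [hQz, QuadraticMap.polar_add_right, QuadraticMap.polar_smul_right, haa, e1]
      simp only [smul_eq_mul]
      intro h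
      have h5 : 4 * Q a ^ 2 * (s ^ 2 - ξ ^ 2) = 0 := by linear_combination -h
      exact mul_ne_zero (mul_ne_zero h4 (pow_ne_zero 2 ha)) hρ0 h5
    · rw [hQz, QuadraticMap.polar_add_left, QuadraticMap.polar_smul_left, e2, hQb, hγ]
      simp only [smul_eq_mul]
      intro h
      have h5 : 4 * Q a ^ 2 * lam ^ 2 * (s ^ 2 - ξ ^ 2) = 0 := by linear_combination -h
      exact mul_ne_zero (mul_ne_zero (mul_ne_zero h4 (pow_ne_zero 2 ha)) (pow_ne_zero 2 hlam0))
        hρ0 h5

/-- a product of two reflections whose norms lie in the same square class lies in `Rc`. -/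
theorem pair_mem_Rc [Fintype F] (h2 : (2 : F) ≠ 0) (Q : QuadraticForm F (ι → F))
    (hQ : (QuadraticMap.polarBilin Q).Nondegenerate)
    (hn : Fintype.card ι = 2 ∨ 4 ≤ Fintype.card ι)
    (h43 : ¬ (Fintype.card ι = 4 ∧ Fintype.card F = 3)) (c : F) (hc : c ≠ 0)
    (a b : ι → F) (ha : Q a ≠ 0) (hb : Q b ≠ 0) (hsq : IsSquare (Q a * Q b)) :
    reflEl Q a * reflEl Q b ∈ Rc Q c := by
  by_cases hnd : QuadraticMap.polar (⇑Q) a b ^ 2 = 4 * Q a * Q b
  · by_cases hnp : b - (QuadraticMap.polar (⇑Q) a b / (2 * Q a)) • a = 0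
    · have hb' : b = (QuadraticMap.polar (⇑Q) a b / (2 * Q a)) • a := sub_eq_zero.mp hnp
      have ht0 : QuadraticMap.polar (⇑Q) a b / (2 * Q a) ≠ 0 := by
        intro h
        rw [h, zero_smul] at hb'
        rw [hb', map_zero] at hb
        exact hb rfl
      rw [hb', reflEl_smul Q a ha _ ht0, reflEl_mul_self]
      exact one_mem _
    · obtain ⟨z, hz0, hzsq, hz1, hz2⟩ := exists_mid h2 Q hQ hn h43 a b ha hb hnd hnp
      have hzb : IsSquare (Q z * Q b) := by
        obtain ⟨s₁, hs₁⟩ := hsq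
        obtain ⟨s₂, hs₂⟩ := hzsq
        refine ⟨s₁ * s₂ / Q a, ?_⟩
        field_simp
        linear_combination Q a * Q z * hs₁ + s₁ * s₁ * hs₂
      have e1 := pair_mem_Rc_nondeg h2 Q c hc a z ha hz0 hzsq hz1
      have e2 := pair_mem_Rc_nondeg h2 Q c hc z b hz0 hb hzb hz2
      have e3 : reflEl Q a * reflEl Q b
          = (reflEl Q a * reflEl Q z) * (reflEl Q z * reflEl Q b) := by
        rw [mul_assoc, ← mul_assoc (reflEl Q z), reflEl_mul_self, one_mul]
      rw [e3]
      exact mul_mem e1 e2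
  · exact pair_mem_Rc_nondeg h2 Q c hc a b ha hb hsq hnd

/-- the reflections with norm in a fixed square class generate a subgroup of index two. -/
theorem Rc_index_two [Fintype F] (h2 : (2 : F) ≠ 0) (Q : QuadraticForm F (ι → F))
    (hQ : (QuadraticMap.polarBilin Q).Nondegenerate)
    (hn : Fintype.card ι = 2 ∨ 4 ≤ Fintype.card ι)
    (h43 : ¬ (Fintype.card ι = 4 ∧ Fintype.card F = 3)) (c : F) (hc : c ≠ 0) :
    (Rc Q c).index = 2 := by
  classical
  obtain ⟨ε, hε⟩ := exists_nonsq (F := F) h2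
  have hε0 : ε ≠ 0 := by
    rintro rfl
    exact hε ⟨0, by simp⟩
  have hcε : c * ε ≠ 0 := mul_ne_zero hc hε0
  obtain ⟨ψ, hψ⟩ : ∃ ψ : ↥(Cfsg.isometryGroup F ⇑Q) →* ℤˣ, ψ = spin Q (c * ε) := ⟨_, rfl⟩
  have hσ : ∀ v, Q v ≠ 0 →
      ψ (reflEl Q v) = if IsSquare (c * ε / Q v) then -1 else 1 := by
    intro v hv
    rw [hψ]
    exact spin_refl h2 Q (c * ε) hcε v hv
  have F1 : ∀ v, Q v ≠ 0 → ψ (reflEl Q v) = 1 → reflEl Q v ∈ Rc Q c := by
    intro v hv h1
    rw [hσ v hv] at h1
    have hns : ¬ IsSquare (c * ε / Q v) := by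
      intro h
      rw [if_pos h] at h1
      exact absurd h1 (by decide)
    obtain ⟨s, hs⟩ := isSquare_mul_of_not _ _ hns hε
    have hs0 : s ≠ 0 := by
      rintro rfl
      exact mul_ne_zero (div_ne_zero hcε hv) hε0 (by rw [hs]; ring)
    apply refl_mem_Rc Q c hc v (ε / s) (div_ne_zero hε0 hs0)
    field_simp
    field_simp at hs
    linear_combination -hs
  have F2 : ∀ v w, Q v ≠ 0 → Q w ≠ 0 → ψ (reflEl Q v) = -1 → ψ (reflEl Q w) = -1 →
      IsSquare (Q v * Q w) := by
    intro v w hv hw h1 h1'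
    rw [hσ v hv] at h1
    rw [hσ w hw] at h1'
    have hs1 : IsSquare (c * ε / Q v) := by
      by_contra h
      rw [if_neg h] at h1
      exact absurd h1 (by decide)
    have hs2 : IsSquare (c * ε / Q w) := by
      by_contra h
      rw [if_neg h] at h1'
      exact absurd h1' (by decide)
    obtain ⟨s₁, e1⟩ := hs1
    obtain ⟨s₂, e2⟩ := hs2
    have hs10 : s₁ ≠ 0 := by
      rintro rfl
      exact div_ne_zero hcε hv (by rw [e1]; ring)
    have hs20 : s₂ ≠ 0 := by
      rintro rfl
      exact div_ne_zero hcε hw (by rw [e2]; ring)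
    refine ⟨c * ε / (s₁ * s₂), ?_⟩
    field_simp
    field_simp at e1 e2
    linear_combination (-(c * ε)) * e1 - Q v * s₁ * s₁ * e2
  have hle : Rc Q c ≤ ψ.ker := by
    unfold Rc
    rw [Subgroup.closure_le]
    rintro g ⟨v, t, ht, hv, hg⟩
    have hv0 : Q v ≠ 0 := by
      rw [hv]
      exact mul_ne_zero hc (pow_ne_zero 2 ht)
    have hgr : g = reflEl Q v := isom_ext Q g _ (by rw [hg, reflEl_coe Q v hv0])
    rw [SetLike.mem_coe, MonoidHom.mem_ker, hgr, hσ v hv0, if_neg]
    rintro ⟨s, hs⟩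
    apply hε
    refine ⟨s * t, ?_⟩
    rw [hv] at hs
    field_simp at hs
    linear_combination hs
  obtain ⟨w₀, hw₀⟩ := universal Q hQ (by omega) (c * ε) hcε
  have hw₀0 : Q w₀ ≠ 0 := by
    rw [hw₀]
    exact hcε
  have hψw₀ : ψ (reflEl Q w₀) = -1 := by
    rw [hσ w₀ hw₀0, if_pos]
    rw [hw₀, div_self hcε]
    exact ⟨1, by ring⟩
  have key : ∀ vs : List (ι → F), (∀ v ∈ vs, Q v ≠ 0) →
      (ψ (vs.map (reflEl Q)).prod = 1 → (vs.map (reflEl Q)).prod ∈ Rc Q c) ∧
      (ψ (vs.map (reflEl Q)).prod = -1 → ∀ w, Q w ≠ 0 → ψ (reflEl Q w) = -1 →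
        reflEl Q w * (vs.map (reflEl Q)).prod ∈ Rc Q c) := by
    intro vs
    induction vs with
    | nil =>
      intro _
      refine ⟨fun _ => ?_, fun h => ?_⟩
      · rw [List.map_nil, List.prod_nil]
        exact one_mem _
      · rw [List.map_nil, List.prod_nil, map_one] at h
        exact absurd h (by decide)
    | cons v vs ih =>
      intro hvs
      have hv : Q v ≠ 0 := hvs v List.mem_cons_self
      obtain ⟨ih1, ih2⟩ := ih (fun u hu => hvs u (List.mem_cons_of_mem _ hu))
      rw [List.map_cons, List.prod_cons, map_mul]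
      rcases Int.units_eq_one_or (ψ (reflEl Q v)) with h1 | h1
      · have hvR := F1 v hv h1
        rw [h1, one_mul]
        refine ⟨fun h => mul_mem hvR (ih1 h), fun h w hw hψw => ?_⟩
        have e : reflEl Q w * (reflEl Q v * (vs.map (reflEl Q)).prod)
            = (reflEl Q w * reflEl Q v * (reflEl Q w)⁻¹)
              * (reflEl Q w * (vs.map (reflEl Q)).prod) := by group
        rw [e]
        refine mul_mem ?_ (ih2 h w hw hψw)
        have hconj := reflEl_conj Q (reflEl Q w) v hv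
        rw [hconj]
        apply F1
        · rw [isom_pres]
          exact hv
        · rw [← hconj, map_mul, map_mul, map_inv, h1, mul_one, mul_inv_cancel]
      · rw [h1]
        refine ⟨fun h => ?_, fun h w hw hψw => ?_⟩
        · have h' : ψ (vs.map (reflEl Q)).prod = -1 := by
            rcases Int.units_eq_one_or (ψ (vs.map (reflEl Q)).prod) with h3 | h3
            · rw [h3] at h
              exact absurd h (by decide)
            · exact h3
          exact ih2 h' v hv h1
        · have h' : ψ (vs.map (reflEl Q)).prod = 1 := by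
            rcases Int.units_eq_one_or (ψ (vs.map (reflEl Q)).prod) with h3 | h3
            · exact h3
            · rw [h3] at h
              exact absurd h (by decide)
          rw [← mul_assoc]
          exact mul_mem (pair_mem_Rc h2 Q hQ hn h43 c hc w v hw hv (F2 w v hw hv hψw h1))
            (ih1 h')
  have heq : Rc Q c = ψ.ker := by
    apply le_antisymm hle
    intro g hg
    obtain ⟨vs, hvs, rfl⟩ := exists_list_of_mem Q g (cd_odd h2 Q hQ g)
    exact (key vs hvs).1 (MonoidHom.mem_ker.mp hg)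
  rw [heq]
  exact index_ker_of_neg_one ψ (reflEl Q w₀) hψw₀

end OrthRc

end Cfsg.Agent.Lib.helper4
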