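import Mathlib
import Cfsg.Agent.Lib.helper4.OrthRc

set_option autoImplicit false

/-!
# Non-degenerate quadratic forms of odd dimension over a finite field of odd characteristic are
similar

`sim_equiv`, `Q_hyp`, `exists_hyp_pair`, `hyp_compl`, `sim_odd`.
-/

namespace Cfsg.Agent.Lib.helper4

section QSim

universe u

variable {F : Type u} [Field F]

lemma polar_selfV {V : Type*} [AddCommGroup V] [Module F V] (Q : QuadraticForm F V) (a : V) :
    QuadraticMap.polar (⇑Q) a a = 2 * Q a := by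
  rw [QuadraticMap.polar_self, two_nsmul, two_mul]

lemma sim_equiv {V₁ V₂ : Type*} [AddCommGroup V₁] [Module F V₁] [FiniteDimensional F V₁]
    [AddCommGroup V₂] [Module F V₂] [FiniteDimensional F V₂]
    (Q₁ : QuadraticForm F V₁) (Q₂ : QuadraticForm F V₂) (g₀ : V₁ →ₗ[F] V₂) (c : F) (hc : c ≠ 0)
    (h : ∀ v, Q₂ (g₀ v) = c * Q₁ v)
    (hsep : ∀ x, (∀ y, QuadraticMap.polar (⇑Q₁) x y = 0) → x = 0)
    (hdim : Module.finrank F V₁ = Module.finrank F V₂) :
    ∃ g : V₁ ≃ₗ[F] V₂, ∀ v, Q₂ (g v) = c * Q₁ v := by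
  have hpol : ∀ x y, QuadraticMap.polar (⇑Q₂) (g₀ x) (g₀ y)
      = c * QuadraticMap.polar (⇑Q₁) x y := by
    intro x y
    unfold QuadraticMap.polar
    rw [← map_add, h, h, h]
    ring
  have hinj : Function.Injective g₀ := by
    rw [← LinearMap.ker_eq_bot, LinearMap.ker_eq_bot']
    intro x hx
    apply hsep
    intro y
    have h1 := hpol x y
    rw [hx, QuadraticMap.polar_zero_left Q₂] at h1
    exact (mul_eq_zero.mp h1.symm).resolve_left hc
  exact ⟨LinearMap.linearEquivOfInjective g₀ hinj hdim, fun v => by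
    rw [LinearMap.linearEquivOfInjective_apply]
    exact h v⟩

lemma Q_hyp {V : Type*} [AddCommGroup V] [Module F V] (Q : QuadraticForm F V) (e f u : V)
    (he : Q e = 0) (hf : Q f = 0) (hef : QuadraticMap.polar (⇑Q) e f = 1)
    (heu : QuadraticMap.polar (⇑Q) e u = 0) (hfu : QuadraticMap.polar (⇑Q) f u = 0) (a b : F) :
    Q (a • e + b • f + u) = a * b + Q u := by
  rw [QuadraticMap.map_add (⇑Q), QuadraticMap.map_add (⇑Q), QuadraticMap.map_smul,
    QuadraticMap.map_smul, he, hf, QuadraticMap.polar_add_left, QuadraticMap.polar_smul_left,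
    QuadraticMap.polar_smul_left, QuadraticMap.polar_smul_left, QuadraticMap.polar_smul_right,
    heu, hfu, hef]
  simp only [smul_eq_mul]
  ring

lemma exists_hyp_pair [Fintype F] (h2 : (2 : F) ≠ 0) {V : Type*} [AddCommGroup V] [Module F V]
    [FiniteDimensional F V] (Q : QuadraticForm F V)
    (hsep : ∀ x, (∀ y, QuadraticMap.polar (⇑Q) x y = 0) → x = 0)
    (hdim : 3 ≤ Module.finrank F V) :
    ∃ e f : V, Q e = 0 ∧ Q f = 0 ∧ QuadraticMap.polar (⇑Q) e f = 1 := by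
  have hinv2 : Invertible (2 : F) := invertibleOfNonzero h2
  have hsymm : (QuadraticMap.polarBilin Q).IsSymm :=
    ⟨fun a b => QuadraticMap.polar_comm (⇑Q) a b⟩
  obtain ⟨v, hv⟩ := LinearMap.BilinForm.exists_orthogonal_basis hsymm
  have hortho : ∀ i j, i ≠ j → QuadraticMap.polar (⇑Q) (v i) (v j) = 0 :=
    fun i j hij => LinearMap.isOrthoᵢ_def.mp hv i j hij
  have hns : ∀ i, Q (v i) ≠ 0 := by
    intro i h0
    apply v.ne_zero i
    apply hsep
    intro y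
    have h1 : QuadraticMap.polarBilin Q (v i) = 0 := by
      apply v.ext
      intro j
      by_cases hij : i = j
      · subst hij
        show QuadraticMap.polar (⇑Q) (v i) (v i) = 0
        rw [QuadraticMap.polar_self, h0, smul_zero]
      · exact hortho i j hij
    exact congrArg (fun φ : V →ₗ[F] F => φ y) h1
  obtain ⟨i0, i1, i2, h01, h02, h12⟩ : ∃ i0 i1 i2 : Fin (Module.finrank F V),
      i0 ≠ i1 ∧ i0 ≠ i2 ∧ i1 ≠ i2 :=
    ⟨⟨0, by omega⟩, ⟨1, by omega⟩, ⟨2, by omega⟩, by simp [Fin.ext_iff], by simp [Fin.ext_iff],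
      by simp [Fin.ext_iff]⟩
  obtain ⟨s, t, hst⟩ := exists_binary h2 (Q (v i0)) (Q (v i1)) (-(Q (v i2))) (hns i0) (hns i1)
  have h2γ : 2 * Q (v i2) ≠ 0 := mul_ne_zero h2 (hns i2)
  obtain ⟨e, hedef⟩ : ∃ e : V, e = s • v i0 + t • v i1 + v i2 := ⟨_, rfl⟩
  have hQe : Q e = 0 := by
    rw [hedef, QuadraticMap.map_add (⇑Q), QuadraticMap.map_add (⇑Q), QuadraticMap.map_smul,
      QuadraticMap.map_smul, QuadraticMap.polar_add_left, QuadraticMap.polar_smul_left,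
      QuadraticMap.polar_smul_left, QuadraticMap.polar_smul_left, QuadraticMap.polar_smul_right,
      hortho i0 i1 h01, hortho i0 i2 h02, hortho i1 i2 h12]
    simp only [smul_eq_mul]
    linear_combination hst
  have hez : QuadraticMap.polar (⇑Q) e ((2 * Q (v i2))⁻¹ • v i2) = 1 := by
    rw [hedef, QuadraticMap.polar_smul_right, QuadraticMap.polar_add_left,
      QuadraticMap.polar_add_left, QuadraticMap.polar_smul_left, QuadraticMap.polar_smul_left,
      hortho i0 i2 h02, hortho i1 i2 h12, polar_selfV]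
    simp only [smul_eq_mul]
    have hγ0 : Q (v i2) ≠ 0 := hns i2
    field_simp
    ring
  obtain ⟨z, hzdef⟩ : ∃ z : V, z = (2 * Q (v i2))⁻¹ • v i2 := ⟨_, rfl⟩
  rw [← hzdef] at hez
  refine ⟨e, z - Q z • e, hQe, ?_, ?_⟩
  · have h1 : Q (z - Q z • e) = Q z + Q (Q z • e) - QuadraticMap.polar (⇑Q) z (Q z • e) := by
      have h3 : Q (z - Q z • e) = Q z + Q (-(Q z • e))
          + QuadraticMap.polar (⇑Q) z (-(Q z • e)) := by
        unfold QuadraticMap.polar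
        rw [sub_eq_add_neg]
        ring
      rw [h3, QuadraticMap.map_neg, QuadraticMap.polar_neg_right]
      ring
    rw [h1, QuadraticMap.map_smul, hQe, QuadraticMap.polar_smul_right,
      QuadraticMap.polar_comm (⇑Q) z e, hez]
    simp only [smul_eq_mul]
    ring
  · rw [QuadraticMap.polar_sub_right, QuadraticMap.polar_smul_right, hez, QuadraticMap.polar_self,
      hQe]
    simp

lemma hyp_compl {V : Type*} [AddCommGroup V] [Module F V] [FiniteDimensional F V]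
    (Q : QuadraticForm F V) (hsep : ∀ x, (∀ y, QuadraticMap.polar (⇑Q) x y = 0) → x = 0)
    (e f : V) (he : Q e = 0) (hf : Q f = 0) (hef : QuadraticMap.polar (⇑Q) e f = 1) :
    ∃ (V' : Submodule F V) (π : V →ₗ[F] ↥V'),
      (∀ x ∈ V', QuadraticMap.polar (⇑Q) e x = 0 ∧ QuadraticMap.polar (⇑Q) f x = 0) ∧
      (∀ v, v = QuadraticMap.polar (⇑Q) f v • e + QuadraticMap.polar (⇑Q) e v • f + (π v : V)) ∧
      Module.finrank F ↥V' + 2 = Module.finrank F V ∧
      (∀ x : ↥V', (∀ y : ↥V', QuadraticMap.polar (⇑Q) (x : V) (y : V) = 0) → x = 0) := by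
  classical
  obtain ⟨Φ, hΦ⟩ : ∃ Φ : V →ₗ[F] F × F,
      ∀ x, Φ x = (QuadraticMap.polar (⇑Q) e x, QuadraticMap.polar (⇑Q) f x) :=
    ⟨(QuadraticMap.polarBilin Q e).prod (QuadraticMap.polarBilin Q f), fun x => rfl⟩
  have hee : QuadraticMap.polar (⇑Q) e e = 0 := by
    rw [QuadraticMap.polar_self, he, smul_zero]
  have hff : QuadraticMap.polar (⇑Q) f f = 0 := by
    rw [QuadraticMap.polar_self, hf, smul_zero]
  have hfe : QuadraticMap.polar (⇑Q) f e = 1 := by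
    rw [QuadraticMap.polar_comm]
    exact hef
  have hmem : ∀ x, x ∈ LinearMap.ker Φ ↔
      QuadraticMap.polar (⇑Q) e x = 0 ∧ QuadraticMap.polar (⇑Q) f x = 0 := by
    intro x
    rw [LinearMap.mem_ker, hΦ, Prod.mk_eq_zero]
  obtain ⟨p₀, hp₀⟩ : ∃ p₀ : V →ₗ[F] V, ∀ v, p₀ v
      = v - QuadraticMap.polar (⇑Q) f v • e - QuadraticMap.polar (⇑Q) e v • f :=
    ⟨LinearMap.id - (QuadraticMap.polarBilin Q f).smulRight e
      - (QuadraticMap.polarBilin Q e).smulRight f, fun v => rfl⟩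
  have hp₀mem : ∀ v, p₀ v ∈ LinearMap.ker Φ := by
    intro v
    rw [hmem, hp₀]
    constructor
    · rw [QuadraticMap.polar_sub_right, QuadraticMap.polar_sub_right,
        QuadraticMap.polar_smul_right, QuadraticMap.polar_smul_right, hee, hef]
      simp
    · rw [QuadraticMap.polar_sub_right, QuadraticMap.polar_sub_right,
        QuadraticMap.polar_smul_right, QuadraticMap.polar_smul_right, hfe, hff]
      simp
  have hdec : ∀ v, v = QuadraticMap.polar (⇑Q) f v • e + QuadraticMap.polar (⇑Q) e v • f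
      + p₀ v := by
    intro v
    rw [hp₀]
    abel
  refine ⟨LinearMap.ker Φ, LinearMap.codRestrict _ p₀ hp₀mem, fun x hx => (hmem x).mp hx,
    hdec, ?_, ?_⟩
  · have hsurj : Function.Surjective Φ := by
      rintro ⟨a, b⟩
      refine ⟨a • f + b • e, ?_⟩
      rw [hΦ, QuadraticMap.polar_add_right, QuadraticMap.polar_smul_right,
        QuadraticMap.polar_smul_right, QuadraticMap.polar_add_right,
        QuadraticMap.polar_smul_right, QuadraticMap.polar_smul_right, hef, hee, hff, hfe]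
      simp
    have h1 := LinearMap.finrank_range_add_finrank_ker Φ
    rw [LinearMap.range_eq_top.mpr hsurj, finrank_top, Module.finrank_prod,
      Module.finrank_self] at h1
    omega
  · intro x hx
    apply Subtype.ext
    apply hsep
    intro v
    have hxe : QuadraticMap.polar (⇑Q) (x : V) e = 0 := by
      rw [QuadraticMap.polar_comm]
      exact ((hmem x).mp x.2).1
    have hxf : QuadraticMap.polar (⇑Q) (x : V) f = 0 := by
      rw [QuadraticMap.polar_comm]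
      exact ((hmem x).mp x.2).2
    have h3 : QuadraticMap.polar (⇑Q) (x : V) (QuadraticMap.polar (⇑Q) f v • e
        + QuadraticMap.polar (⇑Q) e v • f + p₀ v) = 0 := by
      rw [QuadraticMap.polar_add_right, QuadraticMap.polar_add_right,
        QuadraticMap.polar_smul_right, QuadraticMap.polar_smul_right, hxe, hxf,
        hx ⟨p₀ v, hp₀mem v⟩]
      simp
    rw [← hdec v] at h3
    exact h3

theorem sim_odd [Fintype F] (h2 : (2 : F) ≠ 0) :
    ∀ (k : ℕ) (V₁ V₂ : Type u) [AddCommGroup V₁] [Module F V₁] [FiniteDimensional F V₁]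
      [AddCommGroup V₂] [Module F V₂] [FiniteDimensional F V₂]
      (Q₁ : QuadraticForm F V₁) (Q₂ : QuadraticForm F V₂),
      Module.finrank F V₁ = 2 * k + 1 → Module.finrank F V₂ = 2 * k + 1 →
      (∀ x, (∀ y, QuadraticMap.polar (⇑Q₁) x y = 0) → x = 0) →
      (∀ x, (∀ y, QuadraticMap.polar (⇑Q₂) x y = 0) → x = 0) →
      ∃ (g : V₁ ≃ₗ[F] V₂) (c : F), c ≠ 0 ∧ ∀ v, Q₂ (g v) = c * Q₁ v := by
  intro k
  induction k with
  | zero =>
    intro V₁ V₂ _ _ _ _ _ _ Q₁ Q₂ hd₁ hd₂ hs₁ hs₂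
    obtain ⟨v₁, hv₁0, hv₁⟩ := finrank_eq_one_iff'.mp (by omega : Module.finrank F V₁ = 1)
    obtain ⟨v₂, hv₂0, hv₂⟩ := finrank_eq_one_iff'.mp (by omega : Module.finrank F V₂ = 1)
    have hQ₁ : Q₁ v₁ ≠ 0 := by
      intro h0
      apply hv₁0
      apply hs₁
      intro y
      obtain ⟨a, rfl⟩ := hv₁ y
      rw [QuadraticMap.polar_smul_right, QuadraticMap.polar_self, h0]
      simp
    have hQ₂ : Q₂ v₂ ≠ 0 := by
      intro h0
      apply hv₂0
      apply hs₂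
      intro y
      obtain ⟨a, rfl⟩ := hv₂ y
      rw [QuadraticMap.polar_smul_right, QuadraticMap.polar_self, h0]
      simp
    obtain ⟨g₀, hg₀⟩ : ∃ g₀ : V₁ →ₗ[F] V₂, ∀ w, g₀ w
        = ((2 * Q₁ v₁)⁻¹ * QuadraticMap.polar (⇑Q₁) v₁ w) • v₂ :=
      ⟨((2 * Q₁ v₁)⁻¹ • QuadraticMap.polarBilin Q₁ v₁).smulRight v₂, fun w => rfl⟩
    have hg₀' : ∀ a : F, g₀ (a • v₁) = a • v₂ := by
      intro a
      rw [hg₀, QuadraticMap.polar_smul_right, polar_selfV]
      congr 1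
      simp only [smul_eq_mul]
      field_simp
    obtain ⟨g, hg⟩ := sim_equiv Q₁ Q₂ g₀ (Q₂ v₂ / Q₁ v₁) (div_ne_zero hQ₂ hQ₁) (fun v => by
      obtain ⟨a, rfl⟩ := hv₁ v
      rw [hg₀', QuadraticMap.map_smul, QuadraticMap.map_smul]
      simp only [smul_eq_mul]
      field_simp) hs₁ (by omega)
    exact ⟨g, _, div_ne_zero hQ₂ hQ₁, hg⟩
  | succ k ih =>
    intro V₁ V₂ _ _ _ _ _ _ Q₁ Q₂ hd₁ hd₂ hs₁ hs₂
    obtain ⟨e₁, f₁, he₁, hf₁, hef₁⟩ := exists_hyp_pair h2 Q₁ hs₁ (by omega)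
    obtain ⟨e₂, f₂, he₂, hf₂, hef₂⟩ := exists_hyp_pair h2 Q₂ hs₂ (by omega)
    obtain ⟨V₁', π₁, hV₁', hdec₁, hfin₁, hsep₁'⟩ := hyp_compl Q₁ hs₁ e₁ f₁ he₁ hf₁ hef₁
    obtain ⟨V₂', π₂, hV₂', hdec₂, hfin₂, hsep₂'⟩ := hyp_compl Q₂ hs₂ e₂ f₂ he₂ hf₂ hef₂
    obtain ⟨g', c, hc, hg'⟩ := ih ↥V₁' ↥V₂' (Q₁.comp V₁'.subtype) (Q₂.comp V₂'.subtype)
      (by omega) (by omega) (fun x hx => hsep₁' x hx) (fun x hx => hsep₂' x hx)
    obtain ⟨g₀, hg₀⟩ : ∃ g₀ : V₁ →ₗ[F] V₂, ∀ v, g₀ v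
        = QuadraticMap.polar (⇑Q₁) f₁ v • e₂ + (c * QuadraticMap.polar (⇑Q₁) e₁ v) • f₂
          + ((g' (π₁ v) : ↥V₂') : V₂) :=
      ⟨(QuadraticMap.polarBilin Q₁ f₁).smulRight e₂
        + (c • QuadraticMap.polarBilin Q₁ e₁).smulRight f₂
        + V₂'.subtype ∘ₗ g'.toLinearMap ∘ₗ π₁, fun v => rfl⟩
    obtain ⟨g, hg⟩ := sim_equiv Q₁ Q₂ g₀ c hc (fun v => by
      rw [hg₀, Q_hyp Q₂ e₂ f₂ _ he₂ hf₂ hef₂ (hV₂' _ (g' (π₁ v)).2).1 (hV₂' _ (g' (π₁ v)).2).2]
      have h1 : Q₂ ((g' (π₁ v) : ↥V₂') : V₂) = c * Q₁ (π₁ v : V₁) := hg' (π₁ v)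
      have h3 : Q₁ v = QuadraticMap.polar (⇑Q₁) f₁ v * QuadraticMap.polar (⇑Q₁) e₁ v
          + Q₁ (π₁ v : V₁) := by
        conv_lhs => rw [hdec₁ v]
        exact Q_hyp Q₁ e₁ f₁ _ he₁ hf₁ hef₁ (hV₁' _ (π₁ v).2).1 (hV₁' _ (π₁ v).2).2 _ _
      rw [h1, h3]
      ring) hs₁ (by omega)
    exact ⟨g, c, hc, hg⟩

end QSim

end Cfsg.Agent.Lib.helper4
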