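import Mathlib

set_option autoImplicit false

/-!
# Witt's extension theorem for quadratic forms with non-degenerate polar form

`witt_ext`: over any field and in any characteristic, an injective linear map from a subspace
into the space which preserves the quadratic form extends to an isometry of the space.
The extension is built one dimension at a time from reflections, Siegel transformations and
hyperbolic rescalings.
-/

namespace Cfsg.Agent.Lib.helper4

section WittExt

variable {F V : Type*} [Field F] [AddCommGroup V] [Module F V]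

lemma wQ_add (Q : QuadraticForm F V) (x y : V) :
    Q (x + y) = Q x + Q y + QuadraticMap.polar (⇑Q) x y := by
  unfold QuadraticMap.polar; ring

lemma wQ_sub (Q : QuadraticForm F V) (x y : V) :
    Q (x - y) = Q x + Q y - QuadraticMap.polar (⇑Q) x y := by
  have h1 : Q (x - y) = Q x + Q (-y) + QuadraticMap.polar (⇑Q) x (-y) := by
    unfold QuadraticMap.polar
    rw [sub_eq_add_neg]
    ring
  rw [h1, QuadraticMap.map_neg, QuadraticMap.polar_neg_right]
  ring

lemma w_polar_self (Q : QuadraticForm F V) (v : V) :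
    QuadraticMap.polar (⇑Q) v v = 2 * Q v := by
  rw [QuadraticMap.polar_self]; simp [two_smul, two_mul]

lemma w_polar_pres (Q : QuadraticForm F V) (X : Submodule F V) (f : ↥X →ₗ[F] V)
    (hf : ∀ x : X, Q (f x) = Q (x : V)) (x y : X) :
    QuadraticMap.polar (⇑Q) (f x) (f y) = QuadraticMap.polar (⇑Q) (x : V) (y : V) := by
  unfold QuadraticMap.polar
  rw [← map_add, hf, hf, hf, Submodule.coe_add]

lemma w_polar_pres' (Q : QuadraticForm F V) (g : V →ₗ[F] V) (hg : ∀ v, Q (g v) = Q v)
    (x y : V) : QuadraticMap.polar (⇑Q) (g x) (g y) = QuadraticMap.polar (⇑Q) x y := by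
  unfold QuadraticMap.polar
  rw [← map_add, hg, hg, hg]

/-- a linear map preserving a quadratic form with non-degenerate polar form is injective -/
lemma witt_inj (Q : QuadraticForm F V) (hQ : (QuadraticMap.polarBilin Q).Nondegenerate)
    (g : V →ₗ[F] V) (hg : ∀ v, Q (g v) = Q v) : Function.Injective g := by
  rw [injective_iff_map_eq_zero]
  intro x hx
  apply hQ.1 x
  intro y
  show QuadraticMap.polar (⇑Q) x y = 0
  rw [← w_polar_pres' Q g hg x y, hx, QuadraticMap.polar_zero_left]

lemma w_exists_pairing [FiniteDimensional F V] (Q : QuadraticForm F V)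
    (hQ : (QuadraticMap.polarBilin Q).Nondegenerate) (K : Submodule F V) (w : V) (hw : w ∉ K) :
    ∃ a : V, (∀ k ∈ K, QuadraticMap.polar (⇑Q) k a = 0) ∧ QuadraticMap.polar (⇑Q) w a = 1 := by
  have hsymm : (QuadraticMap.polarBilin Q).IsRefl :=
    (show (QuadraticMap.polarBilin Q).IsSymm from
      ⟨fun a b => QuadraticMap.polar_comm (⇑Q) a b⟩).isRefl
  have key : ∃ a : V, (∀ k ∈ K, QuadraticMap.polar (⇑Q) k a = 0)
      ∧ QuadraticMap.polar (⇑Q) w a ≠ 0 := by
    by_contra hcon
    push Not at hcon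
    apply hw
    rw [← LinearMap.BilinForm.orthogonal_orthogonal hQ hsymm K,
      LinearMap.BilinForm.mem_orthogonal_iff]
    intro a ha
    rw [LinearMap.BilinForm.mem_orthogonal_iff] at ha
    show QuadraticMap.polar (⇑Q) a w = 0
    rw [QuadraticMap.polar_comm]
    exact hcon a (fun k hk => ha k hk)
  obtain ⟨a, ha, hwa⟩ := key
  refine ⟨(QuadraticMap.polar (⇑Q) w a)⁻¹ • a, fun k hk => ?_, ?_⟩
  · rw [QuadraticMap.polar_smul_right, ha k hk, smul_zero]
  · rw [QuadraticMap.polar_smul_right, smul_eq_mul, inv_mul_cancel₀ hwa]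

/-- the map `v ↦ v + ℓ₁(v) a + ℓ₂(v) b` -/
noncomputable def wMap (l₁ l₂ : V →ₗ[F] F) (a b : V) : V →ₗ[F] V :=
  LinearMap.id + l₁.smulRight a + l₂.smulRight b

lemma wMap_apply (l₁ l₂ : V →ₗ[F] F) (a b v : V) :
    wMap l₁ l₂ a b v = v + l₁ v • a + l₂ v • b := by
  simp [wMap]

/-- the one-dimensional step of Witt's theorem -/
lemma witt_step [FiniteDimensional F V] (Q : QuadraticForm F V)
    (hQ : (QuadraticMap.polarBilin Q).Nondegenerate)
    (H : Submodule F V) (x₀ y₀ : V) (hQy : Q y₀ = Q x₀)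
    (hH : ∀ h ∈ H, QuadraticMap.polar (⇑Q) h y₀ = QuadraticMap.polar (⇑Q) h x₀)
    (hx : x₀ ∉ H) (hy : y₀ ∉ H) :
    ∃ g : V →ₗ[F] V, (∀ v, Q (g v) = Q v) ∧ (∀ h ∈ H, g h = h) ∧ g x₀ = y₀ := by
  obtain ⟨p, hp⟩ : ∃ p, p = x₀ - y₀ := ⟨_, rfl⟩
  have hy₀ : y₀ = x₀ - p := by rw [hp]; abel
  have hpH : ∀ h ∈ H, QuadraticMap.polar (⇑Q) h p = 0 := by
    intro h hh
    rw [hp, QuadraticMap.polar_sub_right, hH h hh, sub_self]
  have hQp : Q p = QuadraticMap.polar (⇑Q) x₀ p := by
    rw [hp, wQ_sub, QuadraticMap.polar_sub_right, w_polar_self, hQy]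
    ring
  by_cases hp0 : p = 0
  · refine ⟨LinearMap.id, fun v => rfl, fun h _ => rfl, ?_⟩
    rw [hy₀, hp0, sub_zero]
    rfl
  by_cases hQp0 : Q p = 0
  swap
  · -- a reflection
    refine ⟨wMap (-(Q p)⁻¹ • QuadraticMap.polarBilin Q p) 0 p 0, fun v => ?_, fun h hh => ?_, ?_⟩
    · rw [wMap_apply]
      simp only [LinearMap.zero_apply, zero_smul, add_zero, LinearMap.smul_apply,
        QuadraticMap.polarBilin_apply_apply, smul_eq_mul]
      rw [wQ_add, QuadraticMap.map_smul, QuadraticMap.polar_smul_right,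
        QuadraticMap.polar_comm (⇑Q) v p]
      simp only [smul_eq_mul]
      field_simp
      ring
    · rw [wMap_apply]
      simp only [LinearMap.zero_apply, zero_smul, add_zero, LinearMap.smul_apply,
        QuadraticMap.polarBilin_apply_apply, smul_eq_mul]
      rw [QuadraticMap.polar_comm (⇑Q) p h, hpH h hh, mul_zero, zero_smul, add_zero]
    · rw [wMap_apply]
      simp only [LinearMap.zero_apply, zero_smul, add_zero, LinearMap.smul_apply,
        QuadraticMap.polarBilin_apply_apply, smul_eq_mul]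
      rw [QuadraticMap.polar_comm (⇑Q) p x₀, ← hQp, neg_mul, inv_mul_cancel₀ hQp0, neg_one_smul,
        hy₀]
      abel
  · have hx₀p : QuadraticMap.polar (⇑Q) x₀ p = 0 := by rw [← hQp, hQp0]
    have hpp : QuadraticMap.polar (⇑Q) p p = 0 := by rw [w_polar_self, hQp0, mul_zero]
    by_cases hmem : x₀ ∈ H ⊔ Submodule.span F {p}
    swap
    · -- a Siegel transformation
      obtain ⟨u, huK, hx₀u⟩ := w_exists_pairing Q hQ (H ⊔ Submodule.span F {p}) x₀ hmem
      have huH : ∀ h ∈ H, QuadraticMap.polar (⇑Q) h u = 0 :=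
        fun h hh => huK h (Submodule.mem_sup_left hh)
      have hpu : QuadraticMap.polar (⇑Q) p u = 0 :=
        huK p (Submodule.mem_sup_right (Submodule.mem_span_singleton_self p))
      refine ⟨wMap (QuadraticMap.polarBilin Q p)
        (-(QuadraticMap.polarBilin Q u + Q u • QuadraticMap.polarBilin Q p)) u p,
        fun v => ?_, fun h hh => ?_, ?_⟩
      · rw [wMap_apply]
        simp only [LinearMap.neg_apply, LinearMap.add_apply, LinearMap.smul_apply,
          QuadraticMap.polarBilin_apply_apply, smul_eq_mul]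
        rw [wQ_add, wQ_add, QuadraticMap.map_smul, QuadraticMap.map_smul, hQp0]
        simp only [QuadraticMap.polar_add_left, QuadraticMap.polar_smul_left,
          QuadraticMap.polar_smul_right, smul_eq_mul, QuadraticMap.polar_comm (⇑Q) v p,
          QuadraticMap.polar_comm (⇑Q) v u, QuadraticMap.polar_comm (⇑Q) u p, hpu]
        ring
      · rw [wMap_apply]
        simp only [LinearMap.neg_apply, LinearMap.add_apply, LinearMap.smul_apply,
          QuadraticMap.polarBilin_apply_apply, smul_eq_mul]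
        rw [QuadraticMap.polar_comm (⇑Q) p h, hpH h hh, QuadraticMap.polar_comm (⇑Q) u h,
          huH h hh]
        simp
      · rw [wMap_apply]
        simp only [LinearMap.neg_apply, LinearMap.add_apply, LinearMap.smul_apply,
          QuadraticMap.polarBilin_apply_apply, smul_eq_mul]
        rw [QuadraticMap.polar_comm (⇑Q) p x₀, hx₀p, QuadraticMap.polar_comm (⇑Q) u x₀, hx₀u, hy₀]
        simp only [mul_zero, zero_smul, add_zero, neg_smul, one_smul]
        abel
    · -- a hyperbolic rescaling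
      obtain ⟨h₀, hh₀, z, hz, hsum⟩ := Submodule.mem_sup.mp hmem
      obtain ⟨c, rfl⟩ := Submodule.mem_span_singleton.mp hz
      have hc0 : c ≠ 0 := by
        rintro rfl
        rw [zero_smul, add_zero] at hsum
        apply hx
        rw [← hsum]
        exact hh₀
      have hc1 : c - 1 ≠ 0 := by
        intro hc
        apply hy
        have h1 : c = 1 := sub_eq_zero.mp hc
        have h2 : y₀ = h₀ := by
          rw [hy₀, ← hsum, h1, one_smul]
          abel
        rw [h2]
        exact hh₀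
      have hpnH : p ∉ H := by
        intro hpH'
        apply hx
        rw [← hsum]
        exact H.add_mem hh₀ (H.smul_mem c hpH')
      obtain ⟨s₀, hs₀H, hps₀⟩ := w_exists_pairing Q hQ H p hpnH
      obtain ⟨s, hs⟩ : ∃ s, s = s₀ - Q s₀ • p := ⟨_, rfl⟩
      have hQs : Q s = 0 := by
        rw [hs, wQ_sub, QuadraticMap.map_smul, hQp0, QuadraticMap.polar_smul_right,
          QuadraticMap.polar_comm (⇑Q) s₀ p, hps₀]
        simp only [smul_eq_mul]
        ring
      have hps : QuadraticMap.polar (⇑Q) p s = 1 := by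
        rw [hs, QuadraticMap.polar_sub_right, QuadraticMap.polar_smul_right, hpp, hps₀]
        simp
      have hsH : ∀ h ∈ H, QuadraticMap.polar (⇑Q) h s = 0 := by
        intro h hh
        rw [hs, QuadraticMap.polar_sub_right, QuadraticMap.polar_smul_right, hs₀H h hh,
          hpH h hh]
        simp
      obtain ⟨l, hl⟩ : ∃ l, l = (c - 1) / c := ⟨_, rfl⟩
      have hl0 : l ≠ 0 := by
        rw [hl]
        exact div_ne_zero hc1 hc0
      refine ⟨wMap ((l - 1) • QuadraticMap.polarBilin Q s)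
        ((l⁻¹ - 1) • QuadraticMap.polarBilin Q p) p s, fun v => ?_, fun h hh => ?_, ?_⟩
      · rw [wMap_apply]
        simp only [LinearMap.smul_apply, QuadraticMap.polarBilin_apply_apply, smul_eq_mul]
        rw [wQ_add, wQ_add, QuadraticMap.map_smul, QuadraticMap.map_smul, hQp0, hQs]
        simp only [QuadraticMap.polar_add_left, QuadraticMap.polar_smul_left,
          QuadraticMap.polar_smul_right, smul_eq_mul, QuadraticMap.polar_comm (⇑Q) v p,
          QuadraticMap.polar_comm (⇑Q) v s, hps]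
        field_simp
        ring
      · rw [wMap_apply]
        simp only [LinearMap.smul_apply, QuadraticMap.polarBilin_apply_apply, smul_eq_mul]
        rw [QuadraticMap.polar_comm (⇑Q) s h, hsH h hh, QuadraticMap.polar_comm (⇑Q) p h,
          hpH h hh]
        simp
      · rw [wMap_apply]
        simp only [LinearMap.smul_apply, QuadraticMap.polarBilin_apply_apply, smul_eq_mul]
        have h1 : QuadraticMap.polar (⇑Q) s x₀ = c := by
          rw [← hsum, QuadraticMap.polar_add_right, QuadraticMap.polar_smul_right,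
            QuadraticMap.polar_comm (⇑Q) s h₀, hsH h₀ hh₀, QuadraticMap.polar_comm (⇑Q) s p, hps]
          simp
        have h2 : ((c - 1) / c - 1) * c = -1 := by
          field_simp
          ring
        rw [h1, QuadraticMap.polar_comm (⇑Q) p x₀, hx₀p, mul_zero, zero_smul, add_zero, hy₀, hl,
          h2, neg_one_smul]
        abel

theorem witt_ext_aux [FiniteDimensional F V] (Q : QuadraticForm F V)
    (hQ : (QuadraticMap.polarBilin Q).Nondegenerate) :
    ∀ (d : ℕ) (X : Submodule F V) (f : ↥X →ₗ[F] V), Module.finrank F ↥X = d →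
      Function.Injective f → (∀ x : X, Q (f x) = Q (x : V)) →
      ∃ g : V →ₗ[F] V, (∀ v, Q (g v) = Q v) ∧ ∀ x : X, g (x : V) = f x := by
  intro d
  induction d with
  | zero =>
    intro X f hd hinj hf
    have hX : X = ⊥ := Submodule.finrank_eq_zero.mp hd
    refine ⟨LinearMap.id, fun v => rfl, fun x => ?_⟩
    have hx0 : x = 0 := Subtype.ext ((Submodule.eq_bot_iff X).mp hX (x : V) x.2)
    rw [hx0, map_zero]
    rfl
  | succ d ih =>
    intro X f hd hinj hf
    have hXne : X ≠ ⊥ := by
      intro h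
      rw [h, finrank_bot] at hd
      omega
    obtain ⟨x₀, hx₀X, hx₀0⟩ := Submodule.exists_mem_ne_zero_of_ne_bot hXne
    obtain ⟨x₀', hx₀'⟩ : ∃ x₀' : X, (x₀' : V) = x₀ := ⟨⟨x₀, hx₀X⟩, rfl⟩
    have hx₀'0 : x₀' ≠ 0 := by
      intro h
      apply hx₀0
      rw [← hx₀', h]
      rfl
    obtain ⟨H', hH'⟩ := Submodule.exists_isCompl (Submodule.span F {x₀'})
    have hdim : Module.finrank F ↥H' = d := by
      have h1 := Submodule.finrank_add_eq_of_isCompl hH'
      rw [finrank_span_singleton hx₀'0, hd] at h1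
      omega
    obtain ⟨H, hHdef⟩ : ∃ H : Submodule F V, H = H'.map X.subtype := ⟨_, rfl⟩
    have hHle : H ≤ X := by
      rw [hHdef]
      exact Submodule.map_subtype_le X H'
    have hHdim : Module.finrank F ↥H = d := by
      rw [hHdef, Submodule.finrank_map_subtype_eq, hdim]
    have hmemH : ∀ x : X, (x : V) ∈ H ↔ x ∈ H' := by
      intro x
      rw [hHdef, Submodule.mem_map]
      constructor
      · rintro ⟨y, hy, hyx⟩
        have h1 : y = x := Subtype.ext hyx
        rw [← h1]
        exact hy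
      · intro hx
        exact ⟨x, hx, rfl⟩
    obtain ⟨g₁, hg₁Q, hg₁⟩ := ih H (f.comp (Submodule.inclusion hHle)) hHdim
      (hinj.comp (Submodule.inclusion_injective hHle)) (fun h => by
        rw [LinearMap.comp_apply, hf]
        rfl)
    have hg₁inj := witt_inj Q hQ g₁ hg₁Q
    obtain ⟨e₁, he₁⟩ : ∃ e₁ : V ≃ₗ[F] V, ∀ v, e₁ v = g₁ v :=
      ⟨LinearEquiv.ofInjectiveEndo g₁ hg₁inj, fun v => by rw [LinearEquiv.coe_ofInjectiveEndo]⟩
    obtain ⟨y₀, hy₀⟩ : ∃ y₀, y₀ = e₁.symm (f x₀') := ⟨_, rfl⟩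
    have hgy₀ : g₁ y₀ = f x₀' := by rw [← he₁, hy₀, LinearEquiv.apply_symm_apply]
    have hg₁H : ∀ h : X, h ∈ H' → g₁ (h : V) = f h := by
      intro h hh
      have h1 := hg₁ ⟨(h : V), (hmemH h).mpr hh⟩
      rw [LinearMap.comp_apply] at h1
      have h2 : Submodule.inclusion hHle ⟨(h : V), (hmemH h).mpr hh⟩ = h := Subtype.ext rfl
      rw [h2] at h1
      exact h1
    have hQy₀ : Q y₀ = Q x₀ := by
      rw [← hg₁Q y₀, hgy₀, hf, hx₀']
    have hHy₀ : ∀ h ∈ H, QuadraticMap.polar (⇑Q) h y₀ = QuadraticMap.polar (⇑Q) h x₀ := by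
      intro h hh
      rw [hHdef, Submodule.mem_map] at hh
      obtain ⟨h', hh', rfl⟩ := hh
      rw [← w_polar_pres' Q g₁ hg₁Q, hgy₀]
      show QuadraticMap.polar (⇑Q) (g₁ (h' : V)) (f x₀') = QuadraticMap.polar (⇑Q) (h' : V) x₀
      rw [hg₁H h' hh', w_polar_pres Q X f hf, hx₀']
    have hx₀H : x₀ ∉ H := by
      rw [← hx₀', hmemH]
      intro hmem
      have h1 : x₀' ∈ Submodule.span F {x₀'} ⊓ H' :=
        ⟨Submodule.mem_span_singleton_self x₀', hmem⟩
      rw [hH'.inf_eq_bot, Submodule.mem_bot] at h1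
      exact hx₀'0 h1
    have hy₀H : y₀ ∉ H := by
      intro hmem
      rw [hHdef, Submodule.mem_map] at hmem
      obtain ⟨h', hh', hh'y⟩ := hmem
      have h1 : f h' = f x₀' := by
        rw [← hg₁H h' hh', ← hgy₀, ← hh'y]
        rfl
      have h2 : h' = x₀' := hinj h1
      rw [h2] at hh'
      have h3 : x₀' ∈ Submodule.span F {x₀'} ⊓ H' :=
        ⟨Submodule.mem_span_singleton_self x₀', hh'⟩
      rw [hH'.inf_eq_bot, Submodule.mem_bot] at h3
      exact hx₀'0 h3
    obtain ⟨g₂, hg₂Q, hg₂H, hg₂x⟩ := witt_step Q hQ H x₀ y₀ hQy₀ hHy₀ hx₀H hy₀H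
    refine ⟨g₁.comp g₂, fun v => by rw [LinearMap.comp_apply, hg₁Q, hg₂Q], fun x => ?_⟩
    have hx : x ∈ Submodule.span F {x₀'} ⊔ H' := by
      rw [hH'.sup_eq_top]
      trivial
    obtain ⟨y, hy, z, hz, rfl⟩ := Submodule.mem_sup.mp hx
    obtain ⟨a, rfl⟩ := Submodule.mem_span_singleton.mp hy
    rw [LinearMap.comp_apply, Submodule.coe_add, Submodule.coe_smul, hx₀', map_add, map_smul,
      hg₂x, hg₂H (z : V) ((hmemH z).mpr hz), map_add, map_smul, hgy₀, hg₁H z hz, map_add,
      map_smul]

/-- **Witt's extension theorem** for a quadratic form with non-degenerate polar form -/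
theorem witt_ext [FiniteDimensional F V] (Q : QuadraticForm F V)
    (hQ : (QuadraticMap.polarBilin Q).Nondegenerate) (X Y : Submodule F V) (φ : ↥X ≃ₗ[F] ↥Y)
    (hφ : ∀ x : X, Q (φ x : V) = Q (x : V)) :
    ∃ g : V ≃ₗ[F] V, (∀ v : V, Q (g v) = Q v) ∧ ∀ x : X, g (x : V) = (φ x : V) := by
  obtain ⟨g, hgQ, hg⟩ := witt_ext_aux Q hQ _ X (Y.subtype.comp φ.toLinearMap) rfl
    (Y.injective_subtype.comp φ.injective) (fun x => hφ x)
  refine ⟨LinearEquiv.ofInjectiveEndo g (witt_inj Q hQ g hgQ), fun v => ?_, fun x => ?_⟩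
  · rw [LinearEquiv.coe_ofInjectiveEndo]
    exact hgQ v
  · rw [LinearEquiv.coe_ofInjectiveEndo]
    exact hg x

end WittExt

end Cfsg.Agent.Lib.helper4
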