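import Mathlib
import Cfsg.Agent.S0749
import Cfsg.Agent.Lib.helper4.SpCard

set_option autoImplicit false

/-!
# Witt transitivity of `Sp_2m` on frames, and counting totally isotropic frames

* `witt_frames`: two linearly independent families with the same Gram matrix are conjugate under `Sp`.
* `card_ti`: the number of linearly independent totally isotropic `k`-tuples.
* `card_sp_eq_frames_mul`, `card_stab_eq`, `card_stab_ti` (the order of a maximal parabolic).
-/

namespace Cfsg.Agent.Lib.helper4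

open Matrix
open Cfsg.Agent.S0776 Cfsg.Agent.S0766 Cfsg.Agent.S0765

section Witt

variable {F : Type*} [Field F] {m : ℕ}

theorem inv_mulVec_mulVec (A : Matrix.symplecticGroup (Fin m) F) (x : Fin m ⊕ Fin m → F) :
    ((A⁻¹ : Matrix.symplecticGroup (Fin m) F) : Matrix (Fin m ⊕ Fin m) (Fin m ⊕ Fin m) F) *ᵥ
      ((A : Matrix (Fin m ⊕ Fin m) (Fin m ⊕ Fin m) F) *ᵥ x) = x := by
  rw [Matrix.mulVec_mulVec, ← val_mul, inv_mul_cancel]
  exact Matrix.one_mulVec x

theorem mulVec_injective (A : Matrix.symplecticGroup (Fin m) F) (x y : Fin m ⊕ Fin m → F)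
    (h : (A : Matrix (Fin m ⊕ Fin m) (Fin m ⊕ Fin m) F) *ᵥ x
      = (A : Matrix (Fin m ⊕ Fin m) (Fin m ⊕ Fin m) F) *ᵥ y) : x = y := by
  have h1 := congrArg (fun z => ((A⁻¹ : Matrix.symplecticGroup (Fin m) F) :
    Matrix (Fin m ⊕ Fin m) (Fin m ⊕ Fin m) F) *ᵥ z) h
  simp only [inv_mulVec_mulVec] at h1
  exact h1

theorem li_mulVec {ι : Type*} (A : Matrix.symplecticGroup (Fin m) F) (w : ι → (Fin m ⊕ Fin m → F))
    (hw : LinearIndependent F w) :
    LinearIndependent F (fun i => (A : Matrix (Fin m ⊕ Fin m) (Fin m ⊕ Fin m) F) *ᵥ w i) := by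
  have hinj : LinearMap.ker (Matrix.mulVecLin (A : Matrix (Fin m ⊕ Fin m) (Fin m ⊕ Fin m) F)) = ⊥ := by
    rw [LinearMap.ker_eq_bot]
    intro x y hxy
    exact mulVec_injective A x y hxy
  have h := hw.map' (Matrix.mulVecLin (A : Matrix (Fin m ⊕ Fin m) (Fin m ⊕ Fin m) F)) hinj
  have e : (⇑(Matrix.mulVecLin (A : Matrix (Fin m ⊕ Fin m) (Fin m ⊕ Fin m) F)) ∘ w)
      = fun i => (A : Matrix (Fin m ⊕ Fin m) (Fin m ⊕ Fin m) F) *ᵥ w i := by
    funext i
    rfl
  rw [e] at h
  exact h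

/-- a form-preserving linear automorphism is a symplectic matrix. -/
theorem sp_of_linearEquiv (g : (Fin m ⊕ Fin m → F) ≃ₗ[F] (Fin m ⊕ Fin m → F))
    (hg : ∀ u v, Cfsg.sympForm m F (g u) (g v) = Cfsg.sympForm m F u v) :
    ∃ A : Matrix.symplecticGroup (Fin m) F, ∀ v,
      (A : Matrix (Fin m ⊕ Fin m) (Fin m ⊕ Fin m) F) *ᵥ v = g v := by
  classical
  have hcol : ∀ c, (fun i => LinearMap.toMatrix' g.toLinearMap i c) = g (Pi.single c 1) := by
    intro c
    funext i
    rw [LinearMap.toMatrix'_apply]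
    rfl
  refine ⟨⟨LinearMap.toMatrix' g.toLinearMap, ?_⟩, ?_⟩
  · rw [SymplecticGroup.mem_iff']
    ext a b
    rw [Cfsg.Agent.S0776.gram_apply, hcol, hcol, hg, sf_single]
  · intro v
    show (LinearMap.toMatrix' g.toLinearMap) *ᵥ v = g v
    rw [LinearMap.toMatrix'_mulVec]
    rfl

/-- Witt: linearly independent families with equal Gram matrices are `Sp`-conjugate. -/
theorem witt_frames {k : ℕ} (w w' : Fin k → (Fin m ⊕ Fin m → F))
    (hw : LinearIndependent F w) (hw' : LinearIndependent F w')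
    (hiso : ∀ i j, Cfsg.sympForm m F (w' i) (w' j) = Cfsg.sympForm m F (w i) (w j)) :
    ∃ A : Matrix.symplecticGroup (Fin m) F, ∀ i,
      (A : Matrix (Fin m ⊕ Fin m) (Fin m ⊕ Fin m) F) *ᵥ w i = w' i := by
  classical
  obtain ⟨b, hb⟩ : ∃ b : Module.Basis (Fin k) F (Submodule.span F (Set.range w)),
      ∀ i, (b i : Fin m ⊕ Fin m → F) = w i :=
    ⟨Module.Basis.span hw, fun i => congrArg Subtype.val (Module.Basis.span_apply hw i)⟩
  obtain ⟨b', hb'⟩ : ∃ b' : Module.Basis (Fin k) F (Submodule.span F (Set.range w')),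
      ∀ i, (b' i : Fin m ⊕ Fin m → F) = w' i :=
    ⟨Module.Basis.span hw', fun i => congrArg Subtype.val (Module.Basis.span_apply hw' i)⟩
  obtain ⟨φ, hφ⟩ : ∃ φ : Submodule.span F (Set.range w) ≃ₗ[F] Submodule.span F (Set.range w'),
      ∀ i, φ (b i) = b' i :=
    ⟨b.equiv b' (Equiv.refl _), fun i => by rw [Module.Basis.equiv_apply]; rfl⟩
  have hφB : ∀ x x' : Submodule.span F (Set.range w),
      sB m F (φ x : Fin m ⊕ Fin m → F) (φ x' : Fin m ⊕ Fin m → F)
        = sB m F (x : Fin m ⊕ Fin m → F) (x' : Fin m ⊕ Fin m → F) := by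
    have h1 : (sB m F).compl₁₂ ((Submodule.subtype _).comp φ.toLinearMap)
          ((Submodule.subtype _).comp φ.toLinearMap)
        = (sB m F).compl₁₂ (Submodule.subtype _) (Submodule.subtype _) := by
      apply LinearMap.ext_basis b b
      intro i j
      simp only [LinearMap.compl₁₂_apply, LinearMap.coe_comp, Function.comp_apply,
        Submodule.coe_subtype, LinearEquiv.coe_coe]
      rw [hφ, hφ, hb, hb, hb', hb', sB_apply, sB_apply, hiso]
    intro x x'
    have h2 := LinearMap.congr_fun (LinearMap.congr_fun h1 x) x'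
    simpa using h2
  obtain ⟨g, hg1, hg2⟩ := Cfsg.Agent.S0749.result (sB m F) sB_nondeg sB_alt _ _ φ hφB
  obtain ⟨A, hA⟩ := sp_of_linearEquiv g (fun u v => by rw [← sB_apply, ← sB_apply]; exact hg1 u v)
  refine ⟨A, fun i => ?_⟩
  rw [hA, ← hb i, hg2, hφ, hb']

end Witt

section Span

variable {F : Type*} [Field F] {m : ℕ}

theorem orth_span {ι : Type*} (u : ι → (Fin m ⊕ Fin m → F)) (v : Fin m ⊕ Fin m → F) :
    (∀ n ∈ Submodule.span F (Set.range u), sB m F n v = 0) ↔ ∀ i, Cfsg.sympForm m F (u i) v = 0 := by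
  constructor
  · intro h i
    rw [← sB_apply]
    exact h _ (Submodule.subset_span ⟨i, rfl⟩)
  · intro h
    have hle : Submodule.span F (Set.range u) ≤ LinearMap.ker (LinearMap.flip (sB m F) v) := by
      rw [Submodule.span_le]
      rintro _ ⟨i, rfl⟩
      show LinearMap.flip (sB m F) v (u i) = 0
      rw [LinearMap.flip_apply, sB_apply]
      exact h i
    intro n hn
    have h1 := hle hn
    rw [LinearMap.mem_ker, LinearMap.flip_apply] at h1
    exact h1

theorem ti_span_range {ι : Type*} (u : ι → (Fin m ⊕ Fin m → F))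
    (h : ∀ i j, Cfsg.sympForm m F (u i) (u j) = 0) :
    ∀ x ∈ Submodule.span F (Set.range u), ∀ y ∈ Submodule.span F (Set.range u),
      Cfsg.sympForm m F x y = 0 := by
  have h1 : ∀ i, ∀ y ∈ Submodule.span F (Set.range u), Cfsg.sympForm m F (u i) y = 0 := by
    intro i
    have hle : Submodule.span F (Set.range u) ≤ LinearMap.ker (sB m F (u i)) := by
      rw [Submodule.span_le]
      rintro _ ⟨j, rfl⟩
      show sB m F (u i) (u j) = 0
      rw [sB_apply]
      exact h i j
    intro y hy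
    have h2 := hle hy
    rw [LinearMap.mem_ker, sB_apply] at h2
    exact h2
  intro x hx y hy
  rw [← sB_apply]
  exact (orth_span u y).mpr (fun i => h1 i y hy) x hx

end Span

section Count

variable {F : Type*} [Field F] [Fintype F] {m : ℕ}

theorem card_mem_not_mem (W L : Submodule F (Fin m ⊕ Fin m → F)) (hLW : L ≤ W) :
    Nat.card {w : Fin m ⊕ Fin m → F // w ∈ W ∧ w ∉ L}
      = Fintype.card F ^ Module.finrank F W - Fintype.card F ^ Module.finrank F L := by
  classical
  have h1 : Nat.card {w : Fin m ⊕ Fin m → F // w ∈ W ∧ w ∉ L}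
      = Nat.card {x : W // ¬ ((x : Fin m ⊕ Fin m → F) ∈ L)} :=
    Nat.card_congr
      { toFun := fun w => ⟨⟨w.1, w.2.1⟩, w.2.2⟩
        invFun := fun x => ⟨x.1.1, x.1.2, x.2⟩
        left_inv := fun w => rfl
        right_inv := fun x => rfl }
  have h2 : Nat.card {x : W // (x : Fin m ⊕ Fin m → F) ∈ L} = Nat.card L :=
    Nat.card_congr
      { toFun := fun x => ⟨x.1.1, x.2⟩
        invFun := fun y => ⟨⟨y.1, hLW y.2⟩, y.2⟩
        left_inv := fun w => rfl
        right_inv := fun x => rfl }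
  have h3 : Nat.card ({x : W // (x : Fin m ⊕ Fin m → F) ∈ L} ⊕ {x : W // ¬ ((x : Fin m ⊕ Fin m → F) ∈ L)})
      = Nat.card W := Nat.card_congr (Equiv.sumCompl _)
  rw [Nat.card_sum, h2, natcard_submodule, natcard_submodule] at h3
  rw [h1]
  omega

theorem card_ti_succ {q : ℕ} (hF : Fintype.card F = q) (k : ℕ) :
    Nat.card {w : Fin (k + 1) → (Fin m ⊕ Fin m → F) //
        LinearIndependent F w ∧ ∀ i j, Cfsg.sympForm m F (w i) (w j) = 0}
      = Nat.card {w : Fin k → (Fin m ⊕ Fin m → F) //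
          LinearIndependent F w ∧ ∀ i j, Cfsg.sympForm m F (w i) (w j) = 0}
        * (q ^ (2 * m - k) - q ^ k) := by
  classical
  have e : {w : Fin (k + 1) → (Fin m ⊕ Fin m → F) //
        LinearIndependent F w ∧ ∀ i j, Cfsg.sympForm m F (w i) (w j) = 0}
      ≃ Σ u : {w : Fin k → (Fin m ⊕ Fin m → F) //
          LinearIndependent F w ∧ ∀ i j, Cfsg.sympForm m F (w i) (w j) = 0},
        {v : Fin m ⊕ Fin m → F // v ∈ (sB m F).orthogonal (Submodule.span F (Set.range u.1)) ∧
          v ∉ Submodule.span F (Set.range u.1)} :=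
    { toFun := fun w => ⟨⟨Fin.init w.1, by
          have h1 := w.2.1
          rw [← Fin.snoc_init_self w.1, linearIndependent_finSnoc] at h1
          exact h1.1, fun i j => w.2.2 _ _⟩,
        ⟨w.1 (Fin.last k), by
          rw [LinearMap.BilinForm.mem_orthogonal_iff]
          intro n hn
          exact (orth_span (Fin.init w.1) (w.1 (Fin.last k))).mpr (fun i => w.2.2 _ _) n hn, by
          have h1 := w.2.1
          rw [← Fin.snoc_init_self w.1, linearIndependent_finSnoc] at h1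
          exact h1.2⟩⟩
      invFun := fun p => ⟨Fin.snoc p.1.1 p.2.1, by
          rw [linearIndependent_finSnoc]
          exact ⟨p.1.2.1, p.2.2.2⟩, by
          have h1 : ∀ i, Cfsg.sympForm m F (p.1.1 i) p.2.1 = 0 := by
            have h2 := p.2.2.1
            rw [LinearMap.BilinForm.mem_orthogonal_iff] at h2
            exact (orth_span p.1.1 p.2.1).mp (fun n hn => h2 n hn)
          intro i j
          induction i using Fin.lastCases with
          | last =>
            induction j using Fin.lastCases with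
            | last =>
              rw [Fin.snoc_last, ← sB_apply]
              exact sB_alt _
            | cast j =>
              rw [Fin.snoc_last, Fin.snoc_castSucc]
              have h2 := sB_alt.neg_eq p.2.1 (p.1.1 j)
              rw [sB_apply, sB_apply, h1 j] at h2
              exact neg_eq_zero.mp h2
          | cast i =>
            induction j using Fin.lastCases with
            | last =>
              rw [Fin.snoc_last, Fin.snoc_castSucc]
              exact h1 i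
            | cast j =>
              rw [Fin.snoc_castSucc, Fin.snoc_castSucc]
              exact p.1.2.2 i j⟩
      left_inv := fun w => Subtype.ext (Fin.snoc_init_self _)
      right_inv := fun p => by
        apply Sigma.subtype_ext
        · apply Subtype.ext
          show Fin.init (Fin.snoc p.1.1 p.2.1 : Fin (k + 1) → (Fin m ⊕ Fin m → F)) = p.1.1
          exact Fin.init_snoc _ _
        · show (Fin.snoc p.1.1 p.2.1 : Fin (k + 1) → (Fin m ⊕ Fin m → F)) (Fin.last k) = p.2.1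
          exact Fin.snoc_last _ _ }
  rw [Nat.card_congr e, Nat.card_sigma]
  have hfib : ∀ u : {w : Fin k → (Fin m ⊕ Fin m → F) //
      LinearIndependent F w ∧ ∀ i j, Cfsg.sympForm m F (w i) (w j) = 0},
      Nat.card {v : Fin m ⊕ Fin m → F // v ∈ (sB m F).orthogonal (Submodule.span F (Set.range u.1)) ∧
          v ∉ Submodule.span F (Set.range u.1)} = q ^ (2 * m - k) - q ^ k := by
    intro u
    have hle : Submodule.span F (Set.range u.1) ≤ (sB m F).orthogonal (Submodule.span F (Set.range u.1)) := by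
      intro x hx
      rw [LinearMap.BilinForm.mem_orthogonal_iff]
      intro n hn
      rw [sB_apply]
      exact ti_span_range u.1 u.2.2 n hn x hx
    rw [card_mem_not_mem _ _ hle, LinearMap.BilinForm.finrank_orthogonal sB_nondeg,
      finrank_span_eq_card u.2.1, Module.finrank_fintype_fun_eq_card, hF]
    simp only [Fintype.card_sum, Fintype.card_fin]
    rw [← two_mul]
  simp only [hfib, Finset.sum_const, Finset.card_univ, smul_eq_mul, Nat.card_eq_fintype_card]

theorem card_ti {q : ℕ} (hF : Fintype.card F = q) (m : ℕ) : ∀ k : ℕ,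
    Nat.card {w : Fin k → (Fin m ⊕ Fin m → F) //
        LinearIndependent F w ∧ ∀ i j, Cfsg.sympForm m F (w i) (w j) = 0}
      = ∏ i ∈ Finset.range k, (q ^ (2 * m - i) - q ^ i)
  | 0 => by
    have : Subsingleton {w : Fin 0 → (Fin m ⊕ Fin m → F) //
        LinearIndependent F w ∧ ∀ i j, Cfsg.sympForm m F (w i) (w j) = 0} :=
      ⟨fun a b => Subtype.ext (Subsingleton.elim _ _)⟩
    rw [Nat.card_of_subsingleton (⟨fun i => i.elim0, linearIndependent_empty_type,
      fun i => i.elim0⟩ : {w : Fin 0 → (Fin m ⊕ Fin m → F) //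
        LinearIndependent F w ∧ ∀ i j, Cfsg.sympForm m F (w i) (w j) = 0})]
    simp
  | k + 1 => by
    rw [card_ti_succ hF k, card_ti hF m k, Finset.prod_range_succ]

end Count

section Orbit

variable {F : Type*} [Field F] [Fintype F] {m : ℕ}

theorem card_sp_eq_frames_mul {k : ℕ} (w₀ : Fin k → (Fin m ⊕ Fin m → F))
    (hw₀ : LinearIndependent F w₀) (hti : ∀ i j, Cfsg.sympForm m F (w₀ i) (w₀ j) = 0) :
    Nat.card (Matrix.symplecticGroup (Fin m) F)
      = Nat.card {w : Fin k → (Fin m ⊕ Fin m → F) //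
          LinearIndependent F w ∧ ∀ i j, Cfsg.sympForm m F (w i) (w j) = 0}
        * Nat.card {g : Matrix.symplecticGroup (Fin m) F //
            ∀ i, (g : Matrix (Fin m ⊕ Fin m) (Fin m ⊕ Fin m) F) *ᵥ w₀ i = w₀ i} := by
  classical
  obtain ⟨φ, hφ⟩ : ∃ φ : Matrix.symplecticGroup (Fin m) F → {w : Fin k → (Fin m ⊕ Fin m → F) //
      LinearIndependent F w ∧ ∀ i j, Cfsg.sympForm m F (w i) (w j) = 0},
      ∀ g, (φ g).1 = fun i => (g : Matrix (Fin m ⊕ Fin m) (Fin m ⊕ Fin m) F) *ᵥ w₀ i :=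
    ⟨fun g => ⟨fun i => (g : Matrix (Fin m ⊕ Fin m) (Fin m ⊕ Fin m) F) *ᵥ w₀ i, li_mulVec g w₀ hw₀,
      fun i j => by rw [sp_pres]; exact hti i j⟩, fun g => rfl⟩
  have hfib : ∀ x, Nat.card {g // φ g = x}
      = Nat.card {g : Matrix.symplecticGroup (Fin m) F //
          ∀ i, (g : Matrix (Fin m ⊕ Fin m) (Fin m ⊕ Fin m) F) *ᵥ w₀ i = w₀ i} := by
    intro x
    obtain ⟨A, hA⟩ := witt_frames w₀ x.1 hw₀ x.2.1 (fun i j => by rw [x.2.2, hti])
    apply Nat.card_congr
    refine { toFun := fun g => ⟨A⁻¹ * g.1, ?_⟩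
             invFun := fun s => ⟨A * s.1, ?_⟩
             left_inv := ?_
             right_inv := ?_ }
    · intro i
      have h1 : (g.1 : Matrix (Fin m ⊕ Fin m) (Fin m ⊕ Fin m) F) *ᵥ w₀ i = x.1 i := by
        have h2 := congrFun (congrArg Subtype.val g.2) i
        rw [hφ] at h2
        exact h2
      rw [val_mul, ← Matrix.mulVec_mulVec, h1, ← hA, inv_mulVec_mulVec]
    · apply Subtype.ext
      rw [hφ]
      funext i
      rw [val_mul, ← Matrix.mulVec_mulVec, s.2 i, hA]
    · intro g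
      apply Subtype.ext
      show A * (A⁻¹ * g.1) = g.1
      rw [mul_inv_cancel_left]
    · intro s
      apply Subtype.ext
      show A⁻¹ * (A * s.1) = s.1
      rw [inv_mul_cancel_left]
  rw [card_fiber_count φ _ hfib]

omit [Fintype F] in
theorem mem_stab_of_frames {k : ℕ} (W : Submodule F (Fin m ⊕ Fin m → F))
    (w b : Fin k → (Fin m ⊕ Fin m → F))
    (hw : Submodule.span F (Set.range w) = W) (hb : Submodule.span F (Set.range b) = W)
    (g : Matrix.symplecticGroup (Fin m) F)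
    (hg : ∀ i, (g : Matrix (Fin m ⊕ Fin m) (Fin m ⊕ Fin m) F) *ᵥ w i = b i) :
    g ∈ Cfsg.stabilizing (Cfsg.spToMat m F) (W : Set (Fin m ⊕ Fin m → F)) := by
  have hmap : Submodule.map (Matrix.mulVecLin (g : Matrix (Fin m ⊕ Fin m) (Fin m ⊕ Fin m) F)) W = W := by
    conv_lhs => rw [← hw]
    rw [Submodule.map_span, ← hb]
    congr 1
    ext x
    constructor
    · rintro ⟨_, ⟨i, rfl⟩, rfl⟩
      exact ⟨i, (hg i).symm⟩
    · rintro ⟨i, rfl⟩
      exact ⟨w i, ⟨i, rfl⟩, hg i⟩
  intro v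
  show v ∈ W ↔ (g : Matrix (Fin m ⊕ Fin m) (Fin m ⊕ Fin m) F) *ᵥ v ∈ W
  constructor
  · intro hv
    rw [← hmap]
    exact ⟨v, hv, rfl⟩
  · intro hv
    rw [← hmap] at hv
    obtain ⟨v', hv', hv'v⟩ := hv
    have h1 : v' = v := mulVec_injective g v' v hv'v
    rw [← h1]
    exact hv'

theorem card_stab_eq {q : ℕ} (hF : Fintype.card F = q) {k : ℕ}
    (W : Submodule F (Fin m ⊕ Fin m → F)) (hWk : Module.finrank F W = k)
    (hW : ∀ u ∈ W, ∀ v ∈ W, Cfsg.sympForm m F u v = 0)
    (w₀ : Fin k → (Fin m ⊕ Fin m → F)) (hw₀ : LinearIndependent F w₀) (hw₀W : ∀ i, w₀ i ∈ W) :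
    Nat.card ↥(Cfsg.stabilizing (Cfsg.spToMat m F) (W : Set (Fin m ⊕ Fin m → F)))
      = (∏ i : Fin k, (q ^ k - q ^ (i : ℕ)))
        * Nat.card {g : Matrix.symplecticGroup (Fin m) F //
            ∀ i, (g : Matrix (Fin m ⊕ Fin m) (Fin m ⊕ Fin m) F) *ᵥ w₀ i = w₀ i} := by
  classical
  have hspan : ∀ b : Fin k → (Fin m ⊕ Fin m → F), LinearIndependent F b → (∀ i, b i ∈ W) →
      Submodule.span F (Set.range b) = W := by
    intro b hb hbW
    apply Submodule.eq_of_le_of_finrank_eq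
      (Submodule.span_le.mpr (by rintro _ ⟨i, rfl⟩; exact hbW i))
    rw [finrank_span_eq_card hb, hWk, Fintype.card_fin]
  obtain ⟨φ, hφ⟩ : ∃ φ : ↥(Cfsg.stabilizing (Cfsg.spToMat m F) (W : Set (Fin m ⊕ Fin m → F))) →
      {b : Fin k → W // LinearIndependent F b},
      ∀ g i, ((φ g).1 i : Fin m ⊕ Fin m → F)
        = (g.1 : Matrix (Fin m ⊕ Fin m) (Fin m ⊕ Fin m) F) *ᵥ w₀ i := by
    refine ⟨fun g => ⟨fun i => ⟨(g.1 : Matrix (Fin m ⊕ Fin m) (Fin m ⊕ Fin m) F) *ᵥ w₀ i,
      (g.2 (w₀ i)).mp (hw₀W i)⟩, ?_⟩, fun g i => rfl⟩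
    apply LinearIndependent.of_comp W.subtype
    exact li_mulVec g.1 w₀ hw₀
  have hfib : ∀ b, Nat.card {g // φ g = b}
      = Nat.card {g : Matrix.symplecticGroup (Fin m) F //
          ∀ i, (g : Matrix (Fin m ⊕ Fin m) (Fin m ⊕ Fin m) F) *ᵥ w₀ i = w₀ i} := by
    intro b
    have hb' : LinearIndependent F (fun i => (b.1 i : Fin m ⊕ Fin m → F)) :=
      b.2.map' W.subtype (Submodule.ker_subtype W)
    obtain ⟨A, hA⟩ := witt_frames w₀ (fun i => (b.1 i : Fin m ⊕ Fin m → F)) hw₀ hb'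
      (fun i j => by rw [hW _ (b.1 i).2 _ (b.1 j).2, hW _ (hw₀W i) _ (hw₀W j)])
    have hAstab : A ∈ Cfsg.stabilizing (Cfsg.spToMat m F) (W : Set (Fin m ⊕ Fin m → F)) :=
      mem_stab_of_frames W w₀ _ (hspan w₀ hw₀ hw₀W) (hspan _ hb' (fun i => (b.1 i).2)) A hA
    apply Nat.card_congr
    refine { toFun := fun g => ⟨A⁻¹ * g.1.1, ?_⟩
             invFun := fun s => ⟨⟨A * s.1, mul_mem hAstab
               (mem_stab_of_frames W w₀ w₀ (hspan w₀ hw₀ hw₀W) (hspan w₀ hw₀ hw₀W) s.1 s.2)⟩, ?_⟩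
             left_inv := ?_
             right_inv := ?_ }
    · intro i
      have h1 : (g.1.1 : Matrix (Fin m ⊕ Fin m) (Fin m ⊕ Fin m) F) *ᵥ w₀ i = (b.1 i : Fin m ⊕ Fin m → F) := by
        rw [← hφ, g.2]
      rw [val_mul, ← Matrix.mulVec_mulVec, h1, ← hA, inv_mulVec_mulVec]
    · apply Subtype.ext
      funext i
      apply Subtype.ext
      rw [hφ]
      show ((A * s.1 : Matrix.symplecticGroup (Fin m) F) : Matrix (Fin m ⊕ Fin m) (Fin m ⊕ Fin m) F) *ᵥ w₀ i
        = (b.1 i : Fin m ⊕ Fin m → F)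
      rw [val_mul, ← Matrix.mulVec_mulVec, s.2 i, hA]
    · intro g
      apply Subtype.ext
      apply Subtype.ext
      show A * (A⁻¹ * g.1.1) = g.1.1
      rw [mul_inv_cancel_left]
    · intro s
      apply Subtype.ext
      show A⁻¹ * (A * s.1) = s.1
      rw [inv_mul_cancel_left]
  rw [card_fiber_count φ _ hfib]
  congr 1
  have h1 := card_linearIndependent (K := F) (V := W) (k := k) (le_of_eq hWk.symm)
  rw [hWk, hF] at h1
  exact h1

end Orbit

section Arith

theorem half_succ (k : ℕ) : (k + 1) * (k + 1 + 1) / 2 = k * (k + 1) / 2 + (k + 1) := by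
  have h1 : (k + 1) * (k + 1 + 1) = k * (k + 1) + 2 * (k + 1) := by ring
  rw [h1, Nat.add_mul_div_left _ _ (by norm_num : 0 < 2)]

theorem sp_arith (q : ℕ) : ∀ k d : ℕ,
    q ^ ((k + d) ^ 2) * ∏ i ∈ Finset.range (k + d), (q ^ (2 * (i + 1)) - 1)
      = (∏ i ∈ Finset.range k, (q ^ (2 * (k + d) - i) - q ^ i))
        * (q ^ (k * (k + 1) / 2 + 2 * k * d)
          * (q ^ (d ^ 2) * ∏ i ∈ Finset.range d, (q ^ (2 * (i + 1)) - 1)))
  | 0, d => by simp
  | k + 1, d => by
    have h1 : k + 1 + d = k + (d + 1) := by omega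
    rw [h1, sp_arith q k (d + 1), Finset.prod_range_succ, Finset.prod_range_succ, half_succ]
    have h2 : q ^ (2 * (k + (d + 1)) - k) - q ^ k = q ^ k * (q ^ (2 * (d + 1)) - 1) := by
      have h3 : 2 * (k + (d + 1)) - k = k + 2 * (d + 1) := by omega
      rw [h3, Nat.mul_sub, pow_add, mul_one]
    rw [h2]
    generalize q ^ (2 * (d + 1)) - 1 = t
    generalize ∏ i ∈ Finset.range k, (q ^ (2 * (k + (d + 1)) - i) - q ^ i) = P
    generalize ∏ i ∈ Finset.range d, (q ^ (2 * (i + 1)) - 1) = P'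
    generalize k * (k + 1) / 2 = T
    ring

end Arith

section Main

variable {F : Type*} [Field F] [Fintype F]

/-- The order of the stabiliser in `Sp_2m(q)` of a totally isotropic `k`-space. -/
theorem card_stab_ti {q : ℕ} (hF : Fintype.card F = q) (m k : ℕ) (hk : k ≤ m)
    (W : Submodule F (Fin m ⊕ Fin m → F)) (hWk : Module.finrank F W = k)
    (hW : ∀ u ∈ W, ∀ v ∈ W, Cfsg.sympForm m F u v = 0) :
    Nat.card ↥(Cfsg.stabilizing (Cfsg.spToMat m F) (W : Set (Fin m ⊕ Fin m → F)))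
      = q ^ (k * (k + 1) / 2 + 2 * k * (m - k))
        * (q ^ ((m - k) ^ 2) * ∏ i ∈ Finset.range (m - k), (q ^ (2 * (i + 1)) - 1))
        * ∏ i : Fin k, (q ^ k - q ^ (i : ℕ)) := by
  classical
  obtain ⟨w₀, hw₀, hw₀W⟩ : ∃ w₀ : Fin k → (Fin m ⊕ Fin m → F),
      LinearIndependent F w₀ ∧ ∀ i, w₀ i ∈ W := by
    have b := Module.finBasisOfFinrankEq F W hWk
    exact ⟨fun i => (b i : Fin m ⊕ Fin m → F),
      b.linearIndependent.map' W.subtype (Submodule.ker_subtype W), fun i => (b i).2⟩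
  have h1 := card_stab_eq hF W hWk hW w₀ hw₀ hw₀W
  have h2 := card_sp_eq_frames_mul w₀ hw₀ (fun i j => hW _ (hw₀W i) _ (hw₀W j))
  rw [card_sp hF m, card_ti hF m k] at h2
  obtain ⟨d, rfl⟩ := Nat.exists_eq_add_of_le hk
  have h3 := sp_arith q k d
  have hq : 1 < q := by
    rw [← hF]
    exact Fintype.one_lt_card
  have hpos : 0 < ∏ i ∈ Finset.range k, (q ^ (2 * (k + d) - i) - q ^ i) := by
    apply Finset.prod_pos
    intro i hi
    rw [Finset.mem_range] at hi
    exact Nat.sub_pos_of_lt (Nat.pow_lt_pow_right hq (by omega))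
  have h4 := Nat.eq_of_mul_eq_mul_left hpos (h2.symm.trans h3)
  rw [h1, h4, Nat.add_sub_cancel_left]
  ring

end Main

end Cfsg.Agent.Lib.helper4
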