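import Mathlib
import Cfsg.Agent.Lib.helper4.SpTI

set_option autoImplicit false

/-!
# The centre of `Sp_2m(F)`

`scalar_of_commute_tv`: an element commuting with all symplectic transvections is `±1`.
`mem_center_sp_iff`, `card_center_sp`.
-/

namespace Cfsg.Agent.Lib.helper4

open Matrix
open Cfsg.Agent.S0776 Cfsg.Agent.S0766 Cfsg.Agent.S0765

section Center

variable {F : Type*} [Field F] {m : ℕ}

theorem exists_sf_eq_one (v : Fin m ⊕ Fin m → F) (hv : v ≠ 0) :
    ∃ x, Cfsg.sympForm m F x v = 1 := by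
  have hex : ∃ x, sB m F x v ≠ 0 := by
    by_contra hcon
    push Not at hcon
    exact hv (sB_nondeg.2 v hcon)
  obtain ⟨x, hx⟩ := hex
  refine ⟨(sB m F x v)⁻¹ • x, ?_⟩
  rw [sf_smul_left, ← sB_apply, inv_mul_cancel₀ hx]

/-- if every vector is an eigenvector of the symplectic matrix `g` then `g = ±1`. -/
theorem scalar_of_eigen (hm : 1 ≤ m) (g : Matrix.symplecticGroup (Fin m) F)
    (heig : ∀ v : Fin m ⊕ Fin m → F, ∃ c : F,
      (g : Matrix (Fin m ⊕ Fin m) (Fin m ⊕ Fin m) F) *ᵥ v = c • v) :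
    (g : Matrix (Fin m ⊕ Fin m) (Fin m ⊕ Fin m) F) = 1 ∨
      (g : Matrix (Fin m ⊕ Fin m) (Fin m ⊕ Fin m) F) = -1 := by
  classical
  obtain ⟨a, ha⟩ : ∃ a : Fin m ⊕ Fin m, a = Sum.inl ⟨0, hm⟩ := ⟨_, rfl⟩
  obtain ⟨c, hc⟩ := heig (Pi.single a 1)
  have hall : ∀ b, (g : Matrix (Fin m ⊕ Fin m) (Fin m ⊕ Fin m) F) *ᵥ Pi.single b 1
      = c • Pi.single b 1 := by
    intro b
    by_cases hab : b = a
    · rw [hab]; exact hc
    · obtain ⟨cb, hcb⟩ := heig (Pi.single b 1)
      obtain ⟨μ, hμ⟩ := heig (Pi.single a 1 + Pi.single b 1)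
      rw [Matrix.mulVec_add, hc, hcb] at hμ
      have h1 := congrFun hμ a
      have h2 := congrFun hμ b
      simp [hab, Ne.symm hab] at h1 h2
      rw [hcb, h2, ← h1]
  have hgc : (g : Matrix (Fin m ⊕ Fin m) (Fin m ⊕ Fin m) F) = c • (1 : Matrix (Fin m ⊕ Fin m) (Fin m ⊕ Fin m) F) := by
    ext i b
    have h1 : (g : Matrix (Fin m ⊕ Fin m) (Fin m ⊕ Fin m) F) i b = (c • Pi.single b (1 : F)) i := by
      rw [← hall b, Matrix.mulVec_single_one]
      rfl
    rw [h1, Matrix.smul_apply, Matrix.one_apply, Pi.smul_apply, Pi.single_apply]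
  have hcc : c * c = 1 := by
    have h1 := sp_pres g (Pi.single (Sum.inr ⟨0, hm⟩) 1) (Pi.single (Sum.inl ⟨0, hm⟩) 1)
    rw [hall, hall, sf_smul_left, sf_smul_right, sf_e_right] at h1
    simpa using h1
  rcases mul_self_eq_one_iff.mp hcc with h | h
  · left; rw [hgc, h, one_smul]
  · right; rw [hgc, h, neg_smul, one_smul]

/-- an element of `Sp` commuting with all transvections is `±1`. -/
theorem scalar_of_commute_tv (hm : 1 ≤ m) (g : Matrix.symplecticGroup (Fin m) F)
    (hg : ∀ w : Fin m ⊕ Fin m → F, g * tv w 1 = tv w 1 * g) :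
    (g : Matrix (Fin m ⊕ Fin m) (Fin m ⊕ Fin m) F) = 1 ∨
      (g : Matrix (Fin m ⊕ Fin m) (Fin m ⊕ Fin m) F) = -1 := by
  classical
  apply scalar_of_eigen hm g
  intro v
  by_cases hv : v = 0
  · exact ⟨0, by rw [hv, Matrix.mulVec_zero, smul_zero]⟩
  · obtain ⟨x, hx⟩ := exists_sf_eq_one v hv
    have h1 := congrArg (fun A : Matrix.symplecticGroup (Fin m) F =>
      (A : Matrix (Fin m ⊕ Fin m) (Fin m ⊕ Fin m) F) *ᵥ x) (hg v)
    simp only [val_mul, tv_val, ← Matrix.mulVec_mulVec, tv_apply] at h1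
    rw [hx, Matrix.mulVec_add, Matrix.mulVec_smul, mul_one, one_smul] at h1
    exact ⟨1 * Cfsg.sympForm m F ((g : Matrix (Fin m ⊕ Fin m) (Fin m ⊕ Fin m) F) *ᵥ x) v,
      add_left_cancel h1⟩

theorem mem_center_sp_iff (hm : 1 ≤ m) (g : Matrix.symplecticGroup (Fin m) F) :
    g ∈ Subgroup.center (Matrix.symplecticGroup (Fin m) F) ↔
      ((g : Matrix (Fin m ⊕ Fin m) (Fin m ⊕ Fin m) F) = 1 ∨
        (g : Matrix (Fin m ⊕ Fin m) (Fin m ⊕ Fin m) F) = -1) := by
  constructor
  · intro hg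
    apply scalar_of_commute_tv hm g
    intro w
    exact (Subgroup.mem_center_iff.mp hg (tv w 1)).symm
  · intro h
    rw [Subgroup.mem_center_iff]
    intro x
    apply Subtype.ext
    rw [val_mul, val_mul]
    rcases h with h | h <;> rw [h] <;> simp

theorem card_center_sp [Fintype F] {q : ℕ} (hF : Fintype.card F = q) (m : ℕ) (hm : 1 ≤ m) :
    Nat.card (Subgroup.center (Matrix.symplecticGroup (Fin m) F)) = Nat.gcd 2 (q - 1) := by
  classical
  have hq : 1 < q := by
    rw [← hF]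
    exact Fintype.one_lt_card
  by_cases h2 : (-1 : F) = 1
  · have hbot : Subgroup.center (Matrix.symplecticGroup (Fin m) F) = ⊥ := by
      rw [eq_bot_iff]
      intro g hg
      rw [Subgroup.mem_bot]
      apply Subtype.ext
      rcases (mem_center_sp_iff hm g).mp hg with h | h
      · exact h
      · rw [h]
        show (-1 : Matrix (Fin m ⊕ Fin m) (Fin m ⊕ Fin m) F) = 1
        ext i j
        rw [Matrix.neg_apply, Matrix.one_apply]
        split_ifs
        · exact h2
        · exact neg_zero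
    rw [hbot, Subgroup.card_bot]
    have h3 : q % 2 = 0 := by
      rw [← hF]
      exact FiniteField.even_card_of_char_two (neg_one_eq_one_iff.mp h2)
    have h4 : Odd (q - 1) := by
      rw [Nat.odd_iff]
      omega
    have h5 : Nat.gcd 2 (q - 1) = 1 := Nat.coprime_two_left.mpr h4
    exact h5.symm
  · have hneg : (-1 : Matrix (Fin m ⊕ Fin m) (Fin m ⊕ Fin m) F) ∈ Matrix.symplecticGroup (Fin m) F :=
      SymplecticGroup.neg_mem (one_mem _)
    have hnegc : (⟨-1, hneg⟩ : Matrix.symplecticGroup (Fin m) F)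
        ∈ Subgroup.center (Matrix.symplecticGroup (Fin m) F) :=
      (mem_center_sp_iff hm _).mpr (Or.inr rfl)
    have h3 : q % 2 = 1 := by
      rw [← hF]
      exact FiniteField.odd_card_of_char_ne_two (fun h => h2 (neg_one_eq_one_iff.mpr h))
    have h4 : Nat.gcd 2 (q - 1) = 2 := Nat.gcd_eq_left (by omega)
    rw [h4, Nat.card_eq_two_iff]
    refine ⟨1, ⟨⟨-1, hneg⟩, hnegc⟩, ?_, ?_⟩
    · intro h
      have h5 := congrArg (fun z : Subgroup.center (Matrix.symplecticGroup (Fin m) F) =>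
        (z.1.1 : Matrix (Fin m ⊕ Fin m) (Fin m ⊕ Fin m) F) (Sum.inl ⟨0, hm⟩) (Sum.inl ⟨0, hm⟩)) h
      simp only [OneMemClass.coe_one, Matrix.one_apply_eq, Matrix.neg_apply] at h5
      exact h2 h5.symm
    · ext z
      simp only [Set.mem_insert_iff, Set.mem_singleton_iff, Set.mem_univ, iff_true]
      rcases (mem_center_sp_iff hm z.1).mp z.2 with h | h
      · left
        apply Subtype.ext
        apply Subtype.ext
        exact h
      · right
        apply Subtype.ext
        apply Subtype.ext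
        exact h

end Center

end Cfsg.Agent.Lib.helper4
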