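import Mathlib
import Cfsg.Agent.S0271
import Cfsg.Agent.Lib.helper4.SpCenter

set_option autoImplicit false

/-!
# `Sp_2m(F)` is perfect (outside `Sp_2(2)`, `Sp_2(3)`, `Sp_4(2)`)

`tv_conj` (conjugating a transvection), `tv_comm_mem`, `exists_shear`, `perfect_of_one`,
`perfect_big` (`|F| ≥ 4`), `perfect_odd` (`m ≥ 2`, `2 ≠ 0`), `perfect_even` (`m ≥ 3`, `2 = 0`).
-/

namespace Cfsg.Agent.Lib.helper4

open Matrix
open Cfsg.Agent.S0776 Cfsg.Agent.S0766 Cfsg.Agent.S0765

section Perfect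

variable {F : Type*} [Field F] {m : ℕ}

theorem sp_ext (A B : Matrix.symplecticGroup (Fin m) F)
    (h : ∀ x, (A : Matrix (Fin m ⊕ Fin m) (Fin m ⊕ Fin m) F) *ᵥ x
      = (B : Matrix (Fin m ⊕ Fin m) (Fin m ⊕ Fin m) F) *ᵥ x) : A = B := by
  apply Subtype.ext
  apply Matrix.toLin'.injective
  apply LinearMap.ext
  intro x
  rw [Matrix.toLin'_apply, Matrix.toLin'_apply]
  exact h x

theorem tv_conj (g : Matrix.symplecticGroup (Fin m) F) (z : Fin m ⊕ Fin m → F) (c : F) :
    g * tv z c = tv ((g : Matrix (Fin m ⊕ Fin m) (Fin m ⊕ Fin m) F) *ᵥ z) c * g := by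
  apply sp_ext
  intro x
  rw [val_mul, val_mul, ← Matrix.mulVec_mulVec, ← Matrix.mulVec_mulVec, tv_val, tv_val, tv_apply,
    tv_apply, sp_pres, Matrix.mulVec_add, Matrix.mulVec_smul]

theorem tv_mul_neg (z : Fin m ⊕ Fin m → F) (c : F) : tv z c * tv z (-c) = 1 := by
  apply sp_ext
  intro x
  rw [val_mul, ← Matrix.mulVec_mulVec, tv_val, tv_val, tv_apply, tv_apply, sf_add_left,
    sf_smul_left, sf_self]
  show _ = (1 : Matrix (Fin m ⊕ Fin m) (Fin m ⊕ Fin m) F) *ᵥ x
  rw [Matrix.one_mulVec]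
  module

theorem tv_comm_mem (g : Matrix.symplecticGroup (Fin m) F) (z : Fin m ⊕ Fin m → F) (c : F) :
    tv ((g : Matrix (Fin m ⊕ Fin m) (Fin m ⊕ Fin m) F) *ᵥ z) c * tv z (-c)
      ∈ commutator (Matrix.symplecticGroup (Fin m) F) := by
  have h0 := Subgroup.commutator_mem_commutator (Subgroup.mem_top g) (Subgroup.mem_top (tv z c))
  rw [commutatorElement_def, tv_conj, mul_inv_cancel_right,
    inv_eq_of_mul_eq_one_right (tv_mul_neg z c)] at h0
  rw [commutator_def]
  exact h0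

theorem perfect_of_one (u : Fin m ⊕ Fin m → F) (hu : u ≠ 0)
    (h : ∀ c : F, tv u c ∈ commutator (Matrix.symplecticGroup (Fin m) F)) :
    commutator (Matrix.symplecticGroup (Fin m) F) = ⊤ := by
  rw [eq_top_iff, ← Cfsg.Agent.S0765.result m, Subgroup.closure_le]
  rintro A ⟨w, c, hA⟩
  have hAtv : A = tv w c := Subtype.ext hA
  rw [hAtv]
  show tv w c ∈ commutator (Matrix.symplecticGroup (Fin m) F)
  by_cases hw : w = 0
  · have h1 : tv w c = 1 := by
      apply Subtype.ext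
      rw [hw]
      show Cfsg.sympTransvection m 0 c = 1
      unfold Cfsg.sympTransvection
      simp
    rw [h1]
    exact one_mem _
  · obtain ⟨g, hg⟩ := Cfsg.Agent.S0271.result m u w hu hw
    have h1 : tv w c = g * tv u c * g⁻¹ := by
      rw [tv_conj, hg, mul_inv_cancel_right]
    rw [h1]
    exact (inferInstance : (commutator (Matrix.symplecticGroup (Fin m) F)).Normal).conj_mem _ (h c) g

theorem exists_shear (u z : Fin m ⊕ Fin m → F) (hli : LinearIndependent F ![u, z])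
    (huz : Cfsg.sympForm m F u z = 0) (a : F) :
    ∃ g : Matrix.symplecticGroup (Fin m) F,
      (g : Matrix (Fin m ⊕ Fin m) (Fin m ⊕ Fin m) F) *ᵥ u = u ∧
      (g : Matrix (Fin m ⊕ Fin m) (Fin m ⊕ Fin m) F) *ᵥ z = a • u + z := by
  have hli' : LinearIndependent F ![u, a • u + z] := by
    rw [LinearIndependent.pair_iff] at hli ⊢
    intro s t hst
    have h1 : (s + t * a) • u + t • z = 0 := by
      rw [← hst]
      module
    obtain ⟨h2, h3⟩ := hli _ _ h1
    rw [h3, zero_mul, add_zero] at h2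
    exact ⟨h2, h3⟩
  have hzu : Cfsg.sympForm m F z u = 0 := by rw [sf_anti, huz, neg_zero]
  obtain ⟨g, hg⟩ := witt_frames ![u, z] ![u, a • u + z] hli hli' (by
    intro i j
    fin_cases i <;> fin_cases j <;>
      simp [sf_add_left, sf_add_right, sf_smul_left, sf_smul_right, sf_self, huz, hzu])
  exact ⟨g, hg 0, hg 1⟩

theorem perfect_big [Fintype F] (hm : 1 ≤ m) (hF : 4 ≤ Fintype.card F) :
    commutator (Matrix.symplecticGroup (Fin m) F) = ⊤ := by
  classical
  obtain ⟨a, ha0, ha1⟩ : ∃ a : F, a ≠ 0 ∧ a * a ≠ 1 := by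
    have hcard : ({0, 1, -1} : Finset F).card < (Finset.univ : Finset F).card := by
      rw [Finset.card_univ]
      exact lt_of_le_of_lt Finset.card_le_three (by omega)
    obtain ⟨a, -, ha⟩ := Finset.exists_mem_notMem_of_card_lt_card hcard
    simp only [Finset.mem_insert, Finset.mem_singleton, not_or] at ha
    refine ⟨a, ha.1, fun h => ?_⟩
    rcases mul_self_eq_one_iff.mp h with h | h
    · exact ha.2.1 h
    · exact ha.2.2 h
  obtain ⟨u, hu⟩ : ∃ u : Fin m ⊕ Fin m → F, u = Pi.single (Sum.inl ⟨0, hm⟩) 1 := ⟨_, rfl⟩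
  have hu0 : u ≠ 0 := by
    intro h
    have h1 := congrFun h (Sum.inl ⟨0, hm⟩)
    rw [hu] at h1
    simp at h1
  have hau0 : a • u ≠ 0 := smul_ne_zero ha0 hu0
  obtain ⟨g, hg⟩ := Cfsg.Agent.S0271.result m u (a • u) hu0 hau0
  apply perfect_of_one u hu0
  intro c
  have h1 := tv_comm_mem g u (c / (a * a - 1))
  have h2 : tv ((g : Matrix (Fin m ⊕ Fin m) (Fin m ⊕ Fin m) F) *ᵥ u) (c / (a * a - 1))
      * tv u (-(c / (a * a - 1))) = tv u c := by
    apply sp_ext
    intro x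
    rw [hg, val_mul, ← Matrix.mulVec_mulVec, tv_val, tv_val, tv_val, tv_apply, tv_apply, tv_apply]
    simp only [sf_add_left, sf_smul_left, sf_smul_right, sf_self, mul_zero, add_zero]
    have h3 : a * a - 1 ≠ 0 := sub_ne_zero.mpr ha1
    have h4 : c = (a * a - 1) * (c / (a * a - 1)) := by
      rw [mul_comm]
      exact (div_mul_cancel₀ c h3).symm
    generalize c / (a * a - 1) = c' at h4
    rw [h4]
    module
  rw [h2] at h1
  exact h1

theorem single_ne_zero' (i : Fin m ⊕ Fin m) : (Pi.single i 1 : Fin m ⊕ Fin m → F) ≠ 0 := by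
  classical
  intro h
  have h1 := congrFun h i
  simp at h1

theorem li_single_pair (i j : Fin m) (hij : i ≠ j) :
    LinearIndependent F ![(Pi.single (Sum.inl i) 1 : Fin m ⊕ Fin m → F), Pi.single (Sum.inl j) 1] := by
  classical
  rw [LinearIndependent.pair_iff]
  intro s t hst
  have h1 := congrFun hst (Sum.inl i)
  have h2 := congrFun hst (Sum.inl j)
  simp [hij, Ne.symm hij] at h1 h2
  exact ⟨h1, h2⟩

theorem sf_single_inl (i j : Fin m) :
    Cfsg.sympForm m F (Pi.single (Sum.inl i) 1) (Pi.single (Sum.inl j) 1) = 0 := by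
  classical
  rw [sf_e_right]
  simp

theorem perfect_odd (hm : 2 ≤ m) (h2 : (2 : F) ≠ 0) :
    commutator (Matrix.symplecticGroup (Fin m) F) = ⊤ := by
  classical
  obtain ⟨u, hu⟩ : ∃ u : Fin m ⊕ Fin m → F, u = Pi.single (Sum.inl ⟨0, by omega⟩) 1 := ⟨_, rfl⟩
  obtain ⟨v, hv⟩ : ∃ v : Fin m ⊕ Fin m → F, v = Pi.single (Sum.inl ⟨1, by omega⟩) 1 := ⟨_, rfl⟩
  have hu0 : u ≠ 0 := by rw [hu]; exact single_ne_zero' _
  have huv : Cfsg.sympForm m F u v = 0 := by rw [hu, hv]; exact sf_single_inl _ _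
  have hvu : Cfsg.sympForm m F v u = 0 := by rw [hu, hv]; exact sf_single_inl _ _
  have hli : LinearIndependent F ![u, v] := by
    rw [hu, hv]
    exact li_single_pair _ _ (by simp [Fin.ext_iff])
  obtain ⟨g, hgu, hgv⟩ := exists_shear u v hli huv 1
  obtain ⟨g', hgu', hgv'⟩ := exists_shear u v hli huv (-1)
  apply perfect_of_one u hu0
  intro c
  have h1 := mul_mem (tv_comm_mem g v (c / 2)) (tv_comm_mem g' v (c / 2))
  have h3 : tv ((g : Matrix (Fin m ⊕ Fin m) (Fin m ⊕ Fin m) F) *ᵥ v) (c / 2) * tv v (-(c / 2))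
      * (tv ((g' : Matrix (Fin m ⊕ Fin m) (Fin m ⊕ Fin m) F) *ᵥ v) (c / 2) * tv v (-(c / 2)))
      = tv u c := by
    apply sp_ext
    intro x
    rw [hgv, hgv']
    simp only [val_mul, ← Matrix.mulVec_mulVec, tv_val, tv_apply, sf_add_left, sf_add_right,
      sf_smul_left, sf_smul_right, sf_self, huv, hvu, mul_zero, add_zero]
    have h4 : c = 2 * (c / 2) := by field_simp
    generalize c / 2 = c' at h4
    rw [h4]
    module
  rw [h3] at h1
  exact h1

theorem perfect_even (hm : 3 ≤ m) (h2 : (2 : F) = 0) :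
    commutator (Matrix.symplecticGroup (Fin m) F) = ⊤ := by
  classical
  obtain ⟨u, hu⟩ : ∃ u : Fin m ⊕ Fin m → F, u = Pi.single (Sum.inl ⟨0, by omega⟩) 1 := ⟨_, rfl⟩
  obtain ⟨v, hv⟩ : ∃ v : Fin m ⊕ Fin m → F, v = Pi.single (Sum.inl ⟨1, by omega⟩) 1 := ⟨_, rfl⟩
  obtain ⟨w, hw⟩ : ∃ w : Fin m ⊕ Fin m → F, w = Pi.single (Sum.inl ⟨2, by omega⟩) 1 := ⟨_, rfl⟩
  have hu0 : u ≠ 0 := by rw [hu]; exact single_ne_zero' _
  have huv : Cfsg.sympForm m F u v = 0 := by rw [hu, hv]; exact sf_single_inl _ _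
  have hvu : Cfsg.sympForm m F v u = 0 := by rw [hu, hv]; exact sf_single_inl _ _
  have huw : Cfsg.sympForm m F u w = 0 := by rw [hu, hw]; exact sf_single_inl _ _
  have hwu : Cfsg.sympForm m F w u = 0 := by rw [hu, hw]; exact sf_single_inl _ _
  have hvw : Cfsg.sympForm m F v w = 0 := by rw [hv, hw]; exact sf_single_inl _ _
  have hwv : Cfsg.sympForm m F w v = 0 := by rw [hv, hw]; exact sf_single_inl _ _
  have hli1 : LinearIndependent F ![u, v] := by
    rw [hu, hv]
    exact li_single_pair _ _ (by simp [Fin.ext_iff])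
  have hli2 : LinearIndependent F ![u, w] := by
    rw [hu, hw]
    exact li_single_pair _ _ (by simp [Fin.ext_iff])
  have hli3 : LinearIndependent F ![u, v + w] := by
    rw [LinearIndependent.pair_iff]
    intro s t hst
    have h1 := congrFun hst (Sum.inl ⟨0, by omega⟩)
    have h2 := congrFun hst (Sum.inl ⟨1, by omega⟩)
    rw [hu, hv, hw] at h1 h2
    simp [Fin.ext_iff] at h1 h2
    exact ⟨h1, h2⟩
  obtain ⟨g₁, -, hg₁⟩ := exists_shear u v hli1 huv 1
  obtain ⟨g₂, -, hg₂⟩ := exists_shear u w hli2 huw 1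
  obtain ⟨g₃, -, hg₃⟩ := exists_shear u (v + w) hli3 (by rw [sf_add_right, huv, huw, add_zero]) 1
  apply perfect_of_one u hu0
  intro c
  have h1 := mul_mem (mul_mem (tv_comm_mem g₁ v c) (tv_comm_mem g₂ w c)) (tv_comm_mem g₃ (v + w) c)
  have h3 : tv ((g₁ : Matrix (Fin m ⊕ Fin m) (Fin m ⊕ Fin m) F) *ᵥ v) c * tv v (-c)
      * (tv ((g₂ : Matrix (Fin m ⊕ Fin m) (Fin m ⊕ Fin m) F) *ᵥ w) c * tv w (-c))
      * (tv ((g₃ : Matrix (Fin m ⊕ Fin m) (Fin m ⊕ Fin m) F) *ᵥ (v + w)) c * tv (v + w) (-c))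
      = tv u c := by
    apply sp_ext
    intro x
    rw [hg₁, hg₂, hg₃]
    simp only [val_mul, ← Matrix.mulVec_mulVec, tv_val, tv_apply, sf_add_left, sf_add_right,
      sf_smul_left, sf_smul_right, sf_self, huv, hvu, huw, hwu, hvw, hwv, mul_zero, add_zero]
    linear_combination (norm := module) h2 • (c • ((Cfsg.sympForm m F x u + Cfsg.sympForm m F x v
      + Cfsg.sympForm m F x w) • u + Cfsg.sympForm m F x u • v + Cfsg.sympForm m F x u • w))
  rw [h3] at h1
  exact h1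

/-- `Sp_2m(F)` is perfect except for `Sp_2(2)`, `Sp_2(3)`, `Sp_4(2)`. -/
theorem sp_perfect [Fintype F] (m : ℕ)
    (h : 3 ≤ m ∨ (m = 2 ∧ 3 ≤ Fintype.card F) ∨ 4 ≤ Fintype.card F) :
    commutator (Matrix.symplecticGroup (Fin m) F) = ⊤ := by
  classical
  by_cases hm0 : m = 0
  · subst hm0
    have : Subsingleton (Matrix.symplecticGroup (Fin 0) F) :=
      ⟨fun a b => Subtype.ext (Subsingleton.elim _ _)⟩
    exact Subsingleton.elim _ _
  by_cases h4 : 4 ≤ Fintype.card F
  · exact perfect_big (by omega) h4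
  · by_cases h2 : (2 : F) = 0
    · have h5 : (-1 : F) = 1 := by
        apply neg_eq_of_add_eq_zero_left
        rw [one_add_one_eq_two]
        exact h2
      have h6 : Fintype.card F % 2 = 0 :=
        FiniteField.even_card_of_char_two (neg_one_eq_one_iff.mp h5)
      have hm3 : 3 ≤ m := by
        rcases h with h | ⟨_, h3⟩ | h
        · exact h
        · omega
        · omega
      exact perfect_even hm3 h2
    · have hm2 : 2 ≤ m := by
        rcases h with h | ⟨h, _⟩ | h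
        · omega
        · omega
        · omega
      exact perfect_odd hm2 h2

end Perfect

end Cfsg.Agent.Lib.helper4
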