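import Mathlib
import Cfsg.Agent.S0271
import Cfsg.Agent.Lib.helper4.SpCenter

set_option autoImplicit false

/-!
# `Sp_2m(F)` acts primitively on the points of projective space

`exists_spGL` (bridge from `Matrix.symplecticGroup` to `Cfsg.spGL`), `block_step`,
`sp_preprimitive`.
-/

namespace Cfsg.Agent.Lib.helper4

open Matrix
open Cfsg.Agent.S0776 Cfsg.Agent.S0766 Cfsg.Agent.S0765
open scoped LinearAlgebra.Projectivization Pointwise

section Prim

variable {F : Type*} [Field F] {m : ℕ}

theorem mulVec_ne_zero' (A : Matrix.symplecticGroup (Fin m) F) (v : Fin m ⊕ Fin m → F) (hv : v ≠ 0) :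
    (A : Matrix (Fin m ⊕ Fin m) (Fin m ⊕ Fin m) F) *ᵥ v ≠ 0 := by
  intro h
  apply hv
  apply mulVec_injective A v 0
  rw [h, Matrix.mulVec_zero]

theorem mk_congr' (v w : Fin m ⊕ Fin m → F) (hv : v ≠ 0) (hw : w ≠ 0) (h : v = w) :
    Projectivization.mk F v hv = Projectivization.mk F w hw := by
  subst h
  rfl

theorem mk_smul_eq (v : Fin m ⊕ Fin m → F) (hv : v ≠ 0) (c : F) (hcv : c • v ≠ 0) :
    Projectivization.mk F (c • v) hcv = Projectivization.mk F v hv := by
  rw [Projectivization.mk_eq_mk_iff']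
  exact ⟨c, rfl⟩

/-- a symplectic matrix as an element of `Cfsg.spGL`, acting on points. -/
theorem exists_spGL (A : Matrix.symplecticGroup (Fin m) F) :
    ∃ g : ↥(Cfsg.spGL m F), ∀ (v : Fin m ⊕ Fin m → F) (hv : v ≠ 0),
      g • Projectivization.mk F v hv
        = Projectivization.mk F ((A : Matrix (Fin m ⊕ Fin m) (Fin m ⊕ Fin m) F) *ᵥ v)
            (mulVec_ne_zero' A v hv) := by
  refine ⟨⟨⟨A.1, (A⁻¹).1, ?_, ?_⟩, ?_⟩, ?_⟩
  · rw [← val_mul, mul_inv_cancel]; rfl
  · rw [← val_mul, inv_mul_cancel]; rfl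
  · intro u v
    exact sp_pres A u v
  · intro v hv
    rfl

theorem mk_ne_of_sf (x y z : Fin m ⊕ Fin m → F) (hx : x ≠ 0) (hy : y ≠ 0)
    (h1 : Cfsg.sympForm m F z x = 0) (h2 : Cfsg.sympForm m F z y ≠ 0) :
    Projectivization.mk F x hx ≠ Projectivization.mk F y hy := by
  intro h
  rw [Projectivization.mk_eq_mk_iff'] at h
  obtain ⟨a, ha⟩ := h
  rw [← ha, sf_smul_right] at h1
  rcases mul_eq_zero.mp h1 with h3 | h3
  · apply hx
    rw [← ha, h3, zero_smul]
  · exact h2 h3

theorem sub_smul_ne_zero (u v : Fin m ⊕ Fin m → F) (hu : u ≠ 0) (hv : v ≠ 0)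
    (hne : Projectivization.mk F v hv ≠ Projectivization.mk F u hu) (t : F) : v - t • u ≠ 0 := by
  intro h
  apply hne
  rw [Projectivization.mk_eq_mk_iff']
  exact ⟨t, (sub_eq_zero.mp h).symm⟩

theorem mk_sub_smul_ne (u v : Fin m ⊕ Fin m → F) (hu : u ≠ 0) (hv : v ≠ 0)
    (hne : Projectivization.mk F v hv ≠ Projectivization.mk F u hu) (t : F) :
    Projectivization.mk F (v - t • u) (sub_smul_ne_zero u v hu hv hne t)
      ≠ Projectivization.mk F u hu := by
  intro h
  apply hne
  rw [Projectivization.mk_eq_mk_iff'] at h ⊢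
  obtain ⟨a, ha⟩ := h
  refine ⟨a + t, ?_⟩
  rw [add_smul, ha]
  module

theorem li_of_mk_ne (x y : Fin m ⊕ Fin m → F) (hx : x ≠ 0) (hy : y ≠ 0)
    (hne : Projectivization.mk F x hx ≠ Projectivization.mk F y hy) :
    LinearIndependent F ![x, y] := by
  rw [LinearIndependent.pair_iff' hx]
  intro a ha
  apply hne
  rw [eq_comm, Projectivization.mk_eq_mk_iff']
  exact ⟨a, ha⟩

theorem block_step (B : Set (ℙ F (Fin m ⊕ Fin m → F)))
    (hB : MulAction.IsBlock ↥(Cfsg.spGL m F) B)
    (x y z : Fin m ⊕ Fin m → F) (hx : x ≠ 0) (hy : y ≠ 0) (hz : z ≠ 0)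
    (hxB : Projectivization.mk F x hx ∈ B) (hyB : Projectivization.mk F y hy ∈ B)
    (hxy : Projectivization.mk F x hx ≠ Projectivization.mk F y hy)
    (hxz : Projectivization.mk F x hx ≠ Projectivization.mk F z hz)
    (hiff : Cfsg.sympForm m F x z = 0 ↔ Cfsg.sympForm m F x y = 0) :
    Projectivization.mk F z hz ∈ B := by
  classical
  obtain ⟨c, hc0, hcz⟩ : ∃ c : F, c ≠ 0 ∧ c * Cfsg.sympForm m F x z = Cfsg.sympForm m F x y := by
    by_cases h0 : Cfsg.sympForm m F x y = 0
    · exact ⟨1, one_ne_zero, by rw [h0, hiff.mpr h0, mul_zero]⟩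
    · have h1 : Cfsg.sympForm m F x z ≠ 0 := fun h => h0 (hiff.mp h)
      exact ⟨Cfsg.sympForm m F x y / Cfsg.sympForm m F x z, div_ne_zero h0 h1,
        div_mul_cancel₀ _ h1⟩
  have hcz0 : c • z ≠ 0 := smul_ne_zero hc0 hz
  have hli : LinearIndependent F ![x, y] := li_of_mk_ne x y hx hy hxy
  have hli' : LinearIndependent F ![x, c • z] := by
    apply li_of_mk_ne x (c • z) hx hcz0
    rw [mk_smul_eq z hz c hcz0]
    exact hxz
  have hzx : Cfsg.sympForm m F z x = - Cfsg.sympForm m F x z := sf_anti z x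
  have hyx : Cfsg.sympForm m F y x = - Cfsg.sympForm m F x y := sf_anti y x
  obtain ⟨A, hA⟩ := witt_frames ![x, y] ![x, c • z] hli hli' (by
    intro i j
    fin_cases i <;> fin_cases j <;>
      simp [sf_self, sf_smul_left, sf_smul_right, hcz, hzx, hyx])
  obtain ⟨g, hg⟩ := exists_spGL A
  have h1 : g • Projectivization.mk F x hx = Projectivization.mk F x hx := by
    rw [hg]
    exact mk_congr' _ _ _ _ (hA 0)
  have h2 : g • Projectivization.mk F y hy = Projectivization.mk F z hz := by
    rw [hg, ← mk_smul_eq z hz c hcz0]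
    exact mk_congr' _ _ _ _ (hA 1)
  have h3 : g • B = B := hB.smul_eq_of_mem hxB (by rw [h1]; exact hxB)
  rw [← h2, ← h3]
  exact Set.smul_mem_smul_set hyB

theorem exists_nonorth (u w : Fin m ⊕ Fin m → F) (hu : u ≠ 0) (hw : w ≠ 0) :
    ∃ x, Cfsg.sympForm m F x u ≠ 0 ∧ Cfsg.sympForm m F x w ≠ 0 := by
  obtain ⟨x₁, hx₁⟩ := exists_sf_eq_one u hu
  obtain ⟨x₂, hx₂⟩ := exists_sf_eq_one w hw
  by_cases h1 : Cfsg.sympForm m F x₁ w = 0
  · by_cases h2 : Cfsg.sympForm m F x₂ u = 0
    · refine ⟨x₁ + x₂, ?_, ?_⟩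
      · rw [sf_add_left, hx₁, h2, add_zero]; exact one_ne_zero
      · rw [sf_add_left, hx₂, h1, zero_add]; exact one_ne_zero
    · exact ⟨x₂, h2, by rw [hx₂]; exact one_ne_zero⟩
  · exact ⟨x₁, by rw [hx₁]; exact one_ne_zero, h1⟩

/-- `Sp_2m(F)` (as `Cfsg.spGL`) is primitive on the points of projective space. -/
theorem sp_preprimitive (m : ℕ) (hm : 1 ≤ m) :
    MulAction.IsPreprimitive ↥(Cfsg.spGL m F) (ℙ F (Fin m ⊕ Fin m → F)) := by
  classical
  have : MulAction.IsPretransitive ↥(Cfsg.spGL m F) (ℙ F (Fin m ⊕ Fin m → F)) := by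
    constructor
    intro p q
    induction p using Projectivization.ind with
    | h v hv =>
      induction q using Projectivization.ind with
      | h w hw =>
        obtain ⟨A, hA⟩ := Cfsg.Agent.S0271.result m v w hv hw
        obtain ⟨g, hg⟩ := exists_spGL A
        exact ⟨g, by rw [hg]; exact mk_congr' _ _ _ _ hA⟩
  obtain ⟨u, hu⟩ : ∃ u : Fin m ⊕ Fin m → F, u = Pi.single (Sum.inl ⟨0, hm⟩) 1 := ⟨_, rfl⟩
  have hu0 : u ≠ 0 := by
    rw [hu]
    intro h
    have h1 := congrFun h (Sum.inl ⟨0, hm⟩)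
    simp at h1
  apply MulAction.IsPreprimitive.of_isTrivialBlock_base (Projectivization.mk F u hu0)
  intro B haB hB
  by_cases hsub : B.Subsingleton
  · exact Or.inl hsub
  right
  obtain ⟨b, hbB, hba⟩ : ∃ b ∈ B, b ≠ Projectivization.mk F u hu0 := by
    by_contra hcon
    push Not at hcon
    exact hsub (fun p hp q hq => by rw [hcon p hp, hcon q hq])
  induction b using Projectivization.ind with
  | h v hv =>
    rw [Set.eq_univ_iff_forall]
    intro c
    induction c using Projectivization.ind with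
    | h w hw =>
      by_cases hca : Projectivization.mk F w hw = Projectivization.mk F u hu0
      · rw [hca]; exact haB
      by_cases h1 : Cfsg.sympForm m F u v = 0
      · by_cases h2 : Cfsg.sympForm m F u w = 0
        · exact block_step B hB u v w hu0 hv hw haB hbB (Ne.symm hba) (Ne.symm hca)
            (iff_of_true h2 h1)
        · have hwu : Cfsg.sympForm m F w u ≠ 0 := by
            rw [sf_anti]
            exact neg_ne_zero.mpr h2
          obtain ⟨t, ht⟩ : ∃ t : F, t = Cfsg.sympForm m F w v / Cfsg.sympForm m F w u := ⟨_, rfl⟩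
          have hx0 : v - t • u ≠ 0 := sub_smul_ne_zero u v hu0 hv hba t
          have hxa := mk_sub_smul_ne u v hu0 hv hba t
          have hux : Cfsg.sympForm m F u (v - t • u) = 0 := by
            rw [sf_sub_right, sf_smul_right, sf_self, h1, mul_zero, sub_zero]
          have hwx : Cfsg.sympForm m F w (v - t • u) = 0 := by
            rw [sf_sub_right, sf_smul_right, ht, div_mul_cancel₀ _ hwu, sub_self]
          have hxB : Projectivization.mk F (v - t • u) hx0 ∈ B :=
            block_step B hB u v (v - t • u) hu0 hv hx0 haB hbB (Ne.symm hba) (Ne.symm hxa)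
              (iff_of_true hux h1)
          have hxw : Projectivization.mk F (v - t • u) hx0 ≠ Projectivization.mk F w hw :=
            mk_ne_of_sf _ _ u hx0 hw hux h2
          have hxu' : Cfsg.sympForm m F (v - t • u) u = 0 := by
            rw [sf_anti, hux, neg_zero]
          have hxw' : Cfsg.sympForm m F (v - t • u) w = 0 := by
            rw [sf_anti, hwx, neg_zero]
          exact block_step B hB (v - t • u) u w hx0 hu0 hw hxB haB hxa hxw (iff_of_true hxw' hxu')
      · by_cases h2 : Cfsg.sympForm m F u w = 0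
        · obtain ⟨x, hxu, hxw⟩ := exists_nonorth u w hu0 hw
          have hux : Cfsg.sympForm m F u x ≠ 0 := by
            rw [sf_anti]
            exact neg_ne_zero.mpr hxu
          have hx0 : x ≠ 0 := by
            intro h
            apply hxu
            rw [h, ← sB_apply, map_zero, LinearMap.zero_apply]
          have hax : Projectivization.mk F u hu0 ≠ Projectivization.mk F x hx0 :=
            mk_ne_of_sf _ _ u hu0 hx0 (sf_self u) hux
          have hxB : Projectivization.mk F x hx0 ∈ B :=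
            block_step B hB u v x hu0 hv hx0 haB hbB (Ne.symm hba) hax (iff_of_false hux h1)
          have hwx : Projectivization.mk F w hw ≠ Projectivization.mk F x hx0 :=
            mk_ne_of_sf _ _ u hw hx0 h2 hux
          exact block_step B hB x u w hx0 hu0 hw hxB haB (Ne.symm hax) (Ne.symm hwx)
            (iff_of_false hxw hxu)
        · exact block_step B hB u v w hu0 hv hw haB hbB (Ne.symm hba) (Ne.symm hca)
            (iff_of_false h2 h1)

end Prim

end Cfsg.Agent.Lib.helper4
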