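import Mathlib
import Cfsg.Agent.Lib.helper4.SpPrim
import Cfsg.Agent.Lib.helper4.SpPerfect

set_option autoImplicit false

/-!
# Simplicity of `PSp_2m(F)` (Iwasawa)

`spEquiv` (`Matrix.symplecticGroup (Fin m) F ≃* Cfsg.spGL m F`), `normal_transitive`,
`normal_eq_top` (a normal subgroup of a perfect `Sp_2m(F)` not inside the centre is everything),
`psp_simple`.
-/

namespace Cfsg.Agent.Lib.helper4

open Matrix
open Cfsg.Agent.S0776 Cfsg.Agent.S0766 Cfsg.Agent.S0765
open scoped LinearAlgebra.Projectivization Pointwise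

section Simple

variable {F : Type*} [Field F] {m : ℕ}

theorem mem_sp_of_pres (M : Matrix (Fin m ⊕ Fin m) (Fin m ⊕ Fin m) F)
    (h : ∀ u v, Cfsg.sympForm m F (M *ᵥ u) (M *ᵥ v) = Cfsg.sympForm m F u v) :
    M ∈ Matrix.symplecticGroup (Fin m) F := by
  classical
  have hcol : ∀ c, (fun i => M i c) = M *ᵥ Pi.single c 1 := by
    intro c
    funext i
    rw [Matrix.mulVec_single_one]
    rfl
  rw [SymplecticGroup.mem_iff']
  ext a b
  rw [Cfsg.Agent.S0776.gram_apply, hcol, hcol, h, sf_single]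

/-- Mathlib's symplectic group is isomorphic to `Cfsg.spGL`. -/
noncomputable def spEquiv (m : ℕ) (F : Type*) [Field F] :
    Matrix.symplecticGroup (Fin m) F ≃* ↥(Cfsg.spGL m F) where
  toFun A := ⟨⟨A.1, (A⁻¹).1, by rw [← val_mul, mul_inv_cancel]; rfl,
    by rw [← val_mul, inv_mul_cancel]; rfl⟩, fun u v => sp_pres A u v⟩
  invFun g := ⟨g.1.1, mem_sp_of_pres g.1.1 g.2⟩
  left_inv A := Subtype.ext rfl
  right_inv g := Subtype.ext (Units.ext rfl)
  map_mul' A B := Subtype.ext (Units.ext rfl)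

theorem spEquiv_smul (A : Matrix.symplecticGroup (Fin m) F) (v : Fin m ⊕ Fin m → F) (hv : v ≠ 0) :
    spEquiv m F A • Projectivization.mk F v hv
      = Projectivization.mk F ((A : Matrix (Fin m ⊕ Fin m) (Fin m ⊕ Fin m) F) *ᵥ v)
          (mulVec_ne_zero' A v hv) := rfl

theorem tv_add (z : Fin m ⊕ Fin m → F) (c c' : F) : tv z c * tv z c' = tv z (c + c') := by
  apply sp_ext
  intro x
  rw [val_mul, ← Matrix.mulVec_mulVec, tv_val, tv_val, tv_val, tv_apply, tv_apply, tv_apply,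
    sf_add_left, sf_smul_left, sf_self]
  module

theorem tv_smul (z : Fin m ⊕ Fin m → F) (a c : F) : tv (a • z) c = tv z (a * a * c) := by
  apply sp_ext
  intro x
  rw [tv_val, tv_val, tv_apply, tv_apply, sf_smul_right]
  module

theorem tv_zero_right (z : Fin m ⊕ Fin m → F) : tv z (0 : F) = 1 := by
  apply sp_ext
  intro x
  rw [tv_val, tv_apply]
  show _ = (1 : Matrix (Fin m ⊕ Fin m) (Fin m ⊕ Fin m) F) *ᵥ x
  rw [Matrix.one_mulVec]
  module

theorem tv_zero_left (c : F) : tv (0 : Fin m ⊕ Fin m → F) c = 1 := by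
  apply sp_ext
  intro x
  rw [tv_val, tv_apply]
  show _ = (1 : Matrix (Fin m ⊕ Fin m) (Fin m ⊕ Fin m) F) *ᵥ x
  rw [Matrix.one_mulVec, smul_zero, add_zero]

/-- a normal subgroup of `Sp` moving some point is transitive on points. -/
theorem normal_transitive (hm : 1 ≤ m) (N : Subgroup (Matrix.symplecticGroup (Fin m) F)) [hN : N.Normal]
    (n : Matrix.symplecticGroup (Fin m) F) (hn : n ∈ N) (u : Fin m ⊕ Fin m → F)
    (hu : ∀ c : F, (n : Matrix (Fin m ⊕ Fin m) (Fin m ⊕ Fin m) F) *ᵥ u ≠ c • u) :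
    ∀ w : Fin m ⊕ Fin m → F, w ≠ 0 → ∃ n' ∈ N, ∃ c : F, c ≠ 0 ∧
      (n' : Matrix (Fin m ⊕ Fin m) (Fin m ⊕ Fin m) F) *ᵥ u = c • w := by
  classical
  have hu0 : u ≠ 0 := by
    intro h
    apply hu 0
    rw [h, Matrix.mulVec_zero, smul_zero]
  have hN' : (N.map (spEquiv m F).toMonoidHom).Normal :=
    hN.map _ (spEquiv m F).surjective
  have hprim := sp_preprimitive (F := F) m hm
  have hB : MulAction.IsBlock ↥(Cfsg.spGL m F)
      (MulAction.orbit ↥(N.map (spEquiv m F).toMonoidHom) (Projectivization.mk F u hu0)) :=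
    MulAction.IsBlock.orbit_of_normal _
  have hmem : ∀ n₀ : Matrix.symplecticGroup (Fin m) F, n₀ ∈ N →
      Projectivization.mk F ((n₀ : Matrix (Fin m ⊕ Fin m) (Fin m ⊕ Fin m) F) *ᵥ u)
          (mulVec_ne_zero' n₀ u hu0)
        ∈ MulAction.orbit ↥(N.map (spEquiv m F).toMonoidHom) (Projectivization.mk F u hu0) := by
    intro n₀ hn₀
    have h1 := MulAction.mem_orbit (Projectivization.mk F u hu0)
      (⟨spEquiv m F n₀, Subgroup.mem_map_of_mem _ hn₀⟩ : ↥(N.map (spEquiv m F).toMonoidHom))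
    exact h1
  rcases hprim.isTrivialBlock_of_isBlock hB with hsub | huniv
  · exfalso
    have h1 := hsub (hmem n hn) (MulAction.mem_orbit_self _)
    rw [Projectivization.mk_eq_mk_iff'] at h1
    obtain ⟨c, hc⟩ := h1
    exact hu c hc.symm
  · intro w hw
    have h1 : Projectivization.mk F w hw
        ∈ MulAction.orbit ↥(N.map (spEquiv m F).toMonoidHom) (Projectivization.mk F u hu0) := by
      rw [huniv]
      exact Set.mem_univ _
    obtain ⟨⟨g, hg⟩, hgw⟩ := h1
    obtain ⟨n₀, hn₀, rfl⟩ := hg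
    have h2 : Projectivization.mk F ((n₀ : Matrix (Fin m ⊕ Fin m) (Fin m ⊕ Fin m) F) *ᵥ u)
        (mulVec_ne_zero' n₀ u hu0) = Projectivization.mk F w hw := hgw
    rw [Projectivization.mk_eq_mk_iff'] at h2
    obtain ⟨c, hc⟩ := h2
    refine ⟨n₀, hn₀, c, ?_, hc.symm⟩
    intro h0
    rw [h0, zero_smul] at hc
    exact mulVec_ne_zero' n₀ u hu0 hc.symm

/-- Iwasawa: a normal subgroup of a perfect `Sp_2m(F)` not inside the centre is everything. -/
theorem normal_eq_top (hm : 1 ≤ m)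
    (hperf : commutator (Matrix.symplecticGroup (Fin m) F) = ⊤)
    (N : Subgroup (Matrix.symplecticGroup (Fin m) F)) [hN : N.Normal]
    (hNZ : ¬ N ≤ Subgroup.center (Matrix.symplecticGroup (Fin m) F)) : N = ⊤ := by
  classical
  obtain ⟨n, hn, hnZ⟩ : ∃ n ∈ N, n ∉ Subgroup.center (Matrix.symplecticGroup (Fin m) F) := by
    by_contra hcon
    push Not at hcon
    exact hNZ hcon
  obtain ⟨u, hu⟩ : ∃ u : Fin m ⊕ Fin m → F, ∀ c : F,
      (n : Matrix (Fin m ⊕ Fin m) (Fin m ⊕ Fin m) F) *ᵥ u ≠ c • u := by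
    by_contra hcon
    push Not at hcon
    exact hnZ ((mem_center_sp_iff hm n).mpr (scalar_of_eigen hm n hcon))
  have htrans := normal_transitive hm N n hn u hu
  have h1 : ∀ (w : Fin m ⊕ Fin m → F) (c : F), ∃ c' : F,
      QuotientGroup.mk' N (tv w c) = QuotientGroup.mk' N (tv u c') := by
    intro w c
    by_cases hw : w = 0
    · refine ⟨0, ?_⟩
      rw [hw, tv_zero_left, tv_zero_right]
    · obtain ⟨n', hn', c₀, hc₀, hn'u⟩ := htrans w hw
      refine ⟨c₀⁻¹ * c₀⁻¹ * c, ?_⟩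
      have h2 : w = c₀⁻¹ • ((n' : Matrix (Fin m ⊕ Fin m) (Fin m ⊕ Fin m) F) *ᵥ u) := by
        rw [hn'u, smul_smul, inv_mul_cancel₀ hc₀, one_smul]
      have h3 : tv w c = n' * tv u (c₀⁻¹ * c₀⁻¹ * c) * n'⁻¹ := by
        rw [tv_conj, mul_inv_cancel_right, ← tv_smul, ← h2]
      have h4 : QuotientGroup.mk' N n' = 1 := (QuotientGroup.eq_one_iff n').mpr hn'
      rw [h3, map_mul, map_mul, map_inv, h4, one_mul, inv_one, mul_one]
  obtain ⟨C, hC⟩ : ∃ C : Subgroup (Matrix.symplecticGroup (Fin m) F ⧸ N),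
      C = Subgroup.closure (Set.range (fun c : F => QuotientGroup.mk' N (tv u c))) := ⟨_, rfl⟩
  have h2 : ∀ g : Matrix.symplecticGroup (Fin m) F, QuotientGroup.mk' N g ∈ C := by
    have h3 : Subgroup.closure {A : Matrix.symplecticGroup (Fin m) F |
        ∃ (w : Fin m ⊕ Fin m → F) (c : F),
          (A : Matrix (Fin m ⊕ Fin m) (Fin m ⊕ Fin m) F) = Cfsg.sympTransvection m w c}
        ≤ C.comap (QuotientGroup.mk' N) := by
      rw [Subgroup.closure_le]
      rintro A ⟨w, c, hA⟩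
      have hAtv : A = tv w c := Subtype.ext hA
      obtain ⟨c', hc'⟩ := h1 w c
      show QuotientGroup.mk' N A ∈ C
      rw [hAtv, hc', hC]
      exact Subgroup.subset_closure ⟨c', rfl⟩
    intro g
    rw [Cfsg.Agent.S0765.result m] at h3
    exact h3 (Subgroup.mem_top g)
  have hgen : ∀ c c' : F, QuotientGroup.mk' N (tv u c) * QuotientGroup.mk' N (tv u c')
      = QuotientGroup.mk' N (tv u c') * QuotientGroup.mk' N (tv u c) := by
    intro c c'
    rw [← map_mul, ← map_mul, tv_add, tv_add, add_comm]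
  have h3 : C ≤ Subgroup.centralizer (Set.range (fun c : F => QuotientGroup.mk' N (tv u c))) := by
    rw [hC, Subgroup.closure_le]
    rintro _ ⟨c, rfl⟩
    rw [SetLike.mem_coe, Subgroup.mem_centralizer_iff]
    rintro _ ⟨c', rfl⟩
    exact hgen c' c
  have h4 : C ≤ Subgroup.centralizer (C : Set (Matrix.symplecticGroup (Fin m) F ⧸ N)) := by
    conv_lhs => rw [hC]
    rw [Subgroup.closure_le]
    rintro _ ⟨c, rfl⟩
    rw [SetLike.mem_coe, Subgroup.mem_centralizer_iff]
    intro h hh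
    have h5 := h3 hh
    rw [Subgroup.mem_centralizer_iff] at h5
    exact (h5 _ ⟨c, rfl⟩).symm
  have h5 : commutator (Matrix.symplecticGroup (Fin m) F) ≤ N := by
    rw [commutator_def, Subgroup.commutator_le]
    intro g _ h _
    rw [← QuotientGroup.eq_one_iff (N := N), commutatorElement_def]
    have h6 := h4 (h2 g)
    rw [Subgroup.mem_centralizer_iff] at h6
    have h7 := h6 _ (h2 h)
    show QuotientGroup.mk' N (g * h * g⁻¹ * h⁻¹) = 1
    rw [map_mul, map_mul, map_mul, map_inv, map_inv, ← h7, mul_inv_cancel_right, mul_inv_cancel]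
  rw [eq_top_iff, ← hperf]
  exact h5

theorem tv_notMem_center (hm : 1 ≤ m) :
    tv (Pi.single (Sum.inl ⟨0, hm⟩) 1 : Fin m ⊕ Fin m → F) 1
      ∉ Subgroup.center (Matrix.symplecticGroup (Fin m) F) := by
  classical
  intro h
  rw [mem_center_sp_iff hm, tv_val] at h
  have h1 : Cfsg.sympTransvection m (Pi.single (Sum.inl ⟨0, hm⟩) 1 : Fin m ⊕ Fin m → F) 1
      *ᵥ Pi.single (Sum.inr ⟨0, hm⟩) 1
      = Pi.single (Sum.inr ⟨0, hm⟩) 1 + Pi.single (Sum.inl ⟨0, hm⟩) 1 := by
    rw [tv_apply, sf_e_right]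
    simp
  rcases h with h | h
  · rw [h, Matrix.one_mulVec] at h1
    have h2 := congrFun h1 (Sum.inl ⟨0, hm⟩)
    simp at h2
  · rw [h, Matrix.neg_mulVec, Matrix.one_mulVec] at h1
    have h2 := congrFun h1 (Sum.inl ⟨0, hm⟩)
    simp at h2

/-- `PSp_2m(F)` is simple whenever `Sp_2m(F)` is perfect (`m ≥ 1`). -/
theorem psp_simple (hm : 1 ≤ m)
    (hperf : commutator (Matrix.symplecticGroup (Fin m) F) = ⊤) :
    IsSimpleGroup (Matrix.symplecticGroup (Fin m) F ⧸
      Subgroup.center (Matrix.symplecticGroup (Fin m) F)) := by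
  classical
  have hnt : Nontrivial (Matrix.symplecticGroup (Fin m) F ⧸
      Subgroup.center (Matrix.symplecticGroup (Fin m) F)) := by
    refine ⟨⟨QuotientGroup.mk' _ (tv (Pi.single (Sum.inl ⟨0, hm⟩) 1) 1), 1, ?_⟩⟩
    intro h
    exact tv_notMem_center hm ((QuotientGroup.eq_one_iff _).mp h)
  refine { toNontrivial := hnt, eq_bot_or_eq_top_of_normal := ?_ }
  intro H hH
  have hcomap : (H.comap (QuotientGroup.mk' (Subgroup.center (Matrix.symplecticGroup (Fin m) F)))).Normal :=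
    hH.comap _
  by_cases hle : H.comap (QuotientGroup.mk' (Subgroup.center (Matrix.symplecticGroup (Fin m) F)))
      ≤ Subgroup.center (Matrix.symplecticGroup (Fin m) F)
  · left
    rw [eq_bot_iff]
    intro h hh
    obtain ⟨g, rfl⟩ := QuotientGroup.mk'_surjective _ h
    rw [Subgroup.mem_bot]
    exact (QuotientGroup.eq_one_iff g).mpr (hle hh)
  · right
    have htop := normal_eq_top hm hperf _ hle
    rw [eq_top_iff]
    intro h _
    obtain ⟨g, rfl⟩ := QuotientGroup.mk'_surjective _ h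
    have h1 : g ∈ H.comap (QuotientGroup.mk' (Subgroup.center (Matrix.symplecticGroup (Fin m) F))) := by
      rw [htop]
      exact Subgroup.mem_top g
    exact h1

end Simple

end Cfsg.Agent.Lib.helper4
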