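import Mathlib
import Cfsg.Agent.Lib.helper4.SpSimple

set_option autoImplicit false

/-!
# Symplectic transvections: rank one characterisation, vector stabilisers

`rank_tv_sub_one`, `rank_one_symplectic_is_tv`, `tv_eq_tv`, `card_stab_vec`,
`mem_centralizer_tv_iff` (char 2), `card_centralizer_tv` (char 2).
-/

namespace Cfsg.Agent.Lib.helper4

open Matrix
open Cfsg.Agent.S0776 Cfsg.Agent.S0766 Cfsg.Agent.S0765

section RankOne

variable {F : Type*} [Field F] {m : ℕ}

theorem rank_tv_sub_one (u : Fin m ⊕ Fin m → F) (c : F) (hu : u ≠ 0) (hc : c ≠ 0) :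
    (((tv u c : Matrix.symplecticGroup (Fin m) F) : Matrix (Fin m ⊕ Fin m) (Fin m ⊕ Fin m) F)
      - 1).rank = 1 := by
  have h0 : ((tv u c : Matrix.symplecticGroup (Fin m) F) : Matrix (Fin m ⊕ Fin m) (Fin m ⊕ Fin m) F)
      - 1 = Matrix.vecMulVec (c • u) (J (Fin m) F *ᵥ u) := by
    rw [tv_val]
    unfold Cfsg.sympTransvection
    rw [add_sub_cancel_left, Matrix.smul_vecMulVec]
  apply le_antisymm
  · rw [h0]
    exact Matrix.rank_vecMulVec_le _ _
  · rw [Nat.one_le_iff_ne_zero]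
    intro h
    have h1 : LinearMap.range (((tv u c : Matrix.symplecticGroup (Fin m) F) :
        Matrix (Fin m ⊕ Fin m) (Fin m ⊕ Fin m) F) - 1).mulVecLin = ⊥ :=
      Submodule.finrank_eq_zero.mp h
    have h2 := LinearMap.range_eq_bot.mp h1
    obtain ⟨x, hx⟩ := exists_sf_eq_one u hu
    have h3 := congrArg (fun f => f x) h2
    simp only [Matrix.mulVecLin_apply, LinearMap.zero_apply, Matrix.sub_mulVec, Matrix.one_mulVec,
      tv_val, tv_apply, hx, mul_one, add_sub_cancel_left] at h3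
    exact hu ((smul_eq_zero.mp h3).resolve_left hc)

/-- a symplectic matrix `t` with `t - 1` of rank one is a symplectic transvection. -/
theorem rank_one_symplectic_is_tv (t : Matrix.symplecticGroup (Fin m) F)
    (ht : ((t : Matrix (Fin m ⊕ Fin m) (Fin m ⊕ Fin m) F) - 1).rank = 1) :
    ∃ (u : Fin m ⊕ Fin m → F) (c : F), u ≠ 0 ∧ c ≠ 0 ∧ t = tv u c := by
  classical
  have hr : Module.finrank F (LinearMap.range
      ((t : Matrix (Fin m ⊕ Fin m) (Fin m ⊕ Fin m) F) - 1).mulVecLin) = 1 := ht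
  obtain ⟨x', hx'0, hx'⟩ := finrank_eq_one_iff'.mp hr
  obtain ⟨x, hx⟩ : ∃ x : Fin m ⊕ Fin m → F, x = x'.1 := ⟨_, rfl⟩
  have hx0 : x ≠ 0 := by
    intro h
    apply hx'0
    apply Subtype.ext
    rw [← hx, h]
    rfl
  have hℓ : ∀ v : Fin m ⊕ Fin m → F, ∃ a : F,
      (t : Matrix (Fin m ⊕ Fin m) (Fin m ⊕ Fin m) F) *ᵥ v = v + a • x := by
    intro v
    obtain ⟨a, ha⟩ := hx' ⟨((t : Matrix (Fin m ⊕ Fin m) (Fin m ⊕ Fin m) F) - 1).mulVecLin v,
      LinearMap.mem_range_self _ v⟩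
    refine ⟨a, ?_⟩
    have h1 := congrArg Subtype.val ha
    simp only [Submodule.coe_smul, Matrix.mulVecLin_apply, Matrix.sub_mulVec,
      Matrix.one_mulVec] at h1
    rw [hx, h1]
    abel
  choose ℓ hℓ' using hℓ
  obtain ⟨u₀, hu₀⟩ := exists_sf_eq_one x hx0
  have hkey : ∀ v, ℓ v = ℓ u₀ * Cfsg.sympForm m F v x := by
    intro v
    have h1 := sp_pres t u₀ v
    rw [hℓ' u₀, hℓ' v, sf_add_left, sf_add_right, sf_add_right, sf_smul_left, sf_smul_left,
      sf_smul_right, sf_smul_right, sf_self, hu₀] at h1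
    have h2 : Cfsg.sympForm m F x v = - Cfsg.sympForm m F v x := sf_anti x v
    rw [h2] at h1
    linear_combination h1
  refine ⟨x, ℓ u₀, hx0, ?_, ?_⟩
  · intro h0
    have h1 : t = 1 := by
      apply sp_ext
      intro v
      rw [hℓ' v, hkey v, h0, zero_mul, zero_smul, add_zero]
      exact (Matrix.one_mulVec v).symm
    rw [h1] at ht
    simp at ht
  · apply sp_ext
    intro v
    rw [tv_val, tv_apply, hℓ' v, hkey v]

theorem tv_eq_tv (u w : Fin m ⊕ Fin m → F) (c : F) (hu : u ≠ 0) (hc : c ≠ 0)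
    (h : tv w c = tv u c) : w = u ∨ w = -u := by
  have h1 : ∀ x, Cfsg.sympForm m F x w • w = Cfsg.sympForm m F x u • u := by
    intro x
    have h2 := congrArg (fun A : Matrix.symplecticGroup (Fin m) F =>
      (A : Matrix (Fin m ⊕ Fin m) (Fin m ⊕ Fin m) F) *ᵥ x) h
    simp only [tv_val, tv_apply] at h2
    have h3 := add_left_cancel h2
    rw [mul_smul, mul_smul] at h3
    exact smul_right_injective _ hc h3
  obtain ⟨x₁, hx₁⟩ := exists_sf_eq_one u hu
  have h2 := h1 x₁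
  rw [hx₁, one_smul] at h2
  have hw : w ≠ 0 := by
    intro h0
    apply hu
    rw [← h2, h0, smul_zero]
  obtain ⟨x₂, hx₂⟩ := exists_sf_eq_one w hw
  have h3 := h1 x₂
  rw [hx₂, one_smul, ← h2, sf_smul_right, hx₂, mul_one, smul_smul] at h3
  have h4 : (Cfsg.sympForm m F x₁ w * Cfsg.sympForm m F x₁ w - 1) • w = 0 := by
    rw [sub_smul, one_smul, ← h3, sub_self]
  have h5 : Cfsg.sympForm m F x₁ w * Cfsg.sympForm m F x₁ w = 1 :=
    sub_eq_zero.mp ((smul_eq_zero.mp h4).resolve_right hw)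
  rcases mul_self_eq_one_iff.mp h5 with h6 | h6
  · left
    rw [← h2, h6, one_smul]
  · right
    rw [← h2, h6, neg_smul, one_smul, neg_neg]

theorem mem_centralizer_tv_iff [CharP F 2] (u : Fin m ⊕ Fin m → F) (c : F) (hu : u ≠ 0) (hc : c ≠ 0)
    (g : Matrix.symplecticGroup (Fin m) F) :
    g ∈ Subgroup.centralizer ({tv u c} : Set (Matrix.symplecticGroup (Fin m) F)) ↔
      (g : Matrix (Fin m ⊕ Fin m) (Fin m ⊕ Fin m) F) *ᵥ u = u := by
  rw [Subgroup.mem_centralizer_singleton_iff, tv_conj]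
  constructor
  · intro h
    have h1 := mul_right_cancel h
    rcases tv_eq_tv u _ c hu hc h1 with h2 | h2
    · exact h2
    · rw [h2]
      funext i
      exact CharTwo.neg_eq (u i)
  · intro h
    rw [h]

end RankOne

section Count

variable {F : Type*} [Field F] [Fintype F] {m : ℕ}

theorem card_stab_vec {q : ℕ} (hF : Fintype.card F = q) (u : Fin m ⊕ Fin m → F) (hu : u ≠ 0) :
    Nat.card (Matrix.symplecticGroup (Fin m) F)
      = (q ^ (2 * m) - 1) * Nat.card {g : Matrix.symplecticGroup (Fin m) F //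
          (g : Matrix (Fin m ⊕ Fin m) (Fin m ⊕ Fin m) F) *ᵥ u = u} := by
  classical
  obtain ⟨φ, hφ⟩ : ∃ φ : Matrix.symplecticGroup (Fin m) F → {w : Fin m ⊕ Fin m → F // w ≠ 0},
      ∀ g, (φ g).1 = (g : Matrix (Fin m ⊕ Fin m) (Fin m ⊕ Fin m) F) *ᵥ u :=
    ⟨fun g => ⟨_, mulVec_ne_zero' g u hu⟩, fun g => rfl⟩
  have hfib : ∀ w, Nat.card {g // φ g = w}
      = Nat.card {g : Matrix.symplecticGroup (Fin m) F //
          (g : Matrix (Fin m ⊕ Fin m) (Fin m ⊕ Fin m) F) *ᵥ u = u} := by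
    intro w
    obtain ⟨A, hA⟩ := Cfsg.Agent.S0271.result m u w.1 hu w.2
    apply Nat.card_congr
    refine { toFun := fun g => ⟨A⁻¹ * g.1, ?_⟩
             invFun := fun s => ⟨A * s.1, ?_⟩
             left_inv := ?_
             right_inv := ?_ }
    · have h1 : (g.1 : Matrix (Fin m ⊕ Fin m) (Fin m ⊕ Fin m) F) *ᵥ u = w.1 := by
        rw [← hφ, g.2]
      rw [val_mul, ← Matrix.mulVec_mulVec, h1, ← hA]
      exact inv_mulVec_mulVec A u
    · apply Subtype.ext
      rw [hφ, val_mul, ← Matrix.mulVec_mulVec, s.2]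
      exact hA
    · intro g
      apply Subtype.ext
      show A * (A⁻¹ * g.1) = g.1
      rw [mul_inv_cancel_left]
    · intro s
      apply Subtype.ext
      show A⁻¹ * (A * s.1) = s.1
      rw [inv_mul_cancel_left]
  rw [card_fiber_count φ _ hfib]
  congr 1
  rw [Nat.card_eq_fintype_card, Fintype.card_subtype_compl, Fintype.card_subtype_eq,
    Fintype.card_fun, hF]
  simp
  ring_nf

/-- in characteristic 2 the centraliser of a symplectic transvection has order
`q^(2m-1) |Sp_(2m-2)(q)|`. -/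
theorem card_centralizer_tv [CharP F 2] {q : ℕ} (hF : Fintype.card F = q) (hm : 1 ≤ m)
    (t : Matrix.symplecticGroup (Fin m) F)
    (ht : ((t : Matrix (Fin m ⊕ Fin m) (Fin m ⊕ Fin m) F) - 1).rank = 1) :
    Nat.card ↥(Subgroup.centralizer ({t} : Set ↥(Matrix.symplecticGroup (Fin m) F)))
      = q ^ (2 * m - 1) * (q ^ ((m - 1) ^ 2) * ∏ i : Fin (m - 1), (q ^ (2 * ((i : ℕ) + 1)) - 1)) := by
  classical
  obtain ⟨u, c, hu, hc, rfl⟩ := rank_one_symplectic_is_tv t ht
  have h1 : Nat.card ↥(Subgroup.centralizer ({tv u c} : Set ↥(Matrix.symplecticGroup (Fin m) F)))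
      = Nat.card {g : Matrix.symplecticGroup (Fin m) F //
          (g : Matrix (Fin m ⊕ Fin m) (Fin m ⊕ Fin m) F) *ᵥ u = u} :=
    Nat.card_congr (Equiv.subtypeEquivRight (fun g => mem_centralizer_tv_iff u c hu hc g))
  have h2 := card_stab_vec hF u hu
  rw [card_sp hF m] at h2
  obtain ⟨m', rfl⟩ : ∃ m', m = m' + 1 := ⟨m - 1, by omega⟩
  rw [Finset.prod_range_succ] at h2
  have hq : 1 < q := by
    rw [← hF]
    exact Fintype.one_lt_card
  have hpos : 0 < q ^ (2 * (m' + 1)) - 1 :=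
    Nat.sub_pos_of_lt (Nat.one_lt_pow (by omega) hq)
  have h3 : q ^ ((m' + 1) ^ 2) * ((∏ i ∈ Finset.range m', (q ^ (2 * (i + 1)) - 1))
        * (q ^ (2 * (m' + 1)) - 1))
      = (q ^ (2 * (m' + 1)) - 1) * (q ^ (2 * (m' + 1) - 1)
        * (q ^ (m' ^ 2) * ∏ i ∈ Finset.range m', (q ^ (2 * (i + 1)) - 1))) := by
    have h4 : 2 * (m' + 1) - 1 = 2 * m' + 1 := by omega
    rw [h4]
    generalize q ^ (2 * (m' + 1)) - 1 = X
    generalize ∏ i ∈ Finset.range m', (q ^ (2 * (i + 1)) - 1) = P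
    ring
  rw [h1, Nat.add_sub_cancel, ← Finset.prod_range (fun i => q ^ (2 * (i + 1)) - 1)]
  exact Nat.eq_of_mul_eq_mul_left hpos (h2.symm.trans h3)

end Count

end Cfsg.Agent.Lib.helper4
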