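import Mathlib
import Cfsg.Agent.Lib.helper4.SpSimple

set_option autoImplicit false

/-!
# The diagonal torus of `Sp_2m(F)` and its normaliser (monomial symplectic matrices)
-/

namespace Cfsg.Agent.Lib.helper4

open Matrix
open Cfsg.Agent.S0776 Cfsg.Agent.S0766 Cfsg.Agent.S0765

section Torus

variable {F : Type*} [Field F] {m : ℕ}

/-- `g` fixes every coordinate axis. -/
def IsDiag (g : Matrix.symplecticGroup (Fin m) F) : Prop :=
  ∀ j : Fin m ⊕ Fin m, ∃ c : F,
    (g : Matrix (Fin m ⊕ Fin m) (Fin m ⊕ Fin m) F) *ᵥ Pi.single j 1 = c • Pi.single j 1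

/-- `g` permutes the coordinate axes. -/
def IsMono (g : Matrix.symplecticGroup (Fin m) F) : Prop :=
  ∀ j : Fin m ⊕ Fin m, ∃ (k : Fin m ⊕ Fin m) (c : F),
    (g : Matrix (Fin m ⊕ Fin m) (Fin m ⊕ Fin m) F) *ᵥ Pi.single j 1 = c • Pi.single k 1

theorem smul_single_inj (k k' : Fin m ⊕ Fin m) (c c' : F) (hc : c ≠ 0)
    (h : c • (Pi.single k 1 : Fin m ⊕ Fin m → F) = c' • Pi.single k' 1) : k = k' := by
  classical
  by_contra hne
  have h1 := congrFun h k
  simp [hne] at h1
  exact hc h1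

theorem mem_torus_iff (g : Matrix.symplecticGroup (Fin m) F) :
    g ∈ (⨅ i : Fin m ⊕ Fin m, Cfsg.stabilizing (Cfsg.spToMat m F)
      ((Submodule.span F {(Pi.single i (1 : F) : Fin m ⊕ Fin m → F)} :
        Submodule F (Fin m ⊕ Fin m → F)) : Set (Fin m ⊕ Fin m → F))) ↔ IsDiag g := by
  classical
  rw [Subgroup.mem_iInf]
  apply forall_congr'
  intro i
  constructor
  · intro h
    have h1 : (g : Matrix (Fin m ⊕ Fin m) (Fin m ⊕ Fin m) F) *ᵥ Pi.single i 1
        ∈ Submodule.span F {(Pi.single i (1 : F) : Fin m ⊕ Fin m → F)} :=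
      (h (Pi.single i 1)).mp (Submodule.mem_span_singleton_self _)
    obtain ⟨a, ha⟩ := Submodule.mem_span_singleton.mp h1
    exact ⟨a, ha.symm⟩
  · rintro ⟨c, hc⟩
    have hc0 : c ≠ 0 := by
      intro h0
      rw [h0, zero_smul] at hc
      exact mulVec_ne_zero' g _ (single_ne_zero' i) hc
    intro v
    show v ∈ Submodule.span F {(Pi.single i (1 : F) : Fin m ⊕ Fin m → F)} ↔
      (g : Matrix (Fin m ⊕ Fin m) (Fin m ⊕ Fin m) F) *ᵥ v
        ∈ Submodule.span F {(Pi.single i (1 : F) : Fin m ⊕ Fin m → F)}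
    rw [Submodule.mem_span_singleton, Submodule.mem_span_singleton]
    constructor
    · rintro ⟨a, rfl⟩
      refine ⟨a * c, ?_⟩
      rw [Matrix.mulVec_smul, hc, smul_smul]
    · rintro ⟨a, ha⟩
      refine ⟨a / c, ?_⟩
      apply mulVec_injective g
      rw [Matrix.mulVec_smul, hc, smul_smul, div_mul_cancel₀ _ hc0, ha]

theorem mono_data (g : Matrix.symplecticGroup (Fin m) F) (hg : IsMono g) :
    ∃ (σ : Fin m ⊕ Fin m → Fin m ⊕ Fin m) (c : Fin m ⊕ Fin m → F),
      (∀ j, (g : Matrix (Fin m ⊕ Fin m) (Fin m ⊕ Fin m) F) *ᵥ Pi.single j 1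
        = c j • Pi.single (σ j) 1) ∧ (∀ j, c j ≠ 0) ∧ Function.Bijective σ := by
  classical
  choose σ c h using hg
  have hc0 : ∀ j, c j ≠ 0 := by
    intro j h0
    have h1 := h j
    rw [h0, zero_smul] at h1
    exact mulVec_ne_zero' g _ (single_ne_zero' j) h1
  refine ⟨σ, c, h, hc0, ?_⟩
  rw [← Finite.injective_iff_bijective]
  intro j j' hjj
  by_contra hne
  have h1 : (g : Matrix (Fin m ⊕ Fin m) (Fin m ⊕ Fin m) F) *ᵥ
      (c j' • Pi.single j 1 - c j • Pi.single j' 1) = 0 := by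
    rw [Matrix.mulVec_sub, Matrix.mulVec_smul, Matrix.mulVec_smul, h j, h j', hjj, smul_smul,
      smul_smul, mul_comm, sub_self]
  have h2 : c j' • (Pi.single j 1 : Fin m ⊕ Fin m → F) - c j • Pi.single j' 1 = 0 := by
    apply mulVec_injective g
    rw [h1, Matrix.mulVec_zero]
  have h3 := congrFun h2 j
  simp [hne] at h3
  exact hc0 j' h3

theorem isMono_inv (g : Matrix.symplecticGroup (Fin m) F) (hg : IsMono g) : IsMono g⁻¹ := by
  obtain ⟨σ, c, h, hc0, hbij⟩ := mono_data g hg
  intro k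
  obtain ⟨j, rfl⟩ := hbij.2 k
  refine ⟨j, (c j)⁻¹, ?_⟩
  have h1 := inv_mulVec_mulVec g (Pi.single j (1 : F))
  rw [h j, Matrix.mulVec_smul] at h1
  rw [← h1, smul_smul, inv_mul_cancel₀ (hc0 j), one_smul]

theorem isDiag_conj (g s : Matrix.symplecticGroup (Fin m) F) (hg : IsMono g) (hs : IsDiag s) :
    IsDiag (g⁻¹ * s * g) := by
  intro j
  obtain ⟨k, c, hk⟩ := hg j
  obtain ⟨d, hd⟩ := hs k
  refine ⟨d, ?_⟩
  rw [val_mul, val_mul, ← Matrix.mulVec_mulVec, ← Matrix.mulVec_mulVec, hk, Matrix.mulVec_smul, hd,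
    smul_comm, Matrix.mulVec_smul, ← hk, inv_mulVec_mulVec]

theorem J_apply' (a b : Fin m ⊕ Fin m) :
    J (Fin m) F a b = if b = a.swap then Sum.elim (fun _ => (-1 : F)) (fun _ => 1) a else 0 := by
  rcases a with a | a <;> rcases b with b | b <;>
    simp [Matrix.J, Matrix.one_apply, eq_comm] <;> split_ifs <;> simp

theorem diag_mem (d : Fin m ⊕ Fin m → F) (hd : ∀ i, d (Sum.inl i) * d (Sum.inr i) = 1) :
    Matrix.diagonal d ∈ Matrix.symplecticGroup (Fin m) F := by
  rw [SymplecticGroup.mem_iff', Matrix.diagonal_transpose]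
  ext a b
  rw [Matrix.mul_diagonal, Matrix.diagonal_mul, J_apply']
  split_ifs with h
  · subst h
    rcases a with a | a
    · simp only [Sum.swap_inl, Sum.elim_inl]
      linear_combination (-1 : F) * hd a
    · simp only [Sum.swap_inr, Sum.elim_inr]
      linear_combination hd a
  · simp

theorem diag_isDiag (d : Fin m ⊕ Fin m → F) (hd : ∀ i, d (Sum.inl i) * d (Sum.inr i) = 1) :
    IsDiag (⟨Matrix.diagonal d, diag_mem d hd⟩ : Matrix.symplecticGroup (Fin m) F) := by
  intro j
  refine ⟨d j, ?_⟩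
  show Matrix.diagonal d *ᵥ Pi.single j 1 = d j • Pi.single j 1
  rw [Matrix.diagonal_mulVec_single, mul_one]
  funext x
  simp [Pi.single_apply]

theorem exists_sep (a : F) (ha0 : a ≠ 0) (ha1 : a * a ≠ 1) (k l : Fin m ⊕ Fin m) (hkl : l ≠ k) :
    ∃ d : Fin m ⊕ Fin m → F, (∀ i, d (Sum.inl i) * d (Sum.inr i) = 1) ∧ d k = a ∧ d l ≠ a := by
  classical
  refine ⟨fun x => if x = k then a else if x = k.swap then a⁻¹ else 1, ?_, ?_, ?_⟩
  · intro i
    by_cases h1 : k = Sum.inl i
    · subst h1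
      simp [ha0]
    · by_cases h2 : k = Sum.inr i
      · subst h2
        simp [ha0]
      · have h3 : Sum.inl i ≠ k.swap := by
          intro h
          apply h2
          rw [← Sum.swap_swap k, ← h]
          rfl
        have h4 : Sum.inr i ≠ k.swap := by
          intro h
          apply h1
          rw [← Sum.swap_swap k, ← h]
          rfl
        simp [Ne.symm h1, Ne.symm h2, h3, h4]
  · simp
  · simp only [if_neg hkl]
    split_ifs
    · intro h
      apply ha1
      calc a * a = a⁻¹ * a := by rw [h]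
        _ = 1 := inv_mul_cancel₀ ha0
    · intro h
      apply ha1
      rw [← h, one_mul]

theorem isMono_of_normalizes (a : F) (ha0 : a ≠ 0) (ha1 : a * a ≠ 1)
    (g : Matrix.symplecticGroup (Fin m) F)
    (h : ∀ t : Matrix.symplecticGroup (Fin m) F, IsDiag t → IsDiag (g⁻¹ * t * g)) : IsMono g := by
  classical
  intro j
  obtain ⟨v, hv⟩ : ∃ v, v = (g : Matrix (Fin m ⊕ Fin m) (Fin m ⊕ Fin m) F) *ᵥ Pi.single j 1 :=
    ⟨_, rfl⟩
  have hv0 : v ≠ 0 := by
    rw [hv]
    exact mulVec_ne_zero' g _ (single_ne_zero' j)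
  obtain ⟨k, hk⟩ : ∃ k, v k ≠ 0 := by
    by_contra hcon
    push Not at hcon
    exact hv0 (funext hcon)
  refine ⟨k, v k, ?_⟩
  rw [← hv]
  funext l
  by_cases hlk : l = k
  · subst hlk
    simp
  · have hvl : v l = 0 := by
      by_contra hvl
      obtain ⟨d, hd, hdk, hdl⟩ := exists_sep a ha0 ha1 k l hlk
      obtain ⟨c, hc⟩ := h ⟨Matrix.diagonal d, diag_mem d hd⟩ (diag_isDiag d hd) j
      have h1 : Matrix.diagonal d *ᵥ v = c • v := by
        have h2 := congrArg (fun z => (g : Matrix (Fin m ⊕ Fin m) (Fin m ⊕ Fin m) F) *ᵥ z) hc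
        simp only [val_mul, ← Matrix.mulVec_mulVec] at h2
        rw [Matrix.mulVec_smul, ← hv] at h2
        have h3 : (g : Matrix (Fin m ⊕ Fin m) (Fin m ⊕ Fin m) F) *ᵥ
            (((g⁻¹ : Matrix.symplecticGroup (Fin m) F) :
              Matrix (Fin m ⊕ Fin m) (Fin m ⊕ Fin m) F) *ᵥ (Matrix.diagonal d *ᵥ v))
            = Matrix.diagonal d *ᵥ v := by
          have h4 := inv_mulVec_mulVec g⁻¹ (Matrix.diagonal d *ᵥ v)
          rw [inv_inv] at h4
          exact h4
        rw [← h3]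
        exact h2
      have h5 := congrFun h1 k
      have h6 := congrFun h1 l
      rw [Matrix.mulVec_diagonal, Pi.smul_apply, smul_eq_mul] at h5 h6
      have h7 : d k = c := mul_right_cancel₀ hk h5
      have h8 : d l = c := mul_right_cancel₀ hvl h6
      exact hdl (by rw [h8, ← h7, hdk])
    simp [hvl, hlk]

theorem mem_normalizer_iff_isMono (a : F) (ha0 : a ≠ 0) (ha1 : a * a ≠ 1)
    (g : Matrix.symplecticGroup (Fin m) F) :
    g ∈ Subgroup.normalizer ((⨅ i : Fin m ⊕ Fin m, Cfsg.stabilizing (Cfsg.spToMat m F)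
      ((Submodule.span F {(Pi.single i (1 : F) : Fin m ⊕ Fin m → F)} :
        Submodule F (Fin m ⊕ Fin m → F)) : Set (Fin m ⊕ Fin m → F)) :
          Subgroup (Matrix.symplecticGroup (Fin m) F)) : Set (Matrix.symplecticGroup (Fin m) F))
      ↔ IsMono g := by
  constructor
  · intro hg
    apply isMono_of_normalizes a ha0 ha1
    intro t ht
    have h1 := inv_mem hg
    have h2 := (h1 t).mp ((mem_torus_iff t).mpr ht)
    rw [inv_inv] at h2
    exact (mem_torus_iff _).mp h2
  · intro hg n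
    rw [SetLike.mem_coe, SetLike.mem_coe, mem_torus_iff, mem_torus_iff]
    constructor
    · intro hn
      have h1 := isDiag_conj g⁻¹ n (isMono_inv g hg) hn
      rw [inv_inv] at h1
      exact h1
    · intro hn
      have h1 := isDiag_conj g _ hg hn
      have h2 : g⁻¹ * (g * n * g⁻¹) * g = n := by group
      rw [h2] at h1
      exact h1

theorem card_centralizer_sumComm (m : ℕ) :
    Nat.card (Subgroup.centralizer
      {(Equiv.sumComm (Fin m) (Fin m) : Equiv.Perm (Fin m ⊕ Fin m))}) = 2 ^ m * Nat.factorial m := by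
  classical
  rcases Nat.eq_zero_or_pos m with rfl | hm
  · have : Subsingleton (Subgroup.centralizer
        {(Equiv.sumComm (Fin 0) (Fin 0) : Equiv.Perm (Fin 0 ⊕ Fin 0))}) :=
      ⟨fun a b => Subtype.ext (Equiv.ext (fun x => by rcases x with x | x <;> exact x.elim0))⟩
    rw [Nat.card_of_subsingleton (1 : Subgroup.centralizer
        {(Equiv.sumComm (Fin 0) (Fin 0) : Equiv.Perm (Fin 0 ⊕ Fin 0))})]
    simp
  · obtain ⟨τ, hτ⟩ : ∃ τ : Equiv.Perm (Fin m ⊕ Fin m), τ = Equiv.sumComm (Fin m) (Fin m) :=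
      ⟨_, rfl⟩
    rw [← hτ]
    have hτa : ∀ x, τ x = x.swap := by
      intro x
      rw [hτ]
      rfl
    have hτ2 : τ ^ 2 = 1 := by
      ext x
      rw [sq, Equiv.Perm.mul_apply, hτa, hτa, Sum.swap_swap]
      rfl
    have hτ1 : τ ≠ 1 := by
      intro h
      have h1 := congrArg (fun e : Equiv.Perm (Fin m ⊕ Fin m) => e (Sum.inl ⟨0, hm⟩)) h
      simp only [hτa, Sum.swap_inl, Equiv.Perm.one_apply] at h1
      exact Sum.inr_ne_inl h1
    have hord : orderOf τ = 2 := orderOf_eq_prime hτ2 hτ1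
    obtain ⟨n, hn⟩ := Equiv.Perm.cycleType_prime_order (σ := τ) (by rw [hord]; exact Nat.prime_two)
    rw [hord] at hn
    have hsupp : τ.support = Finset.univ := by
      ext x
      rw [Equiv.Perm.mem_support, hτa]
      rcases x with x | x <;> simp
    have hsum := Equiv.Perm.sum_cycleType τ
    rw [hn, hsupp, Multiset.sum_replicate, Finset.card_univ, Fintype.card_sum, Fintype.card_fin,
      smul_eq_mul] at hsum
    have hnm : n + 1 = m := by omega
    rw [hnm] at hn
    have htf : (Multiset.replicate m 2).toFinset = {2} := by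
      ext x
      rw [Multiset.mem_toFinset, Multiset.mem_replicate, Finset.mem_singleton]
      constructor
      · exact fun h => h.2
      · exact fun h => ⟨by omega, h⟩
    rw [Equiv.Perm.nat_card_centralizer, hn, htf, Finset.prod_singleton,
      Multiset.count_replicate_self, Multiset.prod_replicate, Multiset.sum_replicate,
      Fintype.card_sum, Fintype.card_fin, smul_eq_mul]
    have h0 : m + m - m * 2 = 0 := by omega
    rw [h0, Nat.factorial_zero, one_mul]

theorem exists_sq_ne_one [Fintype F] (hF : 4 ≤ Fintype.card F) : ∃ a : F, a ≠ 0 ∧ a * a ≠ 1 := by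
  classical
  have hcard : ({0, 1, -1} : Finset F).card < (Finset.univ : Finset F).card := by
    rw [Finset.card_univ]
    exact lt_of_le_of_lt Finset.card_le_three (by omega)
  obtain ⟨a, -, ha⟩ := Finset.exists_mem_notMem_of_card_lt_card hcard
  simp only [Finset.mem_insert, Finset.mem_singleton, not_or] at ha
  refine ⟨a, ha.1, fun h => ?_⟩
  rcases mul_self_eq_one_iff.mp h with h | h
  · exact ha.2.1 h
  · exact ha.2.2 h

theorem exists_mono_of_perm (P : Equiv.Perm (Fin m ⊕ Fin m)) (hP : ∀ j, P j.swap = (P j).swap) :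
    ∃ (g₀ : Matrix.symplecticGroup (Fin m) F) (s : Fin m ⊕ Fin m → F), (∀ j, s j ≠ 0) ∧
      ∀ j, (g₀ : Matrix (Fin m ⊕ Fin m) (Fin m ⊕ Fin m) F) *ᵥ Pi.single j 1
        = s j • Pi.single (P j) 1 := by
  classical
  obtain ⟨s, hs⟩ : ∃ s : Fin m ⊕ Fin m → F, s = fun j => Sum.elim (fun _ => (1 : F))
      (fun i => Sum.elim (fun _ => (-1 : F)) (fun _ => 1) (P (Sum.inr i))) j := ⟨_, rfl⟩
  have hs0 : ∀ j, s j ≠ 0 := by
    intro j
    rw [hs]
    rcases j with i | i
    · simp
    · simp only [Sum.elim_inr]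
      rcases P (Sum.inr i) with x | x <;> simp
  have hss : ∀ j, s j * s j.swap * Sum.elim (fun _ => (-1 : F)) (fun _ => 1) (P j)
      = Sum.elim (fun _ => (-1 : F)) (fun _ => 1) j := by
    intro j
    rcases j with i | i
    · have h1 : P (Sum.inr i) = (P (Sum.inl i)).swap := hP (Sum.inl i)
      rw [hs]
      simp only [Sum.swap_inl, Sum.elim_inl, Sum.elim_inr]
      rw [h1]
      rcases P (Sum.inl i) with x | x <;> simp
    · rw [hs]
      simp only [Sum.swap_inr, Sum.elim_inl, Sum.elim_inr]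
      rcases P (Sum.inr i) with x | x <;> simp
  obtain ⟨M, hM⟩ : ∃ M : Matrix (Fin m ⊕ Fin m) (Fin m ⊕ Fin m) F,
      M = Matrix.of (fun a j => if a = P j then s j else 0) := ⟨_, rfl⟩
  have hcol : ∀ j, (fun a => M a j) = s j • Pi.single (P j) 1 := by
    intro j
    funext a
    rw [hM]
    simp [Pi.single_apply]
  have hMmem : M ∈ Matrix.symplecticGroup (Fin m) F := by
    rw [SymplecticGroup.mem_iff']
    ext j k
    rw [Cfsg.Agent.S0776.gram_apply, hcol, hcol, sf_smul_left, sf_smul_right, sf_single, J_apply',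
      J_apply']
    by_cases hk : k = j.swap
    · subst hk
      rw [if_pos (hP j), if_pos rfl]
      have h1 := hss j
      linear_combination h1
    · rw [if_neg hk, if_neg]
      · ring
      · intro h
        apply hk
        apply P.injective
        rw [h, hP]
  refine ⟨⟨M, hMmem⟩, s, hs0, ?_⟩
  intro j
  show M *ᵥ Pi.single j 1 = _
  rw [Matrix.mulVec_single_one]
  exact hcol j

theorem mono_perm (g : Matrix.symplecticGroup (Fin m) F) (hg : IsMono g) :
    ∃ P : Equiv.Perm (Fin m ⊕ Fin m), (∀ j, P j.swap = (P j).swap) ∧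
      ∀ j, ∃ c : F, c ≠ 0 ∧ (g : Matrix (Fin m ⊕ Fin m) (Fin m ⊕ Fin m) F) *ᵥ Pi.single j 1
        = c • Pi.single (P j) 1 := by
  classical
  obtain ⟨σ, c, h, hc0, hbij⟩ := mono_data g hg
  refine ⟨Equiv.ofBijective σ hbij, ?_, fun j => ⟨c j, hc0 j, h j⟩⟩
  intro j
  show σ j.swap = (σ j).swap
  have h1 := sp_pres g (Pi.single j 1) (Pi.single j.swap 1)
  rw [h j, h j.swap, sf_smul_left, sf_smul_right, sf_single, sf_single, J_apply', J_apply',
    if_pos rfl] at h1
  by_contra hne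
  rw [if_neg hne, mul_zero, mul_zero] at h1
  rcases j with i | i <;> simp at h1

theorem card_isDiag [Fintype F] {q : ℕ} (hF : Fintype.card F = q) (m : ℕ) :
    Nat.card {t : Matrix.symplecticGroup (Fin m) F // IsDiag t} = (q - 1) ^ m := by
  classical
  have hdiag : ∀ t : Matrix.symplecticGroup (Fin m) F, IsDiag t →
      ∃ d : Fin m ⊕ Fin m → F, (t : Matrix (Fin m ⊕ Fin m) (Fin m ⊕ Fin m) F) = Matrix.diagonal d ∧
        (∀ i, d (Sum.inl i) * d (Sum.inr i) = 1) := by
    intro t ht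
    choose d hd using ht
    have h1 : (t : Matrix (Fin m ⊕ Fin m) (Fin m ⊕ Fin m) F) = Matrix.diagonal d := by
      ext a j
      have h2 : (t : Matrix (Fin m ⊕ Fin m) (Fin m ⊕ Fin m) F) a j
          = (d j • (Pi.single j 1 : Fin m ⊕ Fin m → F)) a := by
        rw [← hd j, Matrix.mulVec_single_one]
        rfl
      rw [h2, Matrix.diagonal_apply]
      by_cases haj : a = j
      · subst haj
        simp
      · simp [haj]
    refine ⟨d, h1, fun i => ?_⟩
    have h3 := sp_pres t (Pi.single (Sum.inr i) 1) (Pi.single (Sum.inl i) 1)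
    rw [hd, hd, sf_smul_left, sf_smul_right, sf_e_right] at h3
    simp at h3
    linear_combination h3
  have hu : ∀ (u : Fin m → Fˣ) (i : Fin m),
      (Sum.elim (fun i => (u i : F)) (fun i => (((u i)⁻¹ : Fˣ) : F)) : Fin m ⊕ Fin m → F) (Sum.inl i)
        * (Sum.elim (fun i => (u i : F)) (fun i => (((u i)⁻¹ : Fˣ) : F)) : Fin m ⊕ Fin m → F) (Sum.inr i)
        = 1 := by
    intro u i
    simp
  have e : {t : Matrix.symplecticGroup (Fin m) F // IsDiag t} ≃ (Fin m → Fˣ) :=
    { toFun := fun t i => Units.mk0 ((t.1 : Matrix (Fin m ⊕ Fin m) (Fin m ⊕ Fin m) F)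
          (Sum.inl i) (Sum.inl i)) (by
        obtain ⟨d, h1, h2⟩ := hdiag t.1 t.2
        rw [h1, Matrix.diagonal_apply_eq]
        intro h0
        have h3 := h2 i
        rw [h0, zero_mul] at h3
        exact zero_ne_one h3)
      invFun := fun u => ⟨⟨Matrix.diagonal (Sum.elim (fun i => (u i : F))
          (fun i => (((u i)⁻¹ : Fˣ) : F))), diag_mem _ (hu u)⟩, diag_isDiag _ (hu u)⟩
      left_inv := fun t => by
        obtain ⟨d, h1, h2⟩ := hdiag t.1 t.2
        apply Subtype.ext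
        apply Subtype.ext
        have hd11 : ∀ i, (t.1 : Matrix (Fin m ⊕ Fin m) (Fin m ⊕ Fin m) F) (Sum.inl i) (Sum.inl i)
            = d (Sum.inl i) := by
          intro i
          rw [h1, Matrix.diagonal_apply_eq]
        refine Eq.trans ?_ h1.symm
        refine congrArg Matrix.diagonal ?_
        funext a
        rcases a with i | i
        · simp only [Sum.elim_inl, Units.val_mk0]
          exact hd11 i
        · simp only [Sum.elim_inr, Units.val_inv_eq_inv_val, Units.val_mk0]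
          rw [hd11]
          exact (eq_inv_of_mul_eq_one_right (h2 i)).symm
      right_inv := fun u => by
        funext i
        apply Units.ext
        simp }
  rw [Nat.card_congr e, Nat.card_eq_fintype_card, Fintype.card_fun, Fintype.card_units,
    Fintype.card_fin, hF]

theorem card_isMono [Fintype F] {q : ℕ} (hF : Fintype.card F = q) (m : ℕ) :
    Nat.card {g : Matrix.symplecticGroup (Fin m) F // IsMono g}
      = 2 ^ m * Nat.factorial m * (q - 1) ^ m := by
  classical
  have hcent : ∀ P : Equiv.Perm (Fin m ⊕ Fin m),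
      P ∈ Subgroup.centralizer {(Equiv.sumComm (Fin m) (Fin m) : Equiv.Perm (Fin m ⊕ Fin m))}
        ↔ ∀ j, P j.swap = (P j).swap := by
    intro P
    rw [Subgroup.mem_centralizer_singleton_iff]
    constructor
    · intro h j
      have h1 := congrArg (fun e : Equiv.Perm (Fin m ⊕ Fin m) => e j) h
      exact h1
    · intro h
      ext j
      exact h j
  have hex : ∀ g : {g : Matrix.symplecticGroup (Fin m) F // IsMono g},
      ∃ P : Subgroup.centralizer
        {(Equiv.sumComm (Fin m) (Fin m) : Equiv.Perm (Fin m ⊕ Fin m))},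
        ∀ j, ∃ c : F, c ≠ 0 ∧ (g.1 : Matrix (Fin m ⊕ Fin m) (Fin m ⊕ Fin m) F) *ᵥ Pi.single j 1
          = c • Pi.single (P.1 j) 1 := by
    intro g
    obtain ⟨P, hP, h⟩ := mono_perm g.1 g.2
    exact ⟨⟨P, (hcent P).mpr hP⟩, h⟩
  choose φ hφ using hex
  have hfib : ∀ P₀, Nat.card {g // φ g = P₀}
      = Nat.card {t : Matrix.symplecticGroup (Fin m) F // IsDiag t} := by
    intro P₀
    obtain ⟨g₀, s, hs0, hg₀⟩ := exists_mono_of_perm (F := F) P₀.1 ((hcent P₀.1).mp P₀.2)
    have hg₀inv : ∀ j, ((g₀⁻¹ : Matrix.symplecticGroup (Fin m) F) :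
        Matrix (Fin m ⊕ Fin m) (Fin m ⊕ Fin m) F) *ᵥ Pi.single (P₀.1 j) 1
        = (s j)⁻¹ • Pi.single j 1 := by
      intro j
      have h1 := inv_mulVec_mulVec g₀ (Pi.single j (1 : F))
      rw [hg₀ j, Matrix.mulVec_smul] at h1
      rw [← h1, smul_smul, inv_mul_cancel₀ (hs0 j), one_smul]
    have key : ∀ g : {g : Matrix.symplecticGroup (Fin m) F // IsMono g},
        (∀ j, ∃ c : F, (g.1 : Matrix (Fin m ⊕ Fin m) (Fin m ⊕ Fin m) F) *ᵥ Pi.single j 1
          = c • Pi.single (P₀.1 j) 1) → φ g = P₀ := by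
      intro g hg
      apply Subtype.ext
      apply Equiv.ext
      intro j
      obtain ⟨c, hc0, hc⟩ := hφ g j
      obtain ⟨c', hc'⟩ := hg j
      rw [hc'] at hc
      exact smul_single_inj _ _ _ _ hc0 hc.symm
    apply Nat.card_congr
    refine { toFun := fun g => ⟨g₀⁻¹ * g.1.1, ?_⟩
             invFun := fun t => ⟨⟨g₀ * t.1, ?_⟩, ?_⟩
             left_inv := ?_
             right_inv := ?_ }
    · intro j
      obtain ⟨c, hc0, hc⟩ := hφ g.1 j
      rw [g.2] at hc
      refine ⟨c * (s j)⁻¹, ?_⟩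
      rw [val_mul, ← Matrix.mulVec_mulVec, hc, Matrix.mulVec_smul, hg₀inv, smul_smul]
    · intro j
      obtain ⟨d, hd⟩ := t.2 j
      refine ⟨P₀.1 j, d * s j, ?_⟩
      rw [val_mul, ← Matrix.mulVec_mulVec, hd, Matrix.mulVec_smul, hg₀ j, smul_smul]
    · apply key
      intro j
      obtain ⟨d, hd⟩ := t.2 j
      refine ⟨d * s j, ?_⟩
      show ((g₀ * t.1 : Matrix.symplecticGroup (Fin m) F) :
        Matrix (Fin m ⊕ Fin m) (Fin m ⊕ Fin m) F) *ᵥ Pi.single j 1 = _
      rw [val_mul, ← Matrix.mulVec_mulVec, hd, Matrix.mulVec_smul, hg₀ j, smul_smul]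
    · intro g
      apply Subtype.ext
      apply Subtype.ext
      show g₀ * (g₀⁻¹ * g.1.1) = g.1.1
      rw [mul_inv_cancel_left]
    · intro t
      apply Subtype.ext
      show g₀⁻¹ * (g₀ * t.1) = t.1
      rw [inv_mul_cancel_left]
  rw [card_fiber_count φ _ hfib, card_centralizer_sumComm, card_isDiag hF]

/-- the normaliser of the diagonal torus of `Sp_2m(q)`, `q ≥ 4`, has order `2^m m! (q-1)^m`. -/
theorem card_normalizer_torus [Fintype F] {q : ℕ} (hF : Fintype.card F = q) (hq : 4 ≤ q) (m : ℕ) :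
    Nat.card ↥(Subgroup.normalizer ((⨅ i : Fin m ⊕ Fin m, Cfsg.stabilizing (Cfsg.spToMat m F)
      ((Submodule.span F {(Pi.single i (1 : F) : Fin m ⊕ Fin m → F)} :
        Submodule F (Fin m ⊕ Fin m → F)) : Set (Fin m ⊕ Fin m → F)) :
          Subgroup (Matrix.symplecticGroup (Fin m) F)) : Set (Matrix.symplecticGroup (Fin m) F)))
      = 2 ^ m * Nat.factorial m * (q - 1) ^ m := by
  classical
  obtain ⟨a, ha0, ha1⟩ := exists_sq_ne_one (F := F) (by rw [hF]; exact hq)
  rw [← card_isMono hF m]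
  apply Nat.card_congr
  exact Equiv.subtypeEquivRight (fun g => mem_normalizer_iff_isMono a ha0 ha1 g)

end Torus

end Cfsg.Agent.Lib.helper4
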