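import Mathlib

/-!
# Commuting isometric involutions of a symplectic space

A finite set of pairwise commuting involutions preserving a nondegenerate alternating form on a
space of dimension `d` (characteristic not two) has at most `2 ^ (d / 2)` elements.
-/

namespace Cfsg.Agent.Lib.helper4.InvolBound

universe u

open Module

theorem invol_bound {F : Type u} [Field F] (h2 : (2 : F) ≠ 0) :
    ∀ (d : ℕ) (V : Type u) [AddCommGroup V] [Module F V] [FiniteDimensional F V]
      (B : V →ₗ[F] V →ₗ[F] F) (H : Finset (V →ₗ[F] V)), finrank F V = d →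
      (∀ v, B v v = 0) → (∀ v, (∀ w, B v w = 0) → v = 0) →
      (∀ h ∈ H, (∀ v, h (h v) = v) ∧ ∀ v w, B (h v) (h w) = B v w) →
      (∀ h ∈ H, ∀ k ∈ H, ∀ v, h (k v) = k (h v)) → H.card ≤ 2 ^ (d / 2) := by
  classical
  intro d
  induction d using Nat.strong_induction_on with
  | _ d ih =>
  intro V _ _ _ B H hd halt hnd hH hcomm
  by_cases hall : ∀ h ∈ H, h = LinearMap.id ∨ h = -LinearMap.id
  · by_cases hd2 : 2 ≤ d
    · have hsub : H ⊆ {LinearMap.id, -LinearMap.id} := by
        intro h hh
        rcases hall h hh with h1 | h1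
        · simp [h1]
        · simp [h1]
      have h1 := Finset.card_le_card hsub
      have h3 : ({LinearMap.id, -LinearMap.id} : Finset (V →ₗ[F] V)).card ≤ 2 :=
        Finset.card_insert_le _ _
      have h4 : 2 ^ 1 ≤ 2 ^ (d / 2) := Nat.pow_le_pow_right (by norm_num) (by omega)
      omega
    · have hd01 : d = 0 ∨ d = 1 := by omega
      rcases hd01 with h0 | h1
      · subst h0
        have hs : Subsingleton V := Module.finrank_zero_iff.mp hd
        have : H.card ≤ 1 :=
          Finset.card_le_one.mpr (fun a _ b _ => LinearMap.ext (fun v => Subsingleton.elim _ _))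
        simpa using this
      · subst h1
        exfalso
        obtain ⟨v, hv, hv2⟩ := finrank_eq_one_iff'.mp hd
        refine hv (hnd v ?_)
        intro w
        obtain ⟨c, rfl⟩ := hv2 w
        rw [map_smul, halt, smul_zero]
  · push Not at hall
    obtain ⟨t, ht, ht1, ht2⟩ := hall
    obtain ⟨Vp, hVp⟩ : ∃ Vp : Submodule F V, Vp = LinearMap.ker (t - LinearMap.id) := ⟨_, rfl⟩
    obtain ⟨Vm, hVm⟩ : ∃ Vm : Submodule F V, Vm = LinearMap.ker (t + LinearMap.id) := ⟨_, rfl⟩
    have hmp : ∀ v, v ∈ Vp ↔ t v = v := by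
      intro v
      rw [hVp, LinearMap.mem_ker, LinearMap.sub_apply, LinearMap.id_apply, sub_eq_zero]
    have hmm : ∀ v, v ∈ Vm ↔ t v = -v := by
      intro v
      rw [hVm, LinearMap.mem_ker, LinearMap.add_apply, LinearMap.id_apply, add_eq_zero_iff_eq_neg]
    have htt := (hH t ht).1
    have htB := (hH t ht).2
    have hdec : ∀ v, ∃ a ∈ Vp, ∃ b ∈ Vm, v = a + b := by
      intro v
      refine ⟨(2 : F)⁻¹ • (v + t v), ?_, (2 : F)⁻¹ • (v - t v), ?_, ?_⟩
      · rw [hmp, map_smul, map_add, htt, add_comm]
      · rw [hmm, map_smul, map_sub, htt, ← smul_neg, neg_sub]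
      · rw [← smul_add]
        have : v + t v + (v - t v) = (2 : F) • v := by rw [two_smul]; abel
        rw [this, smul_smul, inv_mul_cancel₀ h2, one_smul]
    have hdisj : Disjoint Vp Vm := by
      rw [Submodule.disjoint_def]
      intro v hv1 hv2
      rw [hmp] at hv1
      rw [hmm] at hv2
      have h3 : (2 : F) • v = 0 := by
        rw [two_smul]
        nth_rewrite 1 [← hv1]
        rw [hv2, neg_add_cancel]
      rcases smul_eq_zero.mp h3 with h4 | h4
      · exact absurd h4 h2
      · exact h4
    have hcod : Codisjoint Vp Vm := by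
      rw [codisjoint_iff, eq_top_iff]
      intro v _
      obtain ⟨a, ha, b, hb, rfl⟩ := hdec v
      exact Submodule.add_mem_sup ha hb
    have hsum := Submodule.finrank_add_eq_of_isCompl (IsCompl.mk hdisj hcod)
    have hp_top : Vp ≠ ⊤ := by
      intro h
      apply ht1
      ext v
      have : v ∈ Vp := by rw [h]; trivial
      rw [LinearMap.id_apply]
      exact (hmp v).mp this
    have hm_top : Vm ≠ ⊤ := by
      intro h
      apply ht2
      ext v
      have : v ∈ Vm := by rw [h]; trivial
      rw [LinearMap.neg_apply, LinearMap.id_apply]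
      exact (hmm v).mp this
    have hlp := Submodule.finrank_lt hp_top
    have hlm := Submodule.finrank_lt hm_top
    rw [hd] at hlp hlm hsum
    have horth : ∀ a ∈ Vp, ∀ b ∈ Vm, B a b = 0 ∧ B b a = 0 := by
      intro a ha b hb
      rw [hmp] at ha
      rw [hmm] at hb
      constructor
      · have h3 := htB a b
        rw [ha, hb, map_neg] at h3
        have h4 : (2 : F) * B a b = 0 := by rw [two_mul]; nth_rewrite 1 [← h3]; ring
        rcases mul_eq_zero.mp h4 with h5 | h5
        · exact absurd h5 h2
        · exact h5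
      · have h3 := htB b a
        rw [ha, hb, map_neg, LinearMap.neg_apply] at h3
        have h4 : (2 : F) * B b a = 0 := by rw [two_mul]; nth_rewrite 1 [← h3]; ring
        rcases mul_eq_zero.mp h4 with h5 | h5
        · exact absurd h5 h2
        · exact h5
    -- invariance
    have hinvp : ∀ h ∈ H, ∀ v ∈ Vp, h v ∈ Vp := by
      intro h hh v hv
      rw [hmp] at hv ⊢
      rw [hcomm t ht h hh, hv]
    have hinvm : ∀ h ∈ H, ∀ v ∈ Vm, h v ∈ Vm := by
      intro h hh v hv
      rw [hmm] at hv ⊢
      rw [hcomm t ht h hh, hv, map_neg]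
    obtain ⟨rp, hrp⟩ : ∃ rp : (V →ₗ[F] V) → (Vp →ₗ[F] Vp),
        ∀ h ∈ H, ∀ v : Vp, ((rp h v : Vp) : V) = h v := by
      refine ⟨fun h => if hh : ∀ v ∈ Vp, h v ∈ Vp then h.restrict hh else 0, ?_⟩
      intro h hh v
      have h1 : ∀ v ∈ Vp, h v ∈ Vp := hinvp h hh
      simp only [dif_pos h1]
      rfl
    obtain ⟨rm, hrm⟩ : ∃ rm : (V →ₗ[F] V) → (Vm →ₗ[F] Vm),
        ∀ h ∈ H, ∀ v : Vm, ((rm h v : Vm) : V) = h v := by
      refine ⟨fun h => if hh : ∀ v ∈ Vm, h v ∈ Vm then h.restrict hh else 0, ?_⟩
      intro h hh v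
      have h1 : ∀ v ∈ Vm, h v ∈ Vm := hinvm h hh
      simp only [dif_pos h1]
      rfl
    have hbp : (H.image rp).card ≤ 2 ^ (finrank F Vp / 2) := by
      refine ih _ hlp Vp (B.domRestrict₁₂ Vp Vp) (H.image rp) rfl ?_ ?_ ?_ ?_
      · intro v
        rw [LinearMap.domRestrict₁₂_apply]
        exact halt _
      · intro v hv
        apply Subtype.ext
        apply hnd
        intro w
        obtain ⟨a, ha, b, hb, rfl⟩ := hdec w
        rw [map_add, (horth v v.2 b hb).1, add_zero]
        have := hv ⟨a, ha⟩
        rw [LinearMap.domRestrict₁₂_apply] at this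
        exact this
      · intro h' hh'
        obtain ⟨h, hh, rfl⟩ := Finset.mem_image.mp hh'
        constructor
        · intro v
          apply Subtype.ext
          rw [hrp h hh, hrp h hh]
          exact (hH h hh).1 _
        · intro v w
          rw [LinearMap.domRestrict₁₂_apply, LinearMap.domRestrict₁₂_apply, hrp h hh, hrp h hh]
          exact (hH h hh).2 _ _
      · intro h' hh' k' hk' v
        obtain ⟨h, hh, rfl⟩ := Finset.mem_image.mp hh'
        obtain ⟨k, hk, rfl⟩ := Finset.mem_image.mp hk'
        apply Subtype.ext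
        rw [hrp h hh, hrp k hk, hrp k hk, hrp h hh]
        exact hcomm h hh k hk _
    have hbm : (H.image rm).card ≤ 2 ^ (finrank F Vm / 2) := by
      refine ih _ hlm Vm (B.domRestrict₁₂ Vm Vm) (H.image rm) rfl ?_ ?_ ?_ ?_
      · intro v
        rw [LinearMap.domRestrict₁₂_apply]
        exact halt _
      · intro v hv
        apply Subtype.ext
        apply hnd
        intro w
        obtain ⟨a, ha, b, hb, rfl⟩ := hdec w
        rw [map_add, (horth a ha v v.2).2, zero_add]
        have := hv ⟨b, hb⟩
        rw [LinearMap.domRestrict₁₂_apply] at this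
        exact this
      · intro h' hh'
        obtain ⟨h, hh, rfl⟩ := Finset.mem_image.mp hh'
        constructor
        · intro v
          apply Subtype.ext
          rw [hrm h hh, hrm h hh]
          exact (hH h hh).1 _
        · intro v w
          rw [LinearMap.domRestrict₁₂_apply, LinearMap.domRestrict₁₂_apply, hrm h hh, hrm h hh]
          exact (hH h hh).2 _ _
      · intro h' hh' k' hk' v
        obtain ⟨h, hh, rfl⟩ := Finset.mem_image.mp hh'
        obtain ⟨k, hk, rfl⟩ := Finset.mem_image.mp hk'
        apply Subtype.ext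
        rw [hrm h hh, hrm k hk, hrm k hk, hrm h hh]
        exact hcomm h hh k hk _
    have hinj : H.card ≤ ((H.image rp) ×ˢ (H.image rm)).card := by
      refine Finset.card_le_card_of_injOn (fun h => (rp h, rm h)) ?_ ?_
      · intro h hh
        exact Finset.mem_product.mpr ⟨Finset.mem_image_of_mem _ hh, Finset.mem_image_of_mem _ hh⟩
      · intro h hh k hk hhk
        have hhk' := Prod.mk.inj hhk
        ext v
        obtain ⟨a, ha, b, hb, rfl⟩ := hdec v
        rw [map_add, map_add]
        have e1 : h a = k a := by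
          rw [← hrp h hh ⟨a, ha⟩, ← hrp k hk ⟨a, ha⟩, hhk'.1]
        have e2 : h b = k b := by
          rw [← hrm h hh ⟨b, hb⟩, ← hrm k hk ⟨b, hb⟩, hhk'.2]
        rw [e1, e2]
    rw [Finset.card_product] at hinj
    calc H.card ≤ (H.image rp).card * (H.image rm).card := hinj
      _ ≤ 2 ^ (finrank F Vp / 2) * 2 ^ (finrank F Vm / 2) := Nat.mul_le_mul hbp hbm
      _ = 2 ^ (finrank F Vp / 2 + finrank F Vm / 2) := by rw [pow_add]
      _ ≤ 2 ^ (d / 2) := Nat.pow_le_pow_right (by norm_num) (by omega)

end Cfsg.Agent.Lib.helper4.InvolBound
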