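import Mathlib
import Cfsg.Agent.Lib.helper4.SpCard

/-!
# The subgroup `Sp_2(F) ≀ S_n` of `Sp_2n(F)`
-/

namespace Cfsg.Agent.Lib.helper4.SpWreath

open Matrix

variable {F : Type*} [Field F] {n : ℕ}

/-- Reindexing of the standard symplectic index type as `n` hyperbolic pairs. -/
def eι (n : ℕ) : Fin n ⊕ Fin n ≃ (Fin 1 ⊕ Fin 1) × Fin n where
  toFun a := Sum.elim (fun i => (Sum.inl 0, i)) (fun i => (Sum.inr 0, i)) a
  invFun x := Sum.elim (fun _ => Sum.inl x.2) (fun _ => Sum.inr x.2) x.1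
  left_inv a := by cases a <;> rfl
  right_inv x := by
    rcases x with ⟨s | s, i⟩
    · obtain rfl : s = 0 := Subsingleton.elim _ _
      rfl
    · obtain rfl : s = 0 := Subsingleton.elim _ _
      rfl

theorem J_eq (n : ℕ) (F : Type*) [Field F] : J (Fin n) F
    = (blockDiagonal (fun _ : Fin n => J (Fin 1) F)).submatrix (eι n) (eι n) := by
  ext (i | i) (j | j) <;>
    simp [J, blockDiagonal_apply, eι, Matrix.one_apply] <;> split_ifs <;> simp

/-- The permutation of the hyperbolic pairs. -/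
def shE (σ : Equiv.Perm (Fin n)) : (Fin 1 ⊕ Fin 1) × Fin n ≃ (Fin 1 ⊕ Fin 1) × Fin n :=
  Equiv.prodCongr (Equiv.refl _) σ

/-- Permutation matrices of the hyperbolic pairs. -/
def P (F : Type*) [Field F] (σ : Equiv.Perm (Fin n)) :
    Matrix ((Fin 1 ⊕ Fin 1) × Fin n) ((Fin 1 ⊕ Fin 1) × Fin n) F :=
  (1 : Matrix ((Fin 1 ⊕ Fin 1) × Fin n) ((Fin 1 ⊕ Fin 1) × Fin n) F).submatrix (shE σ⁻¹) id

theorem P_mul (σ : Equiv.Perm (Fin n))
    (M : Matrix ((Fin 1 ⊕ Fin 1) × Fin n) ((Fin 1 ⊕ Fin 1) × Fin n) F) :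
    P F σ * M = M.submatrix (shE σ⁻¹) id := by
  have := Matrix.one_submatrix_mul (shE σ⁻¹ : (Fin 1 ⊕ Fin 1) × Fin n → (Fin 1 ⊕ Fin 1) × Fin n)
    (Equiv.refl ((Fin 1 ⊕ Fin 1) × Fin n)) M
  simpa [P] using this

theorem mul_P (σ : Equiv.Perm (Fin n))
    (M : Matrix ((Fin 1 ⊕ Fin 1) × Fin n) ((Fin 1 ⊕ Fin 1) × Fin n) F) :
    M * P F σ = M.submatrix id (shE σ) := by
  have := Matrix.mul_submatrix_one (shE σ⁻¹)
    (id : (Fin 1 ⊕ Fin 1) × Fin n → (Fin 1 ⊕ Fin 1) × Fin n) M
  exact this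

theorem P_one : P F (1 : Equiv.Perm (Fin n)) = 1 := by
  ext x y
  simp [P, shE, Matrix.one_apply]

theorem P_mul' (σ τ : Equiv.Perm (Fin n)) : P F (σ * τ) = P F σ * P F τ := by
  rw [P_mul]
  ext x y
  simp [P, shE, Matrix.one_apply, _root_.mul_inv_rev]
  rfl

theorem bd_conj (σ : Equiv.Perm (Fin n))
    (f : Fin n → Matrix (Fin 1 ⊕ Fin 1) (Fin 1 ⊕ Fin 1) F) :
    P F σ * blockDiagonal f * P F σ⁻¹ = blockDiagonal (fun i => f (σ⁻¹ i)) := by
  rw [P_mul, mul_P]
  ext ⟨s, i⟩ ⟨t, j⟩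
  simp [blockDiagonal_apply, shE]

theorem P_symp (σ : Equiv.Perm (Fin n)) :
    P F σ * blockDiagonal (fun _ : Fin n => J (Fin 1) F) * (P F σ)ᵀ
      = blockDiagonal (fun _ : Fin n => J (Fin 1) F) := by
  have h1 : (P F σ)ᵀ = (1 : Matrix ((Fin 1 ⊕ Fin 1) × Fin n) ((Fin 1 ⊕ Fin 1) × Fin n) F).submatrix
      (Equiv.refl _) (shE σ⁻¹) := by
    rw [P, transpose_submatrix, transpose_one]
    rfl
  rw [P_mul, h1, Matrix.mul_submatrix_one]
  ext ⟨s, i⟩ ⟨t, j⟩
  simp [blockDiagonal_apply, shE]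

/-- The block-diagonal embedding of `Sp_2(F)^n`. -/
def f₁ (n : ℕ) (F : Type*) [Field F] :
    (Fin n → symplecticGroup (Fin 1) F) →* symplecticGroup (Fin n) F where
  toFun f := ⟨(blockDiagonal (fun i => (f i).1)).submatrix (eι n) (eι n), by
    rw [SymplecticGroup.mem_iff, J_eq, transpose_submatrix, submatrix_mul_equiv,
      submatrix_mul_equiv, blockDiagonal_transpose, ← blockDiagonal_mul, ← blockDiagonal_mul]
    congr 2
    funext i
    exact SymplecticGroup.mem_iff.mp (f i).2⟩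
  map_one' := Subtype.ext (by
    show (blockDiagonal (fun i => ((1 : Fin n → symplecticGroup (Fin 1) F) i).1)).submatrix
      (eι n) (eι n) = 1
    have : (fun i => ((1 : Fin n → symplecticGroup (Fin 1) F) i).1)
        = (1 : Fin n → Matrix (Fin 1 ⊕ Fin 1) (Fin 1 ⊕ Fin 1) F) := rfl
    rw [this, blockDiagonal_one, submatrix_one_equiv])
  map_mul' f g := Subtype.ext (by
    show (blockDiagonal (fun i => ((f * g) i).1)).submatrix (eι n) (eι n)
      = (blockDiagonal (fun i => (f i).1)).submatrix (eι n) (eι n)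
        * (blockDiagonal (fun i => (g i).1)).submatrix (eι n) (eι n)
    rw [submatrix_mul_equiv, ← blockDiagonal_mul]
    rfl)

theorem f₁_coe (f : Fin n → symplecticGroup (Fin 1) F) :
    (f₁ n F f).1 = (blockDiagonal (fun i => (f i).1)).submatrix (eι n) (eι n) := rfl

/-- The permutation embedding of `S_n`. -/
def f₂ (n : ℕ) (F : Type*) [Field F] : Equiv.Perm (Fin n) →* symplecticGroup (Fin n) F where
  toFun σ := ⟨(P F σ).submatrix (eι n) (eι n), by
    rw [SymplecticGroup.mem_iff, J_eq, transpose_submatrix, submatrix_mul_equiv,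
      submatrix_mul_equiv, P_symp]⟩
  map_one' := Subtype.ext (by
    show (P F (1 : Equiv.Perm (Fin n))).submatrix (eι n) (eι n) = 1
    rw [P_one, submatrix_one_equiv])
  map_mul' σ τ := Subtype.ext (by
    show (P F (σ * τ)).submatrix (eι n) (eι n)
      = (P F σ).submatrix (eι n) (eι n) * (P F τ).submatrix (eι n) (eι n)
    rw [submatrix_mul_equiv, P_mul'])

theorem f₂_coe (σ : Equiv.Perm (Fin n)) :
    (f₂ n F σ).1 = (P F σ).submatrix (eι n) (eι n) := rfl

theorem conj_rel (σ : Equiv.Perm (Fin n)) (f : Fin n → symplecticGroup (Fin 1) F) :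
    f₂ n F σ * f₁ n F f * (f₂ n F σ)⁻¹ = f₁ n F (fun i => f (σ⁻¹ i)) := by
  rw [← map_inv]
  apply Subtype.ext
  show (P F σ).submatrix (eι n) (eι n) * (blockDiagonal (fun i => (f i).1)).submatrix (eι n) (eι n)
    * (P F σ⁻¹).submatrix (eι n) (eι n)
      = (blockDiagonal (fun i => (f (σ⁻¹ i)).1)).submatrix (eι n) (eι n)
  rw [submatrix_mul_equiv, submatrix_mul_equiv, bd_conj]

/-- The wreath product `Sp_2(F) ≀ S_n`. -/
abbrev W (n : ℕ) (F : Type*) [Field F] :=
  (Fin n → symplecticGroup (Fin 1) F) ⋊[mulAutArrow (G := Equiv.Perm (Fin n)) (A := Fin n)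
    (M := symplecticGroup (Fin 1) F)] Equiv.Perm (Fin n)

/-- The embedding of the wreath product. -/
def Φ (n : ℕ) (F : Type*) [Field F] : W n F →* symplecticGroup (Fin n) F :=
  SemidirectProduct.lift (f₁ n F) (f₂ n F) (fun σ => MonoidHom.ext fun f => by
    rw [MonoidHom.comp_apply, MonoidHom.comp_apply]
    exact (conj_rel σ f).symm)

theorem Φ_apply (w : W n F) : Φ n F w = f₁ n F w.left * f₂ n F w.right := rfl

theorem Φ_injective : Function.Injective (Φ n F) := by
  rw [injective_iff_map_eq_one]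
  intro w hw
  have h1 : (f₁ n F w.left * f₂ n F w.right).1 = 1 := congrArg Subtype.val hw
  have h2 : (blockDiagonal (fun i => (w.left i).1) * P F w.right).submatrix (eι n) (eι n)
      = 1 := by
    rw [← submatrix_mul_equiv (e₂ := eι n)]; exact h1
  have h3 : blockDiagonal (fun i => (w.left i).1) * P F w.right = 1 := by
    have := congrArg (fun M => M.submatrix (eι n).symm (eι n).symm) h2
    simpa using this
  rw [mul_P] at h3
  have key : ∀ (s t : Fin 1 ⊕ Fin 1) (i j : Fin n),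
      (if i = w.right j then (w.left i).1 s t else 0) = if s = t ∧ i = j then 1 else 0 := by
    intro s t i j
    have := congrFun (congrFun h3 (s, i)) (t, j)
    simpa [blockDiagonal_apply, shE, Matrix.one_apply] using this
  have hσ : w.right = 1 := by
    apply Equiv.ext
    intro j
    by_contra hne
    have hz : (w.left (w.right j)).1 = 0 := by
      ext s t
      have := key s t (w.right j) j
      rw [if_pos rfl] at this
      rw [this, if_neg (fun h => hne h.2)]; rfl
    have hmem := SymplecticGroup.mem_iff.mp (w.left (w.right j)).2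
    rw [hz] at hmem
    have := congrFun (congrFun hmem (Sum.inl 0)) (Sum.inr 0)
    simp [J] at this
  have hf : w.left = 1 := by
    funext i
    apply Subtype.ext
    ext s t
    have := key s t i i
    rw [hσ] at this
    simp only [Equiv.Perm.coe_one, id_eq, if_true, and_true] at this
    rw [this]
    simp [Matrix.one_apply]
  exact SemidirectProduct.ext hf hσ

/-- The scalars `±1` in `Sp_2(F)`. -/
def ζ (F : Type*) [Field F] : ℤˣ →* symplecticGroup (Fin 1) F where
  toFun u := ⟨(((u : ℤ) : F)) • (1 : Matrix (Fin 1 ⊕ Fin 1) (Fin 1 ⊕ Fin 1) F), by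
    rw [SymplecticGroup.mem_iff, transpose_smul, transpose_one, smul_mul_assoc, one_mul,
      mul_smul_comm, mul_one, smul_smul]
    have : ((u : ℤ) : F) * ((u : ℤ) : F) = 1 := by
      rw [← Int.cast_mul, ← Units.val_mul, Int.units_mul_self]; simp
    rw [this, one_smul]⟩
  map_one' := Subtype.ext (by simp)
  map_mul' u v := Subtype.ext (by
    show (((u * v : ℤˣ) : ℤ) : F) • (1 : Matrix (Fin 1 ⊕ Fin 1) (Fin 1 ⊕ Fin 1) F)
      = (((u : ℤ) : F) • 1) * (((v : ℤ) : F) • 1)
    rw [smul_mul_smul_comm, one_mul, Units.val_mul, Int.cast_mul])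

theorem ζ_coe (u : ℤˣ) :
    (ζ F u).1 = (((u : ℤ) : F)) • (1 : Matrix (Fin 1 ⊕ Fin 1) (Fin 1 ⊕ Fin 1) F) := rfl

theorem ζ_injective (h2 : (2 : F) ≠ 0) : Function.Injective (ζ F) := by
  intro u v huv
  have h1 := congrFun (congrFun (congrArg Subtype.val huv) (Sum.inl 0)) (Sum.inl 0)
  rw [ζ_coe, ζ_coe] at h1
  simp only [Matrix.smul_apply, Matrix.one_apply_eq, smul_eq_mul, mul_one] at h1
  rcases Int.units_eq_one_or u with hu | hu <;> rcases Int.units_eq_one_or v with hv | hv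
  · rw [hu, hv]
  · exfalso
    rw [hu, hv] at h1
    apply h2
    have : (1 : F) = -1 := by simpa using h1
    linear_combination this
  · exfalso
    rw [hu, hv] at h1
    apply h2
    have : (-1 : F) = 1 := by simpa using h1
    linear_combination -this
  · rw [hu, hv]

theorem center_ζ (u : ℤˣ) (a : symplecticGroup (Fin 1) F) : a * ζ F u * a⁻¹ = ζ F u := by
  have h : a * ζ F u = ζ F u * a := by
    apply Subtype.ext
    show a.1 * (ζ F u).1 = (ζ F u).1 * a.1
    rw [ζ_coe]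
    simp
  rw [h, mul_inv_cancel_right]

theorem le_normalizer_of {G : Type*} [Group G] (K E : Subgroup G)
    (h : ∀ g ∈ K, ∀ x ∈ E, g * x * g⁻¹ ∈ E) : K ≤ Subgroup.normalizer (E : Set G) := by
  intro g hg
  rw [Subgroup.mem_normalizer_iff]
  intro x
  constructor
  · exact h g hg x
  · intro hx
    have := h g⁻¹ (inv_mem hg) _ hx
    simpa [mul_assoc] using this

theorem exists_K [Fintype F] (h2 : (2 : F) ≠ 0) {q : ℕ} (hF : Fintype.card F = q) (n : ℕ) :
    ∃ K E₀ : Subgroup (symplecticGroup (Fin n) F), E₀ ≤ K ∧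
      K ≤ Subgroup.normalizer (E₀ : Set (symplecticGroup (Fin n) F)) ∧
      (∀ a ∈ E₀, a ^ 2 = 1) ∧ Nat.card E₀ = 2 ^ n ∧
      Nat.card K = (q * (q ^ 2 - 1)) ^ n * n.factorial := by
  have hf₁ : Function.Injective (f₁ n F) := by
    intro a b hab
    apply SemidirectProduct.inl_injective (φ := mulAutArrow (G := Equiv.Perm (Fin n)) (A := Fin n)
      (M := symplecticGroup (Fin 1) F))
    apply Φ_injective
    rw [Φ_apply, Φ_apply]
    simpa using hab
  have hinj : Function.Injective ((f₁ n F).comp ((ζ F).compLeft (Fin n))) := by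
    intro a b hab
    have := hf₁ hab
    funext i
    exact ζ_injective h2 (congrFun this i)
  refine ⟨(Φ n F).range, ((f₁ n F).comp ((ζ F).compLeft (Fin n))).range, ?_, ?_, ?_, ?_, ?_⟩
  · rintro _ ⟨ε, rfl⟩
    refine ⟨SemidirectProduct.inl ((ζ F).compLeft (Fin n) ε), ?_⟩
    rw [Φ_apply]
    simp
  · apply le_normalizer_of
    rintro _ ⟨w, rfl⟩ _ ⟨ε, rfl⟩
    refine ⟨fun i => ε (w.right⁻¹ i), ?_⟩
    rw [Φ_apply, MonoidHom.comp_apply, MonoidHom.comp_apply]
    have e1 : f₁ n F w.left * f₂ n F w.right * f₁ n F ((ζ F).compLeft (Fin n) ε)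
        * (f₁ n F w.left * f₂ n F w.right)⁻¹
        = f₁ n F w.left * (f₂ n F w.right * f₁ n F ((ζ F).compLeft (Fin n) ε)
          * (f₂ n F w.right)⁻¹) * (f₁ n F w.left)⁻¹ := by group
    rw [e1, conj_rel, ← map_inv, ← map_mul, ← map_mul]
    congr 1
    funext i
    rw [Pi.mul_apply, Pi.mul_apply, Pi.inv_apply]
    exact (center_ζ _ _).symm
  · rintro _ ⟨ε, rfl⟩
    rw [← map_pow]
    have : ε ^ 2 = 1 := by
      funext i
      rw [Pi.pow_apply, Int.units_sq, Pi.one_apply]
    rw [this, map_one]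
  · rw [← Nat.card_congr (MonoidHom.ofInjective hinj).toEquiv, Nat.card_fun,
      Nat.card_eq_fintype_card, Nat.card_eq_fintype_card, Fintype.card_units_int, Fintype.card_fin]
  · rw [← Nat.card_congr (MonoidHom.ofInjective (Φ_injective (n := n) (F := F))).toEquiv,
      SemidirectProduct.card, Nat.card_fun, Cfsg.Agent.Lib.helper4.card_sp hF 1,
      Nat.card_perm, Nat.card_eq_fintype_card, Fintype.card_fin]
    simp

end Cfsg.Agent.Lib.helper4.SpWreath
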