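import Mathlib
import Cfsg.Prelude.Def_Transfer
import Cfsg.Agent.Lib.helper4.InvolBound
import Cfsg.Agent.Lib.helper4.SpWreath
import Cfsg.Agent.Lib.helper4.SympConj

/-!
# Elementary abelian 2-subgroups of `Sp_2n(q)`, `q` odd
-/

namespace Cfsg.Agent.Lib.helper4.SpSylowEA

open Matrix

variable {F : Type*} [Field F]

theorem comm_of_sq {G : Type*} [Group G] (H : Subgroup G) (hH : ∀ a ∈ H, a ^ 2 = 1) (a b : G)
    (ha : a ∈ H) (hb : b ∈ H) : a * b = b * a := by
  have h1 := hH a ha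
  have h2 := hH b hb
  have h3 := hH (a * b) (H.mul_mem ha hb)
  rw [pow_two] at h1 h2 h3
  have ia : a⁻¹ = a := inv_eq_of_mul_eq_one_right h1
  have ib : b⁻¹ = b := inv_eq_of_mul_eq_one_right h2
  have iab : (a * b)⁻¹ = a * b := inv_eq_of_mul_eq_one_right h3
  rw [← iab, _root_.mul_inv_rev, ia, ib]

theorem two_ne_zero_of_odd [Fintype F] (hodd : Odd (Fintype.card F)) : (2 : F) ≠ 0 := by
  intro h
  haveI : CharP F 2 := CharTwo.of_one_ne_zero_of_two_eq_zero one_ne_zero h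
  have h1 : ringChar F = 2 := ringChar.eq F 2
  have h2 := FiniteField.even_card_of_char_two h1
  rw [Nat.odd_iff] at hodd
  omega

/-- Any subgroup of exponent two of `Sp_2n(F)` has order at most `2 ^ n`. -/
theorem sp_invol_card_le [Fintype F] (h2 : (2 : F) ≠ 0) (n : ℕ)
    (H : Subgroup (symplecticGroup (Fin n) F)) (hH : ∀ a ∈ H, a ^ 2 = 1) :
    Nat.card H ≤ 2 ^ n := by
  classical
  haveI : Fintype H := Fintype.ofFinite H
  obtain ⟨φ, hφ⟩ : ∃ φ : H → ((Fin n ⊕ Fin n → F) →ₗ[F] (Fin n ⊕ Fin n → F)),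
      ∀ h : H, φ h = Matrix.toLin' h.1.1 := ⟨fun h => Matrix.toLin' h.1.1, fun _ => rfl⟩
  have hinj : Function.Injective φ := by
    intro a b hab
    rw [hφ, hφ] at hab
    exact Subtype.ext (Subtype.ext (Matrix.toLin'.injective hab))
  have hsq : ∀ a : H, a.1.1 * a.1.1 = 1 := by
    intro a
    have h1 := hH a.1 a.2
    rw [pow_two] at h1
    exact congrArg Subtype.val h1
  have hcomm : ∀ a b : H, a.1.1 * b.1.1 = b.1.1 * a.1.1 := by
    intro a b
    exact congrArg Subtype.val (comm_of_sq H hH a.1 b.1 a.2 b.2)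
  have key := Cfsg.Agent.Lib.helper4.InvolBound.invol_bound h2 (n + n) (Fin n ⊕ Fin n → F)
    (Matrix.toLinearMap₂' F (J (Fin n) F)) (Finset.univ.image φ)
    (by rw [Module.finrank_fintype_fun_eq_card, Fintype.card_sum, Fintype.card_fin]) ?_ ?_ ?_ ?_
  · rw [Finset.card_image_of_injective _ hinj, Finset.card_univ, ← Nat.card_eq_fintype_card] at key
    have e : (n + n) / 2 = n := by omega
    rwa [e] at key
  · intro v
    rw [Matrix.toLinearMap₂'_apply']
    exact Cfsg.Agent.Lib.helper4.SympConj.J_alt n F v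
  · intro v hv
    have h1 : v ᵥ* J (Fin n) F = 0 := by
      apply dotProduct_eq_zero
      intro w
      have := hv w
      rw [Matrix.toLinearMap₂'_apply', Matrix.dotProduct_mulVec] at this
      exact this
    have h3 : v ᵥ* J (Fin n) F ᵥ* (-J (Fin n) F) = v := by
      rw [Matrix.vecMul_vecMul, mul_neg, J_squared, neg_neg, Matrix.vecMul_one]
    rw [← h3, h1, Matrix.zero_vecMul]
  · intro h hh
    obtain ⟨a, -, rfl⟩ := Finset.mem_image.mp hh
    rw [hφ]
    constructor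
    · intro v
      rw [Matrix.toLin'_apply, Matrix.toLin'_apply, Matrix.mulVec_mulVec, hsq, Matrix.one_mulVec]
    · intro v w
      rw [Matrix.toLinearMap₂'_apply', Matrix.toLinearMap₂'_apply', Matrix.toLin'_apply,
        Matrix.toLin'_apply]
      have hm := SymplecticGroup.mem_iff'.mp a.1.2
      calc (a.1.1 *ᵥ v) ⬝ᵥ J (Fin n) F *ᵥ (a.1.1 *ᵥ w)
          = v ⬝ᵥ (a.1.1)ᵀ *ᵥ (J (Fin n) F *ᵥ (a.1.1 *ᵥ w)) := by
            rw [Matrix.dotProduct_mulVec v (a.1.1)ᵀ, Matrix.vecMul_transpose]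
        _ = v ⬝ᵥ ((a.1.1)ᵀ * J (Fin n) F * a.1.1) *ᵥ w := by
            rw [Matrix.mulVec_mulVec, Matrix.mulVec_mulVec, Matrix.mul_assoc]
        _ = v ⬝ᵥ J (Fin n) F *ᵥ w := by rw [hm]
  · intro h hh k hk v
    obtain ⟨a, -, rfl⟩ := Finset.mem_image.mp hh
    obtain ⟨b, -, rfl⟩ := Finset.mem_image.mp hk
    rw [hφ, hφ, Matrix.toLin'_apply, Matrix.toLin'_apply, Matrix.toLin'_apply, Matrix.toLin'_apply,
      Matrix.mulVec_mulVec, Matrix.mulVec_mulVec, hcomm]

theorem v2_lte (q : ℕ) (hq : Odd q) (hq1 : 1 < q) (n : ℕ) :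
    padicValNat 2 (q ^ (2 * (n + 1)) - 1) = padicValNat 2 (q ^ 2 - 1) + padicValNat 2 (n + 1) := by
  have hd : 2 ∣ q - 1 := by
    obtain ⟨k, rfl⟩ := hq
    exact ⟨k, by omega⟩
  have hnd : ¬ 2 ∣ q := by
    rw [Nat.odd_iff] at hq
    omega
  have h1 := padicValNat.pow_two_sub_pow (x := q) (y := 1) hq1 hd hnd (n := 2 * (n + 1))
    (by omega) (even_two_mul _)
  have h2 := padicValNat.pow_two_sub_pow (x := q) (y := 1) hq1 hd hnd (n := 2)
    (by norm_num) even_two
  rw [one_pow] at h1 h2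
  rw [padicValNat.mul two_ne_zero (by omega), padicValNat_self] at h1
  rw [padicValNat_self] at h2
  omega

theorem v2_prod (q : ℕ) (hq : Odd q) (hq1 : 1 < q) (n : ℕ) :
    padicValNat 2 (∏ i ∈ Finset.range n, (q ^ (2 * (i + 1)) - 1))
      = n * padicValNat 2 (q ^ 2 - 1) + padicValNat 2 n.factorial := by
  have hne : ∀ i : ℕ, q ^ (2 * (i + 1)) - 1 ≠ 0 := by
    intro i
    have := Nat.one_lt_pow (n := 2 * (i + 1)) (by omega) hq1
    omega
  induction n with
  | zero => simp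
  | succ n ih =>
    rw [Finset.prod_range_succ, padicValNat.mul (Finset.prod_ne_zero_iff.mpr (fun i _ => hne i))
      (hne n), ih, Nat.factorial_succ, padicValNat.mul (by omega) (Nat.factorial_ne_zero n),
      v2_lte q hq hq1 n]
    ring

theorem exists_sylow_EA [Fintype F] (hodd : Odd (Fintype.card F)) (n : ℕ) :
    ∃ (S₀ : Sylow 2 (symplecticGroup (Fin n) F)) (E₀ : Subgroup (symplecticGroup (Fin n) F)),
      E₀ ≤ S₀ ∧
      (S₀ : Subgroup (symplecticGroup (Fin n) F))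
        ≤ Subgroup.normalizer (E₀ : Set (symplecticGroup (Fin n) F)) ∧
      (∀ a ∈ E₀, a ^ 2 = 1) ∧ Nat.card E₀ = 2 ^ n := by
  have h2 := two_ne_zero_of_odd hodd
  obtain ⟨K, E₀, hEK, hKN, hsq, hcE, hcK⟩ :=
    Cfsg.Agent.Lib.helper4.SpWreath.exists_K h2 (rfl : Fintype.card F = Fintype.card F) n
  haveI : Fact (Nat.Prime 2) := ⟨Nat.prime_two⟩
  have hq1 : 1 < Fintype.card F := Fintype.one_lt_card
  have hnd : ¬ 2 ∣ Fintype.card F := by
    rw [Nat.odd_iff] at hodd
    omega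
  have hq2 : Fintype.card F ^ 2 - 1 ≠ 0 := by
    have := Nat.one_lt_pow (n := 2) (by omega) hq1
    omega
  have hv : (Nat.card (symplecticGroup (Fin n) F)).factorization 2
      = (Nat.card K).factorization 2 := by
    rw [Nat.factorization_def _ Nat.prime_two, Nat.factorization_def _ Nat.prime_two, hcK,
      Cfsg.Agent.Lib.helper4.card_sp (rfl : Fintype.card F = Fintype.card F) n]
    have hne : ∀ i : ℕ, Fintype.card F ^ (2 * (i + 1)) - 1 ≠ 0 := by
      intro i
      have := Nat.one_lt_pow (n := 2 * (i + 1)) (by omega) hq1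
      omega
    rw [padicValNat.mul (pow_ne_zero _ (by omega)) (Finset.prod_ne_zero_iff.mpr (fun i _ => hne i)),
      padicValNat.pow, padicValNat.eq_zero_of_not_dvd hnd,
      v2_prod _ hodd hq1 n,
      padicValNat.mul (pow_ne_zero _ (mul_ne_zero (by omega) hq2)) (Nat.factorial_ne_zero n),
      padicValNat.pow, padicValNat.mul (by omega) hq2,
      padicValNat.eq_zero_of_not_dvd hnd]
    ring
  obtain ⟨P⟩ : Nonempty (Sylow 2 K) := inferInstance
  have hcP : Nat.card ((P : Subgroup K).map K.subtype)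
      = 2 ^ (Nat.card (symplecticGroup (Fin n) F)).factorization 2 := by
    rw [Subgroup.card_map_of_injective K.subtype_injective, P.card_eq_multiplicity, hv]
  have hS₀N : ((P : Subgroup K).map K.subtype)
      ≤ Subgroup.normalizer (E₀ : Set (symplecticGroup (Fin n) F)) :=
    (Subgroup.map_subtype_le _).trans hKN
  refine ⟨Sylow.ofCard _ hcP, E₀, ?_, hS₀N, hsq, hcE⟩
  have hp : IsPGroup 2 ↥(((P : Subgroup K).map K.subtype) ⊔ E₀ :
      Subgroup (symplecticGroup (Fin n) F)) :=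
    IsPGroup.to_sup_of_normal_right' (IsPGroup.of_card hcP) (IsPGroup.of_card hcE) hS₀N
  have hmax := (Sylow.ofCard _ hcP).is_maximal' hp le_sup_left
  intro x hx
  have : x ∈ ((P : Subgroup K).map K.subtype) ⊔ E₀ := (le_sup_right : E₀ ≤ _) hx
  rw [hmax] at this
  exact this

theorem exists_EA_all [Fintype F] (hodd : Odd (Fintype.card F)) (n : ℕ)
    (S : Sylow 2 (symplecticGroup (Fin n) F)) :
    ∃ E₁ : Subgroup (symplecticGroup (Fin n) F), E₁ ≤ S ∧
      (S : Subgroup (symplecticGroup (Fin n) F))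
        ≤ Subgroup.normalizer (E₁ : Set (symplecticGroup (Fin n) F)) ∧
      (∀ a ∈ E₁, a ^ 2 = 1) ∧ Nat.card E₁ = 2 ^ n := by
  haveI : Fact (Nat.Prime 2) := ⟨Nat.prime_two⟩
  obtain ⟨S₀, E₀, hES, hSN, hsq, hc⟩ := exists_sylow_EA hodd n
  obtain ⟨g, hg⟩ := MulAction.exists_smul_eq (symplecticGroup (Fin n) F) S₀ S
  have hmem : ∀ x, x ∈ (S : Subgroup (symplecticGroup (Fin n) F)) ↔
      g⁻¹ * x * g ∈ (S₀ : Subgroup (symplecticGroup (Fin n) F)) := by
    intro x
    rw [← hg, Sylow.coe_subgroup_smul, Subgroup.mem_pointwise_smul_iff_inv_smul_mem,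
      MulAut.smul_def, MulAut.conj_inv_apply]
  refine ⟨E₀.map (MulAut.conj g).toMonoidHom, ?_, ?_, ?_, ?_⟩
  · rintro _ ⟨a, ha, rfl⟩
    rw [hmem]
    have : g⁻¹ * (MulAut.conj g).toMonoidHom a * g = a := by
      show g⁻¹ * (g * a * g⁻¹) * g = a
      group
    rw [this]
    exact hES ha
  · apply Cfsg.Agent.Lib.helper4.SpWreath.le_normalizer_of
    rintro x hx _ ⟨a, ha, rfl⟩
    rw [hmem] at hx
    have hs := hSN hx
    have h1 := (Subgroup.mem_normalizer_iff.mp hs a).mp ha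
    refine ⟨_, h1, ?_⟩
    show g * ((g⁻¹ * x * g) * a * (g⁻¹ * x * g)⁻¹) * g⁻¹ = x * (g * a * g⁻¹) * x⁻¹
    group
  · rintro _ ⟨a, ha, rfl⟩
    rw [← map_pow, hsq a ha, map_one]
  · rw [Subgroup.card_map_of_injective (MulAut.conj g).injective, hc]

/-- The maximal order of a normal elementary abelian 2-subgroup of a Sylow 2-subgroup of
`Sp_2n(q)`, `q` odd, is `2 ^ n`. -/
theorem sylow_EA [Fintype F] (hodd : Odd (Fintype.card F)) (n : ℕ)
    (S : Sylow 2 (symplecticGroup (Fin n) F)) :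
    (∃ E : Subgroup ↥(S : Subgroup (symplecticGroup (Fin n) F)),
        E.Normal ∧ Cfsg.IsElementaryAbelian 2 E ∧ 2 ^ n ≤ Nat.card ↥E) ∧
      ∀ E : Subgroup ↥(S : Subgroup (symplecticGroup (Fin n) F)),
        E.Normal → Cfsg.IsElementaryAbelian 2 E → Nat.card ↥E ≤ 2 ^ n := by
  constructor
  · obtain ⟨E₁, hES, hSN, hsq, hc⟩ := exists_EA_all hodd n S
    refine ⟨E₁.subgroupOf S, (Subgroup.normal_subgroupOf_iff_le_normalizer hES).mpr hSN,
      ⟨⟨⟨fun a b => ?_⟩⟩, ?_⟩, ?_⟩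
    · apply Subtype.ext
      apply Subtype.ext
      exact comm_of_sq E₁ hsq a.1.1 b.1.1 a.2 b.2
    · intro a ha
      apply Subtype.ext
      exact hsq a.1 ha
    · rw [Nat.card_congr (Subgroup.subgroupOfEquivOfLe hES).toEquiv, hc]
  · intro E _ hE
    have := sp_invol_card_le (two_ne_zero_of_odd hodd) n
      (E.map (S : Subgroup (symplecticGroup (Fin n) F)).subtype) (by
        rintro _ ⟨a, ha, rfl⟩
        rw [← map_pow, hE.2 a ha, map_one])
    rwa [Subgroup.card_map_of_injective (Subgroup.subtype_injective _)] at this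

end Cfsg.Agent.Lib.helper4.SpSylowEA
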