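import Mathlib
import Cfsg.Agent.Lib.helper4.SpSylowEA

/-!
# The subgroup `(GL_a(F) ≀ S_m) × T_b` of `GL_n(F)`, `n = a m + b`
-/

namespace Cfsg.Agent.Lib.helper4.GLWreath

open Matrix

variable {F : Type*} [Field F] {β : Type*} [Fintype β] [DecidableEq β] {m : ℕ}

/-- The permutation of the blocks. -/
def shE (β : Type*) (σ : Equiv.Perm (Fin m)) : β × Fin m ≃ β × Fin m :=
  Equiv.prodCongr (Equiv.refl _) σ

/-- Permutation matrices of the blocks. -/
def P (F : Type*) [Field F] (β : Type*) [Fintype β] [DecidableEq β] (σ : Equiv.Perm (Fin m)) :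
    Matrix (β × Fin m) (β × Fin m) F :=
  (1 : Matrix (β × Fin m) (β × Fin m) F).submatrix (shE β σ⁻¹) id

theorem P_mul (σ : Equiv.Perm (Fin m)) (M : Matrix (β × Fin m) (β × Fin m) F) :
    P F β σ * M = M.submatrix (shE β σ⁻¹) id := by
  have := Matrix.one_submatrix_mul (shE β σ⁻¹ : β × Fin m → β × Fin m)
    (Equiv.refl (β × Fin m)) M
  simpa [P] using this

theorem mul_P (σ : Equiv.Perm (Fin m)) (M : Matrix (β × Fin m) (β × Fin m) F) :
    M * P F β σ = M.submatrix id (shE β σ) := by
  have := Matrix.mul_submatrix_one (shE β σ⁻¹) (id : β × Fin m → β × Fin m) M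
  exact this

theorem P_one : P F β (1 : Equiv.Perm (Fin m)) = 1 := by
  ext x y
  simp [P, shE, Matrix.one_apply]

theorem P_mul' (σ τ : Equiv.Perm (Fin m)) : P F β (σ * τ) = P F β σ * P F β τ := by
  rw [P_mul]
  ext x y
  simp [P, shE, Matrix.one_apply, _root_.mul_inv_rev]
  rfl

theorem bd_conj (σ : Equiv.Perm (Fin m)) (f : Fin m → Matrix β β F) :
    P F β σ * blockDiagonal f * P F β σ⁻¹ = blockDiagonal (fun i => f (σ⁻¹ i)) := by
  rw [P_mul, mul_P]
  ext ⟨s, i⟩ ⟨t, j⟩
  simp [blockDiagonal_apply, shE]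

/-- The block-diagonal embedding. -/
def f₁ (F : Type*) [Field F] (β : Type*) [Fintype β] [DecidableEq β] (m : ℕ) :
    (Fin m → GL β F) →* GL (β × Fin m) F :=
  (Units.map (blockDiagonalRingHom β (Fin m) F).toMonoidHom).comp
    (MulEquiv.piUnits (M := fun _ : Fin m => Matrix β β F)).symm.toMonoidHom

theorem f₁_coe (f : Fin m → GL β F) :
    ((f₁ F β m f : GL (β × Fin m) F) : Matrix (β × Fin m) (β × Fin m) F)
      = blockDiagonal (fun i => (f i : Matrix β β F)) := rfl

/-- The permutation embedding. -/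
def f₂ (F : Type*) [Field F] (β : Type*) [Fintype β] [DecidableEq β] (m : ℕ) :
    Equiv.Perm (Fin m) →* GL (β × Fin m) F :=
  MonoidHom.toHomUnits { toFun := P F β, map_one' := P_one, map_mul' := P_mul' }

theorem f₂_coe (σ : Equiv.Perm (Fin m)) :
    ((f₂ F β m σ : GL (β × Fin m) F) : Matrix (β × Fin m) (β × Fin m) F) = P F β σ := rfl

theorem conj_rel (σ : Equiv.Perm (Fin m)) (f : Fin m → GL β F) :
    f₂ F β m σ * f₁ F β m f * (f₂ F β m σ)⁻¹ = f₁ F β m (fun i => f (σ⁻¹ i)) := by
  rw [← map_inv]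
  apply Units.ext
  rw [Units.val_mul, Units.val_mul, f₂_coe, f₂_coe, f₁_coe, f₁_coe, bd_conj]

/-- The wreath product `GL_a(F) ≀ S_m`. -/
abbrev W (F : Type*) [Field F] (β : Type*) [Fintype β] [DecidableEq β] (m : ℕ) :=
  (Fin m → GL β F) ⋊[mulAutArrow (G := Equiv.Perm (Fin m)) (A := Fin m)
    (M := GL β F)] Equiv.Perm (Fin m)

/-- The embedding of the wreath product. -/
def Φ (F : Type*) [Field F] (β : Type*) [Fintype β] [DecidableEq β] (m : ℕ) :
    W F β m →* GL (β × Fin m) F :=
  SemidirectProduct.lift (f₁ F β m) (f₂ F β m) (fun σ => MonoidHom.ext fun f => by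
    rw [MonoidHom.comp_apply, MonoidHom.comp_apply]
    exact (conj_rel σ f).symm)

theorem Φ_apply (w : W F β m) : Φ F β m w = f₁ F β m w.left * f₂ F β m w.right := rfl

theorem Φ_injective [Nonempty β] : Function.Injective (Φ F β m) := by
  rw [injective_iff_map_eq_one]
  intro w hw
  have h3 : blockDiagonal (fun i => ((w.left i : GL β F) : Matrix β β F)) * P F β w.right
      = 1 := by
    have := congrArg Units.val hw
    rw [Φ_apply, Units.val_mul, f₁_coe, f₂_coe] at this
    exact this
  rw [mul_P] at h3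
  have key : ∀ (s t : β) (i j : Fin m),
      (if i = w.right j then ((w.left i : GL β F) : Matrix β β F) s t else 0)
        = if s = t ∧ i = j then 1 else 0 := by
    intro s t i j
    have := congrFun (congrFun h3 (s, i)) (t, j)
    simpa [blockDiagonal_apply, shE, Matrix.one_apply] using this
  have hσ : w.right = 1 := by
    apply Equiv.ext
    intro j
    by_contra hne
    have hz : ((w.left (w.right j) : GL β F) : Matrix β β F) = 0 := by
      ext s t
      have := key s t (w.right j) j
      rw [if_pos rfl] at this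
      rw [this, if_neg (fun h => hne h.2)]; rfl
    have h5 : ((w.left (w.right j) : GL β F) : Matrix β β F)
        * (((w.left (w.right j))⁻¹ : GL β F) : Matrix β β F) = 1 := Units.mul_inv _
    rw [hz, zero_mul] at h5
    obtain ⟨s⟩ := ‹Nonempty β›
    have := congrFun (congrFun h5 s) s
    simp at this
  have hf : w.left = 1 := by
    funext i
    apply Units.ext
    ext s t
    have := key s t i i
    rw [hσ] at this
    simp only [Equiv.Perm.coe_one, id_eq, if_true, and_true] at this
    rw [this]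
    simp [Matrix.one_apply]
  exact SemidirectProduct.ext hf hσ

/-- The diagonal torus. -/
def τ (F : Type*) [Field F] (b : ℕ) : (Fin b → Fˣ) →* GL (Fin b) F :=
  (Units.map (Matrix.diagonalRingHom (Fin b) F).toMonoidHom).comp
    (MulEquiv.piUnits (M := fun _ : Fin b => F)).symm.toMonoidHom

theorem τ_injective (b : ℕ) : Function.Injective (τ F b) := by
  intro x y hxy
  have h1 : Matrix.diagonal (fun i => ((x i : Fˣ) : F))
      = Matrix.diagonal (fun i => ((y i : Fˣ) : F)) := congrArg Units.val hxy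
  have h2 := Matrix.diagonal_injective h1
  funext i
  exact Units.ext (congrFun h2 i)

/-- Block sum of matrices. -/
def blk₀ (F : Type*) [Field F] (α γ : Type*) [Fintype α] [DecidableEq α] [Fintype γ]
    [DecidableEq γ] : Matrix α α F × Matrix γ γ F →* Matrix (α ⊕ γ) (α ⊕ γ) F where
  toFun x := Matrix.fromBlocks x.1 0 0 x.2
  map_one' := Matrix.fromBlocks_one
  map_mul' x y := by simp [Matrix.fromBlocks_multiply]

/-- Block sum of invertible matrices. -/
def blk (F : Type*) [Field F] (α γ : Type*) [Fintype α] [DecidableEq α] [Fintype γ]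
    [DecidableEq γ] : GL α F × GL γ F →* GL (α ⊕ γ) F :=
  (Units.map (blk₀ F α γ)).comp MulEquiv.prodUnits.symm.toMonoidHom

theorem blk_injective (α γ : Type*) [Fintype α] [DecidableEq α] [Fintype γ]
    [DecidableEq γ] : Function.Injective (blk F α γ) := by
  intro x y hxy
  have h1 : Matrix.fromBlocks (x.1 : Matrix α α F) 0 0 (x.2 : Matrix γ γ F)
      = Matrix.fromBlocks (y.1 : Matrix α α F) 0 0 (y.2 : Matrix γ γ F) :=
    congrArg Units.val hxy
  rw [Matrix.fromBlocks_inj] at h1
  exact Prod.ext (Units.ext h1.1) (Units.ext h1.2.2.2)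

/-- The signs in `F`. -/
def sg (F : Type*) [Field F] : ℤˣ →* Fˣ := Units.map (Int.castRingHom F).toMonoidHom

theorem sg_injective (h2 : (2 : F) ≠ 0) : Function.Injective (sg F) := by
  intro u v huv
  have h1 : ((u : ℤ) : F) = ((v : ℤ) : F) := congrArg Units.val huv
  rcases Int.units_eq_one_or u with hu | hu <;> rcases Int.units_eq_one_or v with hv | hv
  · rw [hu, hv]
  · exfalso
    rw [hu, hv] at h1
    apply h2
    have : (1 : F) = -1 := by simpa using h1
    linear_combination this
  · exfalso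
    rw [hu, hv] at h1
    apply h2
    have : (-1 : F) = 1 := by simpa using h1
    linear_combination -this
  · rw [hu, hv]

/-- The scalar matrices. -/
def sc (F : Type*) [Field F] (β : Type*) [Fintype β] [DecidableEq β] : Fˣ →* GL β F :=
  Units.map (Matrix.scalar β).toMonoidHom

theorem sc_injective [Nonempty β] : Function.Injective (sc F β) := by
  intro x y hxy
  have h1 : Matrix.scalar β (x : F) = Matrix.scalar β (y : F) := congrArg Units.val hxy
  exact Units.ext (Matrix.scalar_inj.mp h1)

theorem sc_central (x : Fˣ) (A : GL β F) : A * sc F β x * A⁻¹ = sc F β x := by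
  have h : A * sc F β x = sc F β x * A := by
    apply Units.ext
    show (A : Matrix β β F) * Matrix.scalar β (x : F) = Matrix.scalar β (x : F) * (A : Matrix β β F)
    exact ((Matrix.scalar_commute (x : F) (fun r => Commute.all _ _) _).eq).symm
  rw [h, mul_inv_cancel_right]

/-- The elementary abelian subgroup, abstractly. -/
def η (F : Type*) [Field F] (β : Type*) [Fintype β] [DecidableEq β] (m b : ℕ) :
    (Fin m → ℤˣ) × (Fin b → ℤˣ) →* W F β m × (Fin b → Fˣ) :=
  ((SemidirectProduct.inl).comp (((sc F β).comp (sg F)).compLeft (Fin m))).prodMap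
    ((sg F).compLeft (Fin b))

theorem η_injective [Nonempty β] (h2 : (2 : F) ≠ 0) (b : ℕ) :
    Function.Injective (η F β m b) := by
  intro x y hxy
  have h1 := congrArg Prod.fst hxy
  have h2' := congrArg Prod.snd hxy
  have h3 : ((sc F β).comp (sg F)).compLeft (Fin m) x.1
      = ((sc F β).comp (sg F)).compLeft (Fin m) y.1 :=
    SemidirectProduct.inl_injective h1
  refine Prod.ext ?_ ?_
  · funext i
    exact sg_injective h2 (sc_injective (congrFun h3 i))
  · funext i
    have h4 : (sg F).compLeft (Fin b) x.2 = (sg F).compLeft (Fin b) y.2 := h2'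
    exact sg_injective h2 (congrFun h4 i)

theorem η_normal (b : ℕ) (w : W F β m × (Fin b → Fˣ)) (x : (Fin m → ℤˣ) × (Fin b → ℤˣ)) :
    w * η F β m b x * w⁻¹ = η F β m b (fun i => x.1 (w.1.right⁻¹ i), x.2) := by
  refine Prod.ext ?_ ?_
  · show w.1 * SemidirectProduct.inl (((sc F β).comp (sg F)).compLeft (Fin m) x.1) * w.1⁻¹
      = SemidirectProduct.inl (((sc F β).comp (sg F)).compLeft (Fin m)
        (fun i => x.1 (w.1.right⁻¹ i)))
    have e1 : w.1 = SemidirectProduct.inl w.1.left * SemidirectProduct.inr w.1.right :=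
      (SemidirectProduct.inl_left_mul_inr_right w.1).symm
    have e2 : w.1 * SemidirectProduct.inl (((sc F β).comp (sg F)).compLeft (Fin m) x.1) * w.1⁻¹
        = SemidirectProduct.inl w.1.left * (SemidirectProduct.inr w.1.right
          * SemidirectProduct.inl (((sc F β).comp (sg F)).compLeft (Fin m) x.1)
          * SemidirectProduct.inr w.1.right⁻¹) * (SemidirectProduct.inl w.1.left)⁻¹ := by
      conv_lhs => rw [e1]
      rw [_root_.mul_inv_rev, ← map_inv SemidirectProduct.inr]
      group
    rw [e2, ← SemidirectProduct.inl_aut, ← map_inv, ← map_mul, ← map_mul]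
    congr 1
    funext i
    rw [Pi.mul_apply, Pi.mul_apply, Pi.inv_apply]
    exact sc_central _ _
  · show w.2 * (sg F).compLeft (Fin b) x.2 * w.2⁻¹ = (sg F).compLeft (Fin b) x.2
    rw [mul_comm w.2, mul_inv_cancel_right]

theorem exists_KE [Fintype F] [Nonempty β] (h2 : (2 : F) ≠ 0) (m b n : ℕ)
    (hn : Fintype.card β * m + b = n) :
    ∃ K E₀ : Subgroup (GL (Fin n) F), E₀ ≤ K ∧
      K ≤ Subgroup.normalizer (E₀ : Set (GL (Fin n) F)) ∧
      (∀ a ∈ E₀, a ^ 2 = 1) ∧ Nat.card E₀ = 2 ^ (m + b) ∧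
      Nat.card K = Nat.card (GL β F) ^ m * m.factorial * (Fintype.card F - 1) ^ b := by
  classical
  have e : (β × Fin m) ⊕ Fin b ≃ Fin n :=
    Fintype.equivOfCardEq (by simp [hn])
  obtain ⟨Ψ, hΨ⟩ : ∃ Ψ : W F β m × (Fin b → Fˣ) →* GL (Fin n) F, Function.Injective Ψ := by
    refine ⟨(Units.mapEquiv (Matrix.reindexAlgEquiv F F e).toMulEquiv).toMonoidHom.comp
      ((blk F (β × Fin m) (Fin b)).comp ((Φ F β m).prodMap (τ F b))), ?_⟩
    intro x y hxy
    have h1 := (Units.mapEquiv (Matrix.reindexAlgEquiv F F e).toMulEquiv).injective hxy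
    have h3 := blk_injective _ _ h1
    have h4 : Φ F β m x.1 = Φ F β m y.1 := congrArg Prod.fst h3
    have h5 : τ F b x.2 = τ F b y.2 := congrArg Prod.snd h3
    exact Prod.ext (Φ_injective h4) (τ_injective b h5)
  have hinj : Function.Injective (Ψ.comp (η F β m b)) := hΨ.comp (η_injective h2 b)
  refine ⟨Ψ.range, (Ψ.comp (η F β m b)).range, ?_, ?_, ?_, ?_, ?_⟩
  · rintro _ ⟨x, rfl⟩
    exact ⟨η F β m b x, rfl⟩
  · apply Cfsg.Agent.Lib.helper4.SpWreath.le_normalizer_of
    rintro _ ⟨w, rfl⟩ _ ⟨x, rfl⟩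
    refine ⟨(fun i => x.1 (w.1.right⁻¹ i), x.2), ?_⟩
    rw [MonoidHom.comp_apply, MonoidHom.comp_apply, ← η_normal, map_mul, map_mul, map_inv]
  · rintro _ ⟨x, rfl⟩
    rw [← map_pow]
    have : x ^ 2 = 1 := by
      refine Prod.ext ?_ ?_
      · funext i
        show (x.1 i) ^ 2 = 1
        exact Int.units_sq _
      · funext i
        show (x.2 i) ^ 2 = 1
        exact Int.units_sq _
    rw [this, map_one]
  · rw [← Nat.card_congr (MonoidHom.ofInjective hinj).toEquiv, Nat.card_prod, Nat.card_fun,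
      Nat.card_fun, Nat.card_eq_fintype_card, Nat.card_eq_fintype_card, Fintype.card_units_int,
      Fintype.card_fin, Nat.card_eq_fintype_card, Fintype.card_fin, pow_add]
  · rw [← Nat.card_congr (MonoidHom.ofInjective hΨ).toEquiv, Nat.card_prod,
      SemidirectProduct.card, Nat.card_fun, Nat.card_fun, Nat.card_perm, Nat.card_units]
    simp only [Nat.card_eq_fintype_card, Fintype.card_fin]

end Cfsg.Agent.Lib.helper4.GLWreath
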