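import Mathlib
import Cfsg.Agent.Lib.helper4.UGroup

set_option autoImplicit false
set_option linter.unusedSectionVars false

/-!
# The special unitary group: order
-/

namespace Cfsg.Agent.Lib.helper4

open Matrix

section USU

variable {F : Type*} [Field F] [Fintype F] {q : ℕ} {n : ℕ}

theorem mem_SU_iff (A : Matrix.SpecialLinearGroup (Fin n) F) : A ∈ Cfsg.SU n F q ↔
    ∀ u v, Cfsg.hermForm n F q ((A : Matrix (Fin n) (Fin n) F) *ᵥ u)
      ((A : Matrix (Fin n) (Fin n) F) *ᵥ v) = Cfsg.hermForm n F q u v := Iff.rfl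

theorem su_pres (A : Cfsg.SU n F q) (u v : Fin n → F) :
    Cfsg.hermForm n F q (((A : Matrix.SpecialLinearGroup (Fin n) F) : Matrix (Fin n) (Fin n) F) *ᵥ u)
      (((A : Matrix.SpecialLinearGroup (Fin n) F) : Matrix (Fin n) (Fin n) F) *ᵥ v)
      = Cfsg.hermForm n F q u v := A.2 u v

/-- an element of `SU` from a form-preserving matrix of determinant one. -/
theorem su_mk (M : Matrix (Fin n) (Fin n) F)
    (hM : ∀ u v, Cfsg.hermForm n F q (M *ᵥ u) (M *ᵥ v) = Cfsg.hermForm n F q u v)
    (hdet : M.det = 1) :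
    ∃ A : Cfsg.SU n F q,
      ((A : Matrix.SpecialLinearGroup (Fin n) F) : Matrix (Fin n) (Fin n) F) = M :=
  ⟨⟨⟨M, hdet⟩, hM⟩, rfl⟩

theorem exists_detHom (hF : Fintype.card F = q ^ 2) (n : ℕ) :
    ∃ D : Cfsg.GU n F q →* (powMonoidHom (q + 1) : Fˣ →* Fˣ).ker,
      ∀ g, ((D g : (powMonoidHom (q + 1) : Fˣ →* Fˣ).ker) : Fˣ)
        = Matrix.GeneralLinearGroup.det (g : Matrix.GeneralLinearGroup (Fin n) F) := by
  refine ⟨{ toFun := fun g => ⟨Matrix.GeneralLinearGroup.det
                (g : Matrix.GeneralLinearGroup (Fin n) F), ?_⟩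
            map_one' := ?_
            map_mul' := ?_ }, fun g => rfl⟩
  · rw [MonoidHom.mem_ker, powMonoidHom_apply]
    exact Cfsg.Agent.S0783.det_pow_of_mem hF n g.1 g.2
  · apply Subtype.ext
    exact map_one _
  · intro a b
    apply Subtype.ext
    exact map_mul _ _ _

/-- the diagonal matrix with one entry `y` of norm one is in `GU`. -/
theorem gu_diag_one (i : Fin n) (y : F) (hy : y ^ (q + 1) = 1) :
    ∃ g : Matrix.GeneralLinearGroup (Fin n) F, g ∈ Cfsg.GU n F q ∧
      (g : Matrix (Fin n) (Fin n) F) = Matrix.diagonal (fun j => if j = i then y else 1) ∧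
      (g : Matrix (Fin n) (Fin n) F).det = y := by
  classical
  obtain ⟨g, hg, hgv⟩ := Cfsg.Agent.S0783.exists_diag (q := q) n
    (fun j : Fin n => if j = i then y else 1) (by
      intro j
      by_cases hj : j = i
      · simp only [if_pos hj]; exact hy
      · simp only [if_neg hj]; exact one_pow _)
  refine ⟨g, hg, hgv, ?_⟩
  rw [hgv, Matrix.det_diagonal, Finset.prod_ite_eq' Finset.univ i (fun _ => y)]
  simp

theorem card_su (hF : Fintype.card F = q ^ 2) (hn : 1 ≤ n) :
    (q + 1) * Nat.card (Cfsg.SU n F q) = Nat.card (Cfsg.GU n F q) := by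
  classical
  obtain ⟨D, hD⟩ := exists_detHom hF n
  have hsurj : Function.Surjective D := by
    intro y
    have hy : ((y : Fˣ) : F) ^ (q + 1) = 1 := by
      have h1 := y.2
      rw [MonoidHom.mem_ker, powMonoidHom_apply] at h1
      rw [← Units.val_pow_eq_pow_val, h1, Units.val_one]
    obtain ⟨g, hg, -, hgdet⟩ := gu_diag_one (q := q) (⟨0, by omega⟩ : Fin n) ((y : Fˣ) : F) hy
    refine ⟨⟨g, hg⟩, ?_⟩
    apply Subtype.ext
    apply Units.ext
    rw [hD, Matrix.GeneralLinearGroup.val_det_apply]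
    exact hgdet
  have h1 : Nat.card (Cfsg.GU n F q) = Nat.card D.ker * (q + 1) := by
    rw [← Subgroup.card_mul_index D.ker, Subgroup.index_ker, MonoidHom.range_eq_top.mpr hsurj,
      Subgroup.card_top, Cfsg.Agent.S0783.card_K hF]
  have h2 : Nat.card (Cfsg.SU n F q) = Nat.card D.ker := by
    refine Nat.card_congr
      { toFun := fun A => ⟨⟨Matrix.SpecialLinearGroup.toGL A.1, A.2⟩, ?_⟩
        invFun := fun g => ⟨⟨(((g.1 : Cfsg.GU n F q) : Matrix.GeneralLinearGroup (Fin n) F) :
            Matrix (Fin n) (Fin n) F), ?_⟩, ?_⟩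
        left_inv := fun A => rfl
        right_inv := fun g => ?_ }
    · rw [MonoidHom.mem_ker]
      apply Subtype.ext
      apply Units.ext
      rw [hD, Matrix.GeneralLinearGroup.val_det_apply]
      exact A.1.2
    · have h3 := g.2
      rw [MonoidHom.mem_ker] at h3
      have h4 := congrArg (fun x : (powMonoidHom (q + 1) : Fˣ →* Fˣ).ker => ((x : Fˣ) : F)) h3
      simp only [hD, Matrix.GeneralLinearGroup.val_det_apply] at h4
      exact h4
    · exact g.1.2
    · apply Subtype.ext
      apply Subtype.ext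
      apply Units.ext
      rfl
  rw [h1, h2, mul_comm]

end USU

end Cfsg.Agent.Lib.helper4
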