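import Mathlib
import Cfsg.Agent.Lib.helper4.USU

set_option autoImplicit false
set_option linter.unusedSectionVars false

/-!
# The centre of the special unitary group
-/

namespace Cfsg.Agent.Lib.helper4

open Matrix

section UCenter

variable {F : Type*} [Field F] [Fintype F] {q : ℕ} {n : ℕ}

theorem neg_one_pow_q1 (hF : Fintype.card F = q ^ 2) : (-1 : F) ^ (q + 1) = 1 := by
  rcases Nat.even_or_odd q with he | ho
  · have h2 : ringChar F = 2 := by
      rw [FiniteField.even_card_iff_char_two, hF]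
      have : Even (q ^ 2) := he.pow_of_ne_zero two_ne_zero
      exact Nat.even_iff.mp this
    rw [neg_one_eq_one_iff.mpr h2, one_pow]
  · exact Even.neg_one_pow ho.add_one

theorem exists_y2 (hF : Fintype.card F = q ^ 2) : ∃ y : F, y ^ (q + 1) = 1 ∧ y ^ 2 ≠ 1 := by
  classical
  have hq := uq_ge_two hF
  obtain ⟨ζ, hζ⟩ := IsCyclic.exists_generator (α := Fˣ)
  have hord : orderOf ζ = q ^ 2 - 1 := by
    rw [orderOf_eq_card_of_forall_mem_zpowers hζ, Nat.card_eq_fintype_card, Fintype.card_units, hF]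
  have hmul : (q - 1) * (q + 1) = q ^ 2 - 1 := by
    obtain ⟨r, rfl⟩ : ∃ r, q = r + 1 := ⟨q - 1, by omega⟩
    simp only [Nat.add_sub_cancel]
    have : (r + 1) ^ 2 = r * (r + 1 + 1) + 1 := by ring
    rw [this, Nat.add_sub_cancel]
  refine ⟨((ζ ^ (q - 1) : Fˣ) : F), ?_, ?_⟩
  · rw [← Units.val_pow_eq_pow_val, ← pow_mul, hmul, ← hord, pow_orderOf_eq_one, Units.val_one]
  · intro h
    have h1 : ζ ^ ((q - 1) * 2) = 1 := by
      apply Units.ext
      rw [pow_mul, Units.val_pow_eq_pow_val, h, Units.val_one]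
    have h2 := orderOf_dvd_of_pow_eq_one h1
    rw [hord] at h2
    have h3 := Nat.le_of_dvd (by omega) h2
    have h4 : q ^ 2 = q * q := sq q
    have h5 : 2 * q ≤ q * q := Nat.mul_le_mul_right q hq
    omega

/-- the signed swap `swap i j * diag(-1 at i)` lies in `SU`. -/
theorem exists_signed_swap (hF : Fintype.card F = q ^ 2) (i j : Fin n) (hij : i ≠ j) :
    ∃ A : Cfsg.SU n F q,
      ((A : Matrix.SpecialLinearGroup (Fin n) F) : Matrix (Fin n) (Fin n) F)
        = Matrix.swap F i j * Matrix.diagonal (fun k => if k = i then (-1 : F) else 1) := by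
  classical
  obtain ⟨g, hg, hgv, hgdet⟩ := gu_diag_one (q := q) i (-1 : F) (neg_one_pow_q1 hF)
  have hs := Cfsg.Agent.S0783.swap_mem (F := F) (q := q) n i j
  have hmem := (Cfsg.GU n F q).mul_mem hs hg
  obtain ⟨A, hA⟩ := su_mk (q := q) (Matrix.swap F i j * (g : Matrix (Fin n) (Fin n) F))
    ((mem_GU_iff _).mp hmem) (by
      rw [Matrix.det_mul, hgdet, Matrix.swap, Matrix.det_permutation, Equiv.Perm.sign_swap hij]
      simp)
  exact ⟨A, by rw [hA, hgv]⟩

theorem su_center_scalar (hF : Fintype.card F = q ^ 2) (hn : 2 ≤ n)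
    (z : Cfsg.SU n F q) (hz : z ∈ Subgroup.center (Cfsg.SU n F q)) :
    ∃ c : F, ((z : Matrix.SpecialLinearGroup (Fin n) F) : Matrix (Fin n) (Fin n) F)
      = Matrix.diagonal (fun _ => c) := by
  classical
  obtain ⟨y, hy, hy2⟩ := exists_y2 hF
  have hy0 : y ≠ 0 := by
    rintro rfl
    rw [zero_pow (by omega)] at hy
    exact zero_ne_one hy
  have hyi : y⁻¹ ^ (q + 1) = 1 := by rw [inv_pow, hy, inv_one]
  rw [Subgroup.mem_center_iff] at hz
  obtain ⟨Z, hZ⟩ : ∃ Z : Matrix (Fin n) (Fin n) F,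
      Z = ((z : Matrix.SpecialLinearGroup (Fin n) F) : Matrix (Fin n) (Fin n) F) := ⟨_, rfl⟩
  have hcomm : ∀ (A : Cfsg.SU n F q),
      ((A : Matrix.SpecialLinearGroup (Fin n) F) : Matrix (Fin n) (Fin n) F) * Z
        = Z * ((A : Matrix.SpecialLinearGroup (Fin n) F) : Matrix (Fin n) (Fin n) F) := by
    intro A
    have h1 := hz A
    have h2 := congrArg (fun w : ↥(Cfsg.SU n F q) =>
      ((w : Matrix.SpecialLinearGroup (Fin n) F) : Matrix (Fin n) (Fin n) F)) h1
    rw [hZ]
    exact h2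
  rw [← hZ]
  have hoff : ∀ a i : Fin n, a ≠ i → Z a i = 0 := by
    intro a i hai
    obtain ⟨g₁, hg₁, hg₁v, hg₁det⟩ := gu_diag_one (q := q) a y hy
    obtain ⟨g₂, hg₂, hg₂v, hg₂det⟩ := gu_diag_one (q := q) i y⁻¹ hyi
    have hmem := (Cfsg.GU n F q).mul_mem hg₁ hg₂
    obtain ⟨A, hA⟩ := su_mk (q := q)
      ((g₁ : Matrix (Fin n) (Fin n) F) * (g₂ : Matrix (Fin n) (Fin n) F))
      ((mem_GU_iff _).mp hmem) (by
        rw [Matrix.det_mul, hg₁det, hg₂det, mul_inv_cancel₀ hy0])
    have h1 := congrFun (congrFun (hcomm A) a) i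
    rw [hA, hg₁v, hg₂v, Matrix.diagonal_mul_diagonal, Matrix.diagonal_mul, Matrix.mul_diagonal,
      if_pos rfl, if_neg hai, if_neg hai.symm, if_pos rfl] at h1
    have h2 : Z a i * (y ^ 2 - 1) = 0 := by
      have : Z a i * (y ^ 2 - 1) = y * (y * 1 * Z a i - Z a i * (1 * y⁻¹)) := by
        field_simp
      rw [this, h1, sub_self, mul_zero]
    rcases mul_eq_zero.mp h2 with h | h
    · exact h
    · exact absurd (sub_eq_zero.mp h) hy2
  have hdiagZ : Z = Matrix.diagonal (fun k => Z k k) := by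
    ext a b
    rw [Matrix.diagonal_apply]
    by_cases hab : a = b
    · rw [if_pos hab, hab]
    · rw [if_neg hab]; exact hoff a b hab
  have hdiag : ∀ i j : Fin n, Z i i = Z j j := by
    intro i j
    by_cases hij : i = j
    · rw [hij]
    obtain ⟨A, hA⟩ := exists_signed_swap hF i j hij
    have h0 := hcomm A
    rw [hA] at h0
    obtain ⟨D, hD⟩ : ∃ D : Matrix (Fin n) (Fin n) F,
        D = Matrix.diagonal (fun k => if k = i then (-1 : F) else 1) := ⟨_, rfl⟩
    rw [← hD] at h0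
    have hDD : D * D = 1 := by
      rw [hD, Matrix.diagonal_mul_diagonal, ← Matrix.diagonal_one]
      congr 1
      funext k
      by_cases hk : k = i
      · simp [hk]
      · simp [hk]
    have hDZ : D * Z = Z * D := by
      rw [hD, hdiagZ, Matrix.diagonal_mul_diagonal, Matrix.diagonal_mul_diagonal]
      congr 1
      funext k
      rw [mul_comm]
    have h1 : Matrix.swap F i j * Z = Z * Matrix.swap F i j := by
      have h2 : Matrix.swap F i j * Z * D = Z * Matrix.swap F i j * D := by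
        rw [Matrix.mul_assoc, ← hDZ, ← Matrix.mul_assoc, h0, Matrix.mul_assoc]
      have h3 := congrArg (fun M => M * D) h2
      simp only [Matrix.mul_assoc, hDD, Matrix.mul_one] at h3
      exact h3
    have h2 := congrFun (congrFun h1 i) j
    rw [Matrix.swap_mul_apply_left, Matrix.mul_swap_apply_right] at h2
    exact h2.symm
  refine ⟨Z ⟨0, by omega⟩ ⟨0, by omega⟩, ?_⟩
  ext a b
  rw [Matrix.diagonal_apply]
  by_cases hab : a = b
  · rw [if_pos hab, ← hab]; exact hdiag _ _
  · rw [if_neg hab]; exact hoff a b hab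

/-- the order of the centre of `SU_n(q)`, `n ≥ 2`. -/
theorem card_center_su (hF : Fintype.card F = q ^ 2) (hn : 2 ≤ n) :
    Nat.card (Subgroup.center (Cfsg.SU n F q)) = Nat.gcd n (q + 1) := by
  classical
  have hq := uq_ge_two hF
  have hcardK : Nat.card (powMonoidHom (Nat.gcd n (q + 1)) : Fˣ →* Fˣ).ker = Nat.gcd n (q + 1) := by
    rw [IsCyclic.card_powMonoidHom_ker, Nat.card_eq_fintype_card, Fintype.card_units, hF]
    apply Nat.gcd_eq_right
    refine dvd_trans (Nat.gcd_dvd_right n (q + 1)) ⟨q - 1, ?_⟩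
    obtain ⟨r, rfl⟩ : ∃ r, q = r + 1 := ⟨q - 1, by omega⟩
    simp only [Nat.add_sub_cancel]
    have : (r + 1) ^ 2 = (r + 1 + 1) * r + 1 := by ring
    rw [this, Nat.add_sub_cancel]
  rw [← hcardK]
  symm
  have hpow : ∀ c : (powMonoidHom (Nat.gcd n (q + 1)) : Fˣ →* Fˣ).ker,
      ((c : Fˣ) : F) ^ n = 1 ∧ ((c : Fˣ) : F) ^ (q + 1) = 1 := by
    intro c
    have h1 := c.2
    rw [MonoidHom.mem_ker, powMonoidHom_apply] at h1
    have h2 : ((c : Fˣ) : F) ^ (Nat.gcd n (q + 1)) = 1 := by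
      rw [← Units.val_pow_eq_pow_val, h1, Units.val_one]
    have aux : ∀ y : F, y ^ (Nat.gcd n (q + 1)) = 1 → y ^ n = 1 ∧ y ^ (q + 1) = 1 := by
      intro y hy
      constructor
      · obtain ⟨k, hk⟩ := Nat.gcd_dvd_left n (q + 1)
        calc y ^ n = y ^ (Nat.gcd n (q + 1) * k) := by rw [← hk]
          _ = 1 := by rw [pow_mul, hy, one_pow]
      · obtain ⟨k, hk⟩ := Nat.gcd_dvd_right n (q + 1)
        calc y ^ (q + 1) = y ^ (Nat.gcd n (q + 1) * k) := by rw [← hk]
          _ = 1 := by rw [pow_mul, hy, one_pow]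
    exact aux _ h2
  obtain ⟨f, hf⟩ : ∃ f : (powMonoidHom (Nat.gcd n (q + 1)) : Fˣ →* Fˣ).ker →
      Subgroup.center (Cfsg.SU n F q),
      ∀ c, ((((f c : Subgroup.center (Cfsg.SU n F q)) : Cfsg.SU n F q) :
        Matrix.SpecialLinearGroup (Fin n) F) : Matrix (Fin n) (Fin n) F)
        = Matrix.diagonal (fun _ => ((c : Fˣ) : F)) := by
    have hex : ∀ c : (powMonoidHom (Nat.gcd n (q + 1)) : Fˣ →* Fˣ).ker,
        ∃ z : Subgroup.center (Cfsg.SU n F q),
        (((z : Cfsg.SU n F q) : Matrix.SpecialLinearGroup (Fin n) F) : Matrix (Fin n) (Fin n) F)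
          = Matrix.diagonal (fun _ => ((c : Fˣ) : F)) := by
      intro c
      obtain ⟨g, hg, hgv⟩ := Cfsg.Agent.S0783.exists_diag (q := q) n
        (fun _ : Fin n => ((c : Fˣ) : F)) (fun _ => (hpow c).2)
      obtain ⟨A, hA⟩ := su_mk (q := q) (Matrix.diagonal (fun _ : Fin n => ((c : Fˣ) : F)))
        (by rw [← hgv]; exact (mem_GU_iff _).mp hg) (by
          rw [Matrix.det_diagonal, Finset.prod_const, Finset.card_univ, Fintype.card_fin]
          exact (hpow c).1)
      refine ⟨⟨A, ?_⟩, hA⟩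
      rw [Subgroup.mem_center_iff]
      intro B
      apply Subtype.ext
      apply Subtype.ext
      show ((B : Matrix.SpecialLinearGroup (Fin n) F) : Matrix (Fin n) (Fin n) F)
          * ((A : Matrix.SpecialLinearGroup (Fin n) F) : Matrix (Fin n) (Fin n) F)
        = ((A : Matrix.SpecialLinearGroup (Fin n) F) : Matrix (Fin n) (Fin n) F)
          * ((B : Matrix.SpecialLinearGroup (Fin n) F) : Matrix (Fin n) (Fin n) F)
      rw [hA]
      ext a b
      rw [Matrix.mul_diagonal, Matrix.diagonal_mul, mul_comm]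
    exact ⟨fun c => (hex c).choose, fun c => (hex c).choose_spec⟩
  refine Nat.card_congr (Equiv.ofBijective f ⟨?_, ?_⟩)
  · intro c c' h
    have h1 := congrArg (fun z : Subgroup.center (Cfsg.SU n F q) =>
      (((z : Cfsg.SU n F q) : Matrix.SpecialLinearGroup (Fin n) F) : Matrix (Fin n) (Fin n) F)
        ⟨0, by omega⟩ ⟨0, by omega⟩) h
    simp only [hf, Matrix.diagonal_apply_eq] at h1
    exact Subtype.ext (Units.ext h1)
  · intro z
    obtain ⟨c, hc⟩ := su_center_scalar hF hn z.1 z.2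
    have hpres := su_pres z.1
    rw [hc] at hpres
    have hc1 : c ^ (q + 1) = 1 := by
      have hsm : ∀ u : Fin n → F, (Matrix.diagonal fun _ : Fin n => c) *ᵥ u = c • u := by
        intro u; funext m; rw [Matrix.mulVec_diagonal]; rfl
      have h1 := hpres (Pi.single ⟨0, by omega⟩ 1) (Pi.single ⟨0, by omega⟩ 1)
      rw [hsm, herm_smul_left, herm_smul_right, herm_single_right hF] at h1
      simp only [Pi.single_eq_same, mul_one] at h1
      rw [pow_succ', h1]
    have hcn : c ^ n = 1 := by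
      have h1 := z.1.1.2
      rw [hc, Matrix.det_diagonal, Finset.prod_const, Finset.card_univ, Fintype.card_fin] at h1
      exact h1
    have hc0 : c ≠ 0 := by
      rintro rfl
      rw [zero_pow (by omega)] at hc1
      exact zero_ne_one hc1
    have hcg : c ^ (Nat.gcd n (q + 1)) = 1 := by
      have h1 : (Units.mk0 c hc0) ^ (Nat.gcd n (q + 1)) = 1 :=
        pow_gcd_eq_one.mpr ⟨Units.ext (by simpa using hcn), Units.ext (by simpa using hc1)⟩
      have h2 := congrArg (fun u : Fˣ => (u : F)) h1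
      simpa using h2
    refine ⟨⟨Units.mk0 c hc0, ?_⟩, ?_⟩
    · rw [MonoidHom.mem_ker, powMonoidHom_apply]
      apply Units.ext
      rw [Units.val_pow_eq_pow_val, Units.val_mk0, hcg, Units.val_one]
    · apply Subtype.ext
      apply Subtype.ext
      apply Subtype.ext
      rw [hf, hc]
      rfl

end UCenter

end Cfsg.Agent.Lib.helper4
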