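import Mathlib
import Cfsg.Agent.Lib.helper4.UCenter

set_option autoImplicit false
set_option linter.unusedSectionVars false

/-!
# Unitary transvections in `SU`, the subgroup they generate, and its orbits on norm-one vectors
-/

namespace Cfsg.Agent.Lib.helper4

open Matrix

section UTv

variable {F : Type*} [Field F] [Fintype F] {q : ℕ} {n : ℕ}

/-- the matrix of an element of `SU`. -/
abbrev suM (t : Cfsg.SU n F q) : Matrix (Fin n) (Fin n) F :=
  ((t : Matrix.SpecialLinearGroup (Fin n) F) : Matrix (Fin n) (Fin n) F)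

theorem suM_mul (s t : Cfsg.SU n F q) : suM (s * t) = suM s * suM t := rfl

theorem suM_one : suM (1 : Cfsg.SU n F q) = 1 := rfl

theorem suM_inv_mulVec (t : Cfsg.SU n F q) (x : Fin n → F) : suM t⁻¹ *ᵥ (suM t *ᵥ x) = x := by
  rw [Matrix.mulVec_mulVec, ← suM_mul, inv_mul_cancel, suM_one, Matrix.one_mulVec]

theorem suM_mulVec_inv (t : Cfsg.SU n F q) (x : Fin n → F) : suM t *ᵥ (suM t⁻¹ *ᵥ x) = x := by
  rw [Matrix.mulVec_mulVec, ← suM_mul, mul_inv_cancel, suM_one, Matrix.one_mulVec]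

theorem suM_injective : Function.Injective (suM : Cfsg.SU n F q → Matrix (Fin n) (Fin n) F) :=
  fun _ _ h => Subtype.ext (Subtype.ext h)

theorem herm_utv (hF : Fintype.card F = q ^ 2) (v : Fin n → F)
    (hv : Cfsg.hermForm n F q v v = 0) (c : F) (x y : Fin n → F) :
    Cfsg.hermForm n F q ((Cfsg.unitaryTransvection n q v c) *ᵥ x)
        ((Cfsg.unitaryTransvection n q v c) *ᵥ y)
      = Cfsg.hermForm n F q x y
        + (c ^ q + c) * (Cfsg.hermForm n F q x v * Cfsg.hermForm n F q v y) := by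
  rw [utv_mulVec, utv_mulVec, herm_add_left, herm_add_right hF, herm_add_right hF, herm_smul_left,
    herm_smul_left, herm_smul_right, herm_smul_right, hv, mul_pow, herm_symm hF y v]
  ring

theorem utv_det (v : Fin n → F) (hv : Cfsg.hermForm n F q v v = 0) (c : F) :
    (Cfsg.unitaryTransvection n q v c).det = 1 := by
  unfold Cfsg.unitaryTransvection
  rw [← Matrix.smul_vecMulVec, Matrix.vecMulVec_eq (ι := Unit),
    Matrix.det_one_add_replicateCol_mul_replicateRow]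
  have h1 : (fun j => v j ^ q) ⬝ᵥ (c • v) = c * Cfsg.hermForm n F q v v := by
    simp only [dotProduct, Cfsg.hermForm, Pi.smul_apply, smul_eq_mul, Finset.mul_sum]
    exact Finset.sum_congr rfl fun i _ => by ring
  rw [h1, hv, mul_zero, add_zero]

/-- the transvection `x ↦ x + c h(x,v) v` as an element of `SU` (equal to `1` unless `v` is
isotropic and `c + c^q = 0`). -/
noncomputable def utvSU (hF : Fintype.card F = q ^ 2) (v : Fin n → F) (c : F) : Cfsg.SU n F q :=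
  open Classical in
  if h : Cfsg.hermForm n F q v v = 0 ∧ c + c ^ q = 0 then
    ⟨⟨Cfsg.unitaryTransvection n q v c, utv_det v h.1 c⟩, (mem_SU_iff _).mpr (fun x y => by
      show Cfsg.hermForm n F q ((Cfsg.unitaryTransvection n q v c) *ᵥ x)
        ((Cfsg.unitaryTransvection n q v c) *ᵥ y) = _
      rw [herm_utv hF v h.1, add_comm (c ^ q) c, h.2, zero_mul, add_zero])⟩
  else 1

theorem utvSU_val (hF : Fintype.card F = q ^ 2) (v : Fin n → F) (c : F)
    (hv : Cfsg.hermForm n F q v v = 0) (hc : c + c ^ q = 0) :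
    suM (utvSU hF v c) = Cfsg.unitaryTransvection n q v c := by
  unfold utvSU
  rw [dif_pos ⟨hv, hc⟩]

theorem utvSU_mulVec (hF : Fintype.card F = q ^ 2) (v : Fin n → F) (c : F)
    (hv : Cfsg.hermForm n F q v v = 0) (hc : c + c ^ q = 0) (x : Fin n → F) :
    suM (utvSU hF v c) *ᵥ x = x + (c * Cfsg.hermForm n F q x v) • v := by
  rw [utvSU_val hF v c hv hc, utv_mulVec]

/-- the subgroup of `SU` generated by the unitary transvections. -/
def uT (n : ℕ) (F : Type*) [Field F] (q : ℕ) : Subgroup (Cfsg.SU n F q) :=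
  Subgroup.closure {A : Cfsg.SU n F q | ∃ (v : Fin n → F) (c : F),
    Cfsg.hermForm n F q v v = 0 ∧
    ((A : Matrix.SpecialLinearGroup (Fin n) F) : Matrix (Fin n) (Fin n) F)
      = Cfsg.unitaryTransvection n q v c}

theorem utvSU_mem (hF : Fintype.card F = q ^ 2) (v : Fin n → F) (c : F) :
    utvSU hF v c ∈ uT n F q := by
  classical
  by_cases h : Cfsg.hermForm n F q v v = 0 ∧ c + c ^ q = 0
  · exact Subgroup.subset_closure ⟨v, c, h.1, utvSU_val hF v c h.1 h.2⟩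
  · unfold utvSU
    rw [dif_neg h]
    exact one_mem _

/-- `x` and `y` are conjugate under an element of `uT` fixing `w`. -/
def uconn (n : ℕ) (q : ℕ) (w x y : Fin n → F) : Prop :=
  ∃ t : Cfsg.SU n F q, t ∈ uT n F q ∧ suM t *ᵥ w = w ∧ suM t *ᵥ x = y

theorem uconn_refl (w x : Fin n → F) : uconn n q w x x :=
  ⟨1, one_mem _, by rw [suM_one, Matrix.one_mulVec], by rw [suM_one, Matrix.one_mulVec]⟩

theorem uconn_symm {w x y : Fin n → F} (h : uconn n q w x y) : uconn n q w y x := by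
  obtain ⟨t, ht, htw, htx⟩ := h
  refine ⟨t⁻¹, inv_mem ht, ?_, ?_⟩
  · nth_rw 1 [← htw]; exact suM_inv_mulVec t w
  · rw [← htx]; exact suM_inv_mulVec t x

theorem uconn_trans {w x y z : Fin n → F} (h1 : uconn n q w x y) (h2 : uconn n q w y z) :
    uconn n q w x z := by
  obtain ⟨t, ht, htw, htx⟩ := h1
  obtain ⟨s, hs, hsw, hsy⟩ := h2
  refine ⟨s * t, mul_mem hs ht, ?_, ?_⟩
  · rw [suM_mul, ← Matrix.mulVec_mulVec, htw, hsw]
  · rw [suM_mul, ← Matrix.mulVec_mulVec, htx, hsy]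

theorem uconn_tv (hF : Fintype.card F = q ^ 2) (v : Fin n → F) (c : F)
    (hv : Cfsg.hermForm n F q v v = 0) (hc : c + c ^ q = 0) (w x : Fin n → F)
    (hw : Cfsg.hermForm n F q w v = 0) :
    uconn n q w x (x + (c * Cfsg.hermForm n F q x v) • v) := by
  refine ⟨utvSU hF v c, utvSU_mem hF v c, ?_, utvSU_mulVec hF v c hv hc x⟩
  rw [utvSU_mulVec hF v c hv hc, hw, mul_zero, zero_smul, add_zero]

/-- the form on combinations of a hyperbolic pair. -/
theorem herm_hyp_comb (hF : Fintype.card F = q ^ 2) (e f : Fin n → F)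
    (he : Cfsg.hermForm n F q e e = 0) (hf : Cfsg.hermForm n F q f f = 0)
    (hef : Cfsg.hermForm n F q e f = 1) (a b a' b' : F) :
    Cfsg.hermForm n F q (a • e + b • f) (a' • e + b' • f) = a * b' ^ q + b * a' ^ q := by
  have hfe : Cfsg.hermForm n F q f e = 1 := by rw [← herm_symm hF, hef, one_pow]
  rw [herm_add_left, herm_add_right hF, herm_add_right hF, herm_smul_left, herm_smul_left,
    herm_smul_right, herm_smul_right, herm_smul_left, herm_smul_left, herm_smul_right,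
    herm_smul_right, he, hf, hef, hfe]
  ring

/-- the form on combinations of an orthonormal pair. -/
theorem herm_orth_comb (hF : Fintype.card F = q ^ 2) (x y : Fin n → F)
    (hx : Cfsg.hermForm n F q x x = 1) (hy : Cfsg.hermForm n F q y y = 1)
    (hxy : Cfsg.hermForm n F q x y = 0) (a b a' b' : F) :
    Cfsg.hermForm n F q (a • x + b • y) (a' • x + b' • y) = a * a' ^ q + b * b' ^ q := by
  have hq := uq_ge_two hF
  have hyx : Cfsg.hermForm n F q y x = 0 := by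
    rw [← herm_symm hF, hxy, zero_pow (by omega)]
  rw [herm_add_left, herm_add_right hF, herm_add_right hF, herm_smul_left, herm_smul_left,
    herm_smul_right, herm_smul_right, herm_smul_left, herm_smul_left, herm_smul_right,
    herm_smul_right, hx, hy, hxy, hyx]
  ring

/-! ### moves inside a hyperbolic plane -/

theorem uconn_hyp_e (hF : Fintype.card F = q ^ 2) (e f w : Fin n → F)
    (he : Cfsg.hermForm n F q e e = 0) (hf : Cfsg.hermForm n F q f f = 0)
    (hef : Cfsg.hermForm n F q e f = 1) (hwe : Cfsg.hermForm n F q w e = 0)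
    (a a₁ b : F) (hab : a * b ^ q + b * a ^ q = 1) (hab₁ : a₁ * b ^ q + b * a₁ ^ q = 1) :
    uconn n q w (a • e + b • f) (a₁ • e + b • f) := by
  have hq := uq_ge_two hF
  have hfe : Cfsg.hermForm n F q f e = 1 := by rw [← herm_symm hF, hef, one_pow]
  have hb0 : b ≠ 0 := by
    rintro rfl
    rw [zero_pow (by omega)] at hab
    simp at hab
  have hbq0 : b ^ q ≠ 0 := pow_ne_zero _ hb0
  obtain ⟨c, hc⟩ : ∃ c : F, c = (a₁ - a) / b := ⟨_, rfl⟩
  have hcc : c + c ^ q = 0 := by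
    rw [hc, div_pow, frob_sub hF]
    field_simp
    linear_combination hab₁ - hab
  have h1 := uconn_tv hF e c he hcc w (a • e + b • f) hwe
  have h2 : Cfsg.hermForm n F q (a • e + b • f) e = b := by
    rw [herm_add_left, herm_smul_left, herm_smul_left, he, hfe]; ring
  rw [h2] at h1
  have h3 : a • e + b • f + (c * b) • e = a₁ • e + b • f := by
    have : c * b = a₁ - a := by rw [hc]; field_simp
    rw [this]; module
  rw [h3] at h1
  exact h1

theorem uconn_hyp_f (hF : Fintype.card F = q ^ 2) (e f w : Fin n → F)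
    (he : Cfsg.hermForm n F q e e = 0) (hf : Cfsg.hermForm n F q f f = 0)
    (hef : Cfsg.hermForm n F q e f = 1) (hwf : Cfsg.hermForm n F q w f = 0)
    (a b b₁ : F) (hab : a * b ^ q + b * a ^ q = 1) (hab₁ : a * b₁ ^ q + b₁ * a ^ q = 1) :
    uconn n q w (a • e + b • f) (a • e + b₁ • f) := by
  have hq := uq_ge_two hF
  have ha0 : a ≠ 0 := by
    rintro rfl
    rw [zero_pow (by omega)] at hab
    simp at hab
  have haq0 : a ^ q ≠ 0 := pow_ne_zero _ ha0
  obtain ⟨c, hc⟩ : ∃ c : F, c = (b₁ - b) / a := ⟨_, rfl⟩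
  have hcc : c + c ^ q = 0 := by
    rw [hc, div_pow, frob_sub hF]
    field_simp
    linear_combination hab₁ - hab
  have h1 := uconn_tv hF f c hf hcc w (a • e + b • f) hwf
  have h2 : Cfsg.hermForm n F q (a • e + b • f) f = a := by
    rw [herm_add_left, herm_smul_left, herm_smul_left, hf, hef]; ring
  rw [h2] at h1
  have h3 : a • e + b • f + (c * a) • f = a • e + b₁ • f := by
    have : c * a = b₁ - b := by rw [hc]; field_simp
    rw [this]; module
  rw [h3] at h1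
  exact h1

theorem uconn_hyp_aux (hF : Fintype.card F = q ^ 2) (e f w : Fin n → F)
    (he : Cfsg.hermForm n F q e e = 0) (hf : Cfsg.hermForm n F q f f = 0)
    (hef : Cfsg.hermForm n F q e f = 1) (hwe : Cfsg.hermForm n F q w e = 0)
    (hwf : Cfsg.hermForm n F q w f = 0)
    (a b a' b' : F) (hab : a * b ^ q + b * a ^ q = 1) (hab' : a' * b' ^ q + b' * a' ^ q = 1)
    (hΔ : b ^ q * b' - b' ^ q * b ≠ 0) :
    uconn n q w (a • e + b • f) (a' • e + b' • f) := by
  obtain ⟨Δ, hΔdef⟩ : ∃ Δ : F, Δ = b ^ q * b' - b' ^ q * b := ⟨_, rfl⟩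
  rw [← hΔdef] at hΔ
  have hΔq : Δ ^ q = -Δ := by
    rw [hΔdef, frob_sub hF, mul_pow, mul_pow, frob_frob hF, frob_frob hF]; ring
  obtain ⟨a₂, ha₂⟩ : ∃ a₂ : F, a₂ = (b' - b) / Δ := ⟨_, rfl⟩
  have ha₂q : a₂ ^ q = (b ^ q - b' ^ q) / Δ := by
    rw [ha₂, div_pow, hΔq, frob_sub hF]
    field_simp
    ring
  have h1 : a₂ * b ^ q + b * a₂ ^ q = 1 := by
    rw [ha₂q, ha₂]
    field_simp
    rw [hΔdef]; ring
  have h2 : a₂ * b' ^ q + b' * a₂ ^ q = 1 := by
    rw [ha₂q, ha₂]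
    field_simp
    rw [hΔdef]; ring
  exact uconn_trans (uconn_hyp_e hF e f w he hf hef hwe a a₂ b hab h1)
    (uconn_trans (uconn_hyp_f hF e f w he hf hef hwf a₂ b b' h1 h2)
      (uconn_hyp_e hF e f w he hf hef hwe a₂ a' b' h2 hab'))

/-- `uT` is transitive on the norm-one vectors of a hyperbolic plane (fixing what is orthogonal
to it). -/
theorem uconn_hyp (hF : Fintype.card F = q ^ 2) (e f w : Fin n → F)
    (he : Cfsg.hermForm n F q e e = 0) (hf : Cfsg.hermForm n F q f f = 0)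
    (hef : Cfsg.hermForm n F q e f = 1) (hwe : Cfsg.hermForm n F q w e = 0)
    (hwf : Cfsg.hermForm n F q w f = 0)
    (a b a' b' : F) (hab : a * b ^ q + b * a ^ q = 1) (hab' : a' * b' ^ q + b' * a' ^ q = 1) :
    uconn n q w (a • e + b • f) (a' • e + b' • f) := by
  have hq := uq_ge_two hF
  by_cases hΔ : b ^ q * b' - b' ^ q * b = 0
  · obtain ⟨κ, hκ0, hκ⟩ := exists_trace_zero hF
    have hκq : κ ^ q = -κ := by linear_combination hκ
    obtain ⟨b₁, hb₁⟩ : ∃ b₁ : F, b₁ = b + κ * a := ⟨_, rfl⟩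
    have hb₁q : b₁ ^ q = b ^ q - κ * a ^ q := by
      rw [hb₁, frob_add hF, mul_pow, hκq]; ring
    have hab₁ : a * b₁ ^ q + b₁ * a ^ q = 1 := by
      rw [hb₁q, hb₁]; linear_combination hab
    have hb'0 : b' ≠ 0 := by
      rintro rfl
      rw [zero_pow (by omega)] at hab'
      simp at hab'
    have hb0 : b ≠ 0 := by
      rintro rfl
      rw [zero_pow (by omega)] at hab
      simp at hab
    have hS : (a ^ q * b' + a * b' ^ q) * b = b' := by
      linear_combination b' * hab - a * hΔ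
    have hS0 : a ^ q * b' + a * b' ^ q ≠ 0 := by
      intro h0
      rw [h0, zero_mul] at hS
      exact hb'0 hS.symm
    have hΔ₁ : b₁ ^ q * b' - b' ^ q * b₁ ≠ 0 := by
      have : b₁ ^ q * b' - b' ^ q * b₁ = -κ * (a ^ q * b' + a * b' ^ q) := by
        rw [hb₁q, hb₁]; linear_combination hΔ
      rw [this]
      exact mul_ne_zero (neg_ne_zero.mpr hκ0) hS0
    exact uconn_trans (uconn_hyp_f hF e f w he hf hef hwf a b b₁ hab hab₁)
      (uconn_hyp_aux hF e f w he hf hef hwe hwf a b₁ a' b' hab₁ hab' hΔ₁)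
  · exact uconn_hyp_aux hF e f w he hf hef hwe hwf a b a' b' hab hab' hΔ

/-- `uT` is transitive on the norm-one vectors of the plane spanned by an orthonormal pair. -/
theorem uconn_orth (hF : Fintype.card F = q ^ 2) (x y w : Fin n → F)
    (hx : Cfsg.hermForm n F q x x = 1) (hy : Cfsg.hermForm n F q y y = 1)
    (hxy : Cfsg.hermForm n F q x y = 0) (hwx : Cfsg.hermForm n F q w x = 0)
    (hwy : Cfsg.hermForm n F q w y = 0) (s t : F) (hst : s ^ (q + 1) + t ^ (q + 1) = 1) :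
    uconn n q w x (s • x + t • y) := by
  have hq := uq_ge_two hF
  obtain ⟨θ₁, θ₂, hne, hθ₁, hθ₂⟩ := exists_norm_neg_one_pair hF
  have hθ₂0 : θ₂ ≠ 0 := by
    rintro rfl
    rw [zero_pow (by omega)] at hθ₂
    have : (1 : F) = 0 := by linear_combination hθ₂
    exact one_ne_zero this
  obtain ⟨γ, hγ⟩ : ∃ γ : F, γ = 1 + θ₁ * θ₂ ^ q := ⟨_, rfl⟩
  have hγ0 : γ ≠ 0 := by
    intro h0
    have h1 : θ₂ * γ = θ₂ - θ₁ := by
      rw [hγ]; rw [unorm_eq] at hθ₂; linear_combination θ₁ * hθ₂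
    rw [h0, mul_zero] at h1
    exact hne (by linear_combination h1)
  obtain ⟨μ, hμ⟩ : ∃ μ : F, μ = (γ⁻¹) ^ q := ⟨_, rfl⟩
  have hμq : μ ^ q = γ⁻¹ := by rw [hμ, frob_frob hF]
  have hμ0 : μ ≠ 0 := by rw [hμ]; exact pow_ne_zero _ (inv_ne_zero hγ0)
  obtain ⟨e, hedef⟩ : ∃ e : Fin n → F, e = x + θ₁ • y := ⟨_, rfl⟩
  obtain ⟨f, hfdef⟩ : ∃ f : Fin n → F, f = μ • (x + θ₂ • y) := ⟨_, rfl⟩
  have he' : e = (1 : F) • x + θ₁ • y := by rw [hedef, one_smul]
  have hf' : f = μ • x + (μ * θ₂) • y := by rw [hfdef]; module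
  have he : Cfsg.hermForm n F q e e = 0 := by
    rw [he', herm_orth_comb hF x y hx hy hxy]
    rw [unorm_eq] at hθ₁
    rw [one_pow]; linear_combination hθ₁
  have hf : Cfsg.hermForm n F q f f = 0 := by
    rw [hf', herm_orth_comb hF x y hx hy hxy]
    rw [unorm_eq] at hθ₂
    rw [mul_pow]; linear_combination (μ * μ ^ q) * hθ₂
  have hef : Cfsg.hermForm n F q e f = 1 := by
    rw [he', hf', herm_orth_comb hF x y hx hy hxy, mul_pow, hμq]
    have : 1 * γ⁻¹ + θ₁ * (γ⁻¹ * θ₂ ^ q) = γ⁻¹ * γ := by rw [hγ]; ring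
    rw [this, inv_mul_cancel₀ hγ0]
  have hwe : Cfsg.hermForm n F q w e = 0 := by
    rw [hedef, herm_add_right hF, herm_smul_right, hwx, hwy]; ring
  have hwf : Cfsg.hermForm n F q w f = 0 := by
    rw [hfdef, herm_smul_right, herm_add_right hF, herm_smul_right, hwx, hwy]; ring
  have hd0 : θ₁ - θ₂ ≠ 0 := sub_ne_zero.mpr hne
  obtain ⟨d, hd⟩ : ∃ d : F, d = (θ₁ - θ₂)⁻¹ := ⟨_, rfl⟩
  have hd1 : d * (θ₁ - θ₂) = 1 := by rw [hd, inv_mul_cancel₀ hd0]
  have hμ1 : μ⁻¹ * μ = 1 := inv_mul_cancel₀ hμ0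
  -- coordinates of `x` and `y` in the hyperbolic basis
  have hxc : x = (1 - θ₁ * d) • e + (θ₁ * d * μ⁻¹) • f := by
    rw [hedef, hfdef]
    funext i
    simp only [Pi.add_apply, Pi.smul_apply, smul_eq_mul]
    linear_combination (θ₁ * y i) * hd1 - (θ₁ * d * (x i + θ₂ * y i)) * hμ1
  have hyc : y = d • e + (-(d * μ⁻¹)) • f := by
    rw [hedef, hfdef]
    funext i
    simp only [Pi.add_apply, Pi.smul_apply, smul_eq_mul]
    linear_combination (-(y i)) * hd1 + (d * (x i + θ₂ * y i)) * hμ1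
  have hzc : s • x + t • y = (s * (1 - θ₁ * d) + t * d) • e
      + (s * (θ₁ * d * μ⁻¹) + t * (-(d * μ⁻¹))) • f := by
    nth_rw 1 [hxc, hyc]
    module
  have hnx : (1 - θ₁ * d) * (θ₁ * d * μ⁻¹) ^ q + (θ₁ * d * μ⁻¹) * (1 - θ₁ * d) ^ q = 1 := by
    rw [← herm_hyp_comb hF e f he hf hef, ← hxc, hx]
  have hnz : (s * (1 - θ₁ * d) + t * d) * (s * (θ₁ * d * μ⁻¹) + t * (-(d * μ⁻¹))) ^ q
      + (s * (θ₁ * d * μ⁻¹) + t * (-(d * μ⁻¹))) * (s * (1 - θ₁ * d) + t * d) ^ q = 1 := by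
    rw [← herm_hyp_comb hF e f he hf hef, ← hzc, herm_orth_comb hF x y hx hy hxy, ← unorm_eq,
      ← unorm_eq, hst]
  have key := uconn_hyp hF e f w he hf hef hwe hwf _ _ _ _ hnx hnz
  rw [← hxc, ← hzc] at key
  exact key

/-- norm-one vectors `x`, `y` with `N(h(x,y)) ≠ 1` are `uT`-conjugate. -/
theorem uconn_gen (hF : Fintype.card F = q ^ 2) (x y w : Fin n → F)
    (hx : Cfsg.hermForm n F q x x = 1) (hy : Cfsg.hermForm n F q y y = 1)
    (hβ : (Cfsg.hermForm n F q x y) ^ (q + 1) ≠ 1) (hwx : Cfsg.hermForm n F q w x = 0)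
    (hwy : Cfsg.hermForm n F q w y = 0) : uconn n q w x y := by
  have hq := uq_ge_two hF
  obtain ⟨β, hβdef⟩ : ∃ β : F, β = Cfsg.hermForm n F q x y := ⟨_, rfl⟩
  rw [← hβdef] at hβ
  have hyx : Cfsg.hermForm n F q y x = β ^ q := by rw [hβdef, herm_symm hF]
  obtain ⟨ν, hν⟩ : ∃ ν : F, ν = 1 - β ^ (q + 1) := ⟨_, rfl⟩
  have hν0 : ν ≠ 0 := by
    intro h0
    rw [h0] at hν
    exact hβ (by linear_combination hν)
  have hνq : ν ^ q = ν := by rw [hν, frob_sub hF, one_pow, unorm_fixed hF]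
  obtain ⟨κ, hκ⟩ := unorm_surj hF ν hνq
  have hκ0 : κ ≠ 0 := by
    rintro rfl
    rw [zero_pow (by omega)] at hκ
    exact hν0 hκ.symm
  obtain ⟨y₁, hy₁⟩ : ∃ y₁ : Fin n → F, y₁ = κ⁻¹ • (y - β ^ q • x) := ⟨_, rfl⟩
  have hyc : y = β ^ q • x + κ • y₁ := by
    rw [hy₁, smul_smul, mul_inv_cancel₀ hκ0, one_smul]; module
  have hκq0 : κ ^ q ≠ 0 := pow_ne_zero _ hκ0
  have h1 : Cfsg.hermForm n F q (y - β ^ q • x) (y - β ^ q • x) = ν := by
    rw [herm_sub_left, herm_sub_right hF, herm_sub_right hF, herm_smul_left, herm_smul_left,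
      herm_smul_right, herm_smul_right, hx, hy, hyx, ← hβdef, frob_frob hF, hν, unorm_eq]
    ring
  have hy₁y₁ : Cfsg.hermForm n F q y₁ y₁ = 1 := by
    rw [hy₁, herm_smul_left, herm_smul_right, h1, inv_pow, ← hκ, unorm_eq]
    field_simp
  have hxy₁ : Cfsg.hermForm n F q x y₁ = 0 := by
    rw [hy₁, herm_smul_right, herm_sub_right hF, herm_smul_right, hx, ← hβdef, frob_frob hF]
    ring
  have hwy₁ : Cfsg.hermForm n F q w y₁ = 0 := by
    rw [hy₁, herm_smul_right, herm_sub_right hF, herm_smul_right, hwx, hwy]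
    ring
  have hst : (β ^ q) ^ (q + 1) + κ ^ (q + 1) = 1 := by
    rw [← pow_mul, mul_comm q (q + 1), pow_mul, unorm_fixed hF, hκ, hν]; ring
  have key := uconn_orth hF x y₁ w hx hy₁y₁ hxy₁ hwx hwy₁ (β ^ q) κ hst
  rw [← hyc] at key
  exact key

/-- scalar multiples by elements of norm one. -/
theorem uconn_scalar (hF : Fintype.card F = q ^ 2) (x y w : Fin n → F)
    (hx : Cfsg.hermForm n F q x x = 1) (hy : Cfsg.hermForm n F q y y = 1)
    (hxy : Cfsg.hermForm n F q x y = 0) (hwx : Cfsg.hermForm n F q w x = 0)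
    (hwy : Cfsg.hermForm n F q w y = 0) (s : F) (hs : s ^ (q + 1) = 1) :
    uconn n q w x (s • x) := by
  have hq := uq_ge_two hF
  have key := uconn_orth hF x y w hx hy hxy hwx hwy s 0 (by rw [hs, zero_pow (by omega), add_zero])
  rw [zero_smul, add_zero] at key
  exact key

/-! ### Siegel-type products of two transvections -/

theorem uconn_siegel_aux (hF : Fintype.card F = q ^ 2) (w y e : Fin n → F)
    (hw : Cfsg.hermForm n F q w w = 1) (hy : Cfsg.hermForm n F q y y = 1)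
    (hwy : Cfsg.hermForm n F q w y = 0) (he : Cfsg.hermForm n F q e e = 0)
    (hew : Cfsg.hermForm n F q e w = 0) (hey : Cfsg.hermForm n F q e y = 0)
    (θ ρ : F) (hθ : θ ^ (q + 1) = -1) :
    ∃ t : Cfsg.SU n F q, t ∈ uT n F q ∧ suM t *ᵥ y = y + ρ • e ∧
      suM t *ᵥ w = w + (ρ * θ ^ q) • e ∧ suM t *ᵥ e = e := by
  have hq := uq_ge_two hF
  have hq0 : q ≠ 0 := by omega
  obtain ⟨κ, hκ0, hκ⟩ := exists_trace_zero hF
  have hκn : (-κ) + (-κ) ^ q = 0 := by rw [frob_neg hF]; linear_combination -hκ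
  have hyw : Cfsg.hermForm n F q y w = 0 := by rw [← herm_symm hF, hwy, zero_pow hq0]
  have hwe : Cfsg.hermForm n F q w e = 0 := by rw [← herm_symm hF, hew, zero_pow hq0]
  have hye : Cfsg.hermForm n F q y e = 0 := by rw [← herm_symm hF, hey, zero_pow hq0]
  obtain ⟨u, hu⟩ : ∃ u : Fin n → F, u = y + θ • w := ⟨_, rfl⟩
  obtain ⟨r, hr⟩ : ∃ r : F, r = ρ / κ := ⟨_, rfl⟩
  have hrκ : κ * r = ρ := by rw [hr]; field_simp
  obtain ⟨v, hv⟩ : ∃ v : Fin n → F, v = u + r • e := ⟨_, rfl⟩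
  have hyu : Cfsg.hermForm n F q y u = 1 := by
    rw [hu, herm_add_right hF, herm_smul_right, hy, hyw]; ring
  have hwu : Cfsg.hermForm n F q w u = θ ^ q := by
    rw [hu, herm_add_right hF, herm_smul_right, hwy, hw]; ring
  have heu : Cfsg.hermForm n F q e u = 0 := by
    rw [hu, herm_add_right hF, herm_smul_right, hey, hew]; ring
  have hue : Cfsg.hermForm n F q u e = 0 := by rw [← herm_symm hF, heu, zero_pow hq0]
  have huu : Cfsg.hermForm n F q u u = 0 := by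
    rw [hu, herm_add_left, herm_smul_left, ← hu, hyu, hwu]
    rw [unorm_eq] at hθ
    linear_combination hθ
  have hyv : Cfsg.hermForm n F q y v = 1 := by
    rw [hv, herm_add_right hF, herm_smul_right, hyu, hye]; ring
  have hwv : Cfsg.hermForm n F q w v = θ ^ q := by
    rw [hv, herm_add_right hF, herm_smul_right, hwu, hwe]; ring
  have hev : Cfsg.hermForm n F q e v = 0 := by
    rw [hv, herm_add_right hF, herm_smul_right, heu, he]; ring
  have huv : Cfsg.hermForm n F q u v = 0 := by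
    rw [hv, herm_add_right hF, herm_smul_right, huu, hue]; ring
  have hvv : Cfsg.hermForm n F q v v = 0 := by
    rw [hv, herm_add_left, herm_smul_left, ← hv, huv, hev]; ring
  refine ⟨utvSU hF v κ * utvSU hF u (-κ), mul_mem (utvSU_mem hF v κ) (utvSU_mem hF u (-κ)),
    ?_, ?_, ?_⟩
  · rw [suM_mul, ← Matrix.mulVec_mulVec, utvSU_mulVec hF u (-κ) huu hκn, hyu,
      utvSU_mulVec hF v κ hvv hκ, herm_add_left, herm_smul_left, hyv, huv, hv, ← hrκ]
    module
  · rw [suM_mul, ← Matrix.mulVec_mulVec, utvSU_mulVec hF u (-κ) huu hκn, hwu,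
      utvSU_mulVec hF v κ hvv hκ, herm_add_left, herm_smul_left, hwv, huv, hv, ← hrκ]
    module
  · rw [suM_mul, ← Matrix.mulVec_mulVec, utvSU_mulVec hF u (-κ) huu hκn, heu,
      mul_zero, zero_smul, add_zero, utvSU_mulVec hF v κ hvv hκ, hev, mul_zero, zero_smul,
      add_zero]

/-- for an orthonormal pair `(w, y)` and an isotropic `e` orthogonal to both, some element of `uT`
fixes `w` and maps `y` to `y + e`. -/
theorem uconn_siegel (hF : Fintype.card F = q ^ 2) (w y e : Fin n → F)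
    (hw : Cfsg.hermForm n F q w w = 1) (hy : Cfsg.hermForm n F q y y = 1)
    (hwy : Cfsg.hermForm n F q w y = 0) (he : Cfsg.hermForm n F q e e = 0)
    (hew : Cfsg.hermForm n F q e w = 0) (hey : Cfsg.hermForm n F q e y = 0) :
    uconn n q w y (y + e) := by
  obtain ⟨θ₁, θ₂, hne, hθ₁, hθ₂⟩ := exists_norm_neg_one_pair hF
  have hneq : θ₁ ^ q - θ₂ ^ q ≠ 0 := by
    intro h0
    apply hne
    rw [← frob_frob hF θ₁, ← frob_frob hF θ₂, sub_eq_zero.mp h0]
  obtain ⟨ρ₁, hρ₁⟩ : ∃ ρ₁ : F, ρ₁ = -θ₂ ^ q / (θ₁ ^ q - θ₂ ^ q) := ⟨_, rfl⟩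
  obtain ⟨ρ₂, hρ₂⟩ : ∃ ρ₂ : F, ρ₂ = θ₁ ^ q / (θ₁ ^ q - θ₂ ^ q) := ⟨_, rfl⟩
  have hsum : ρ₁ + ρ₂ = 1 := by rw [hρ₁, hρ₂]; field_simp; ring
  have hsum' : ρ₁ * θ₁ ^ q + ρ₂ * θ₂ ^ q = 0 := by rw [hρ₁, hρ₂]; field_simp; ring
  obtain ⟨t₁, ht₁, h1y, h1w, h1e⟩ := uconn_siegel_aux hF w y e hw hy hwy he hew hey θ₁ ρ₁ hθ₁
  obtain ⟨t₂, ht₂, h2y, h2w, h2e⟩ := uconn_siegel_aux hF w y e hw hy hwy he hew hey θ₂ ρ₂ hθ₂
  refine ⟨t₂ * t₁, mul_mem ht₂ ht₁, ?_, ?_⟩
  · rw [suM_mul, ← Matrix.mulVec_mulVec, h1w, Matrix.mulVec_add, Matrix.mulVec_smul, h2w, h2e]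
    have : w + (ρ₂ * θ₂ ^ q) • e + (ρ₁ * θ₁ ^ q) • e = w + (ρ₁ * θ₁ ^ q + ρ₂ * θ₂ ^ q) • e := by
      module
    rw [this, hsum', zero_smul, add_zero]
  · rw [suM_mul, ← Matrix.mulVec_mulVec, h1y, Matrix.mulVec_add, Matrix.mulVec_smul, h2y, h2e]
    have : y + ρ₂ • e + ρ₁ • e = y + (ρ₁ + ρ₂) • e := by module
    rw [this, hsum, one_smul]

end UTv

end Cfsg.Agent.Lib.helper4
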