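import Mathlib
import Cfsg.Agent.Lib.helper4.UTv

set_option autoImplicit false
set_option linter.unusedSectionVars false

/-!
# `SU_n(q)` is generated by unitary transvections (`n ≥ 1`, `(n, q) ≠ (3, 2)`)
-/

namespace Cfsg.Agent.Lib.helper4

open Matrix

section UGen

variable {F : Type*} [Field F] [Fintype F] {q : ℕ} {n : ℕ}

theorem single_ne_zero_u (i : Fin n) : (Pi.single i 1 : Fin n → F) ≠ 0 := by
  classical
  intro h
  have := congrFun h i
  simp at this

theorem herm_single_single (hF : Fintype.card F = q ^ 2) (a b : Fin n) :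
    Cfsg.hermForm n F q (Pi.single a 1) (Pi.single b 1) = if a = b then 1 else 0 :=
  Cfsg.Agent.S0783.herm_single hF n a b

theorem norm_one_ne_zero (x : Fin n → F) (hx : Cfsg.hermForm n F q x x = 1) : x ≠ 0 := by
  intro h
  rw [h, herm_zero_left] at hx
  exact zero_ne_one hx

/-- a norm-one vector orthogonal to a given norm-one vector. -/
theorem exists_orth_norm_one (hF : Fintype.card F = q ^ 2) (hn : 2 ≤ n) (z : Fin n → F)
    (hz : Cfsg.hermForm n F q z z = 1) :
    ∃ y : Fin n → F, Cfsg.hermForm n F q y y = 1 ∧ Cfsg.hermForm n F q y z = 0 := by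
  classical
  obtain ⟨A, hA, hAz⟩ := gu_trans_one hF (Pi.single (⟨0, by omega⟩ : Fin n) 1) z
    (single_ne_zero_u _) (norm_one_ne_zero z hz) (by rw [hz, herm_single_single hF, if_pos rfl])
  refine ⟨(A : Matrix (Fin n) (Fin n) F) *ᵥ (Pi.single (⟨1, by omega⟩ : Fin n) 1), ?_, ?_⟩
  · rw [(mem_GU_iff _).mp hA, herm_single_single hF, if_pos rfl]
  · rw [← hAz, (mem_GU_iff _).mp hA, herm_single_single hF, if_neg (by simp [Fin.ext_iff])]

/-- a norm-one vector `z` with `N(h(z, r)) ≠ 1`, for an isotropic vector `r`. -/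
theorem exists_norm_one_ne (hF : Fintype.card F = q ^ 2) (r : Fin n → F)
    (hr : Cfsg.hermForm n F q r r = 0) (hn : 3 ≤ n ∨ (n = 2 ∧ 3 ≤ q) ∨ (r = 0 ∧ 1 ≤ n)) :
    ∃ z : Fin n → F, Cfsg.hermForm n F q z z = 1 ∧ (Cfsg.hermForm n F q z r) ^ (q + 1) ≠ 1 := by
  classical
  have hq := uq_ge_two hF
  by_cases hr0 : r = 0
  · have hn1 : 1 ≤ n := by rcases hn with h | h | h <;> omega
    refine ⟨Pi.single (⟨0, by omega⟩ : Fin n) 1, by rw [herm_single_single hF, if_pos rfl], ?_⟩
    rw [hr0, herm_zero_right hF, zero_pow (by omega)]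
    exact zero_ne_one
  · have hn2 : 2 ≤ n := by
      rcases hn with h | h | h
      · omega
      · omega
      · exact absurd h.1 hr0
    obtain ⟨θ, -, -, hθ, -⟩ := exists_norm_neg_one_pair hF
    have hθ' : θ * θ ^ q = -1 := by rw [← unorm_eq]; exact hθ
    obtain ⟨E0, hE0⟩ : ∃ E0 : Fin n → F, E0 = Pi.single (⟨0, by omega⟩ : Fin n) 1 := ⟨_, rfl⟩
    obtain ⟨E1, hE1⟩ : ∃ E1 : Fin n → F, E1 = Pi.single (⟨1, by omega⟩ : Fin n) 1 := ⟨_, rfl⟩
    have h00 : Cfsg.hermForm n F q E0 E0 = 1 := by rw [hE0, herm_single_single hF, if_pos rfl]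
    have h11 : Cfsg.hermForm n F q E1 E1 = 1 := by rw [hE1, herm_single_single hF, if_pos rfl]
    have h01 : Cfsg.hermForm n F q E0 E1 = 0 := by
      rw [hE0, hE1, herm_single_single hF, if_neg (by simp [Fin.ext_iff])]
    obtain ⟨r₀, hr₀⟩ : ∃ r₀ : Fin n → F, r₀ = (1 : F) • E0 + θ • E1 := ⟨_, rfl⟩
    have hr₀r₀ : Cfsg.hermForm n F q r₀ r₀ = 0 := by
      rw [hr₀, herm_orth_comb hF E0 E1 h00 h11 h01, one_pow]
      linear_combination hθ'
    have hr₀0 : r₀ ≠ 0 := by
      intro h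
      have h1 : Cfsg.hermForm n F q r₀ E0 = 1 := by
        rw [hr₀]
        have : E0 = (1 : F) • E0 + (0 : F) • E1 := by module
        nth_rw 2 [this]
        rw [herm_orth_comb hF E0 E1 h00 h11 h01, one_pow, zero_pow (by omega)]
        ring
      rw [h, herm_zero_left] at h1
      exact zero_ne_one h1
    obtain ⟨A, hA, hAr⟩ := gu_trans_one hF r₀ r hr₀0 hr0 (by rw [hr, hr₀r₀])
    have hpres := (mem_GU_iff _).mp hA
    rcases hn with h3 | ⟨h2, hq3⟩ | h
    · refine ⟨(A : Matrix (Fin n) (Fin n) F) *ᵥ (Pi.single (⟨2, by omega⟩ : Fin n) 1), ?_, ?_⟩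
      · rw [hpres, herm_single_single hF, if_pos rfl]
      · rw [← hAr, hpres, herm_single_left hF, hr₀, hE0, hE1]
        simp [Fin.ext_iff, zero_pow (show q ≠ 0 by omega)]
    · obtain ⟨δ, hδ0, hδ1⟩ := exists_norm_ne hF hq3
      have hδ00 : δ ≠ 0 := fun h => hδ0 (by rw [h, zero_pow (by omega)])
      have hθ0 : θ ≠ 0 := by
        rintro rfl
        rw [zero_pow (by omega)] at hθ
        have : (1 : F) = 0 := by linear_combination hθ
        exact one_ne_zero this
      obtain ⟨τ, hτ⟩ := utrace_surj hF (δ ^ (q + 1) - 1) (by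
        rw [frob_sub hF, unorm_fixed hF, one_pow])
      obtain ⟨ω, hω⟩ : ∃ ω : F, ω = δ ^ q * θ ^ q := ⟨_, rfl⟩
      have hω0 : ω ≠ 0 := by
        rw [hω]; exact mul_ne_zero (pow_ne_zero _ hδ00) (pow_ne_zero _ hθ0)
      obtain ⟨β, hβ⟩ : ∃ β : F, β = τ / ω := ⟨_, rfl⟩
      have h1 : ω * β = τ := by rw [hβ]; field_simp
      have h2 : δ * θ * β ^ q = τ ^ q := by
        rw [← h1, mul_pow, hω, mul_pow, frob_frob hF, frob_frob hF]
      obtain ⟨α, hα⟩ : ∃ α : F, α = δ - β * θ ^ q := ⟨_, rfl⟩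
      have hαq : α ^ q = δ ^ q - β ^ q * θ := by
        rw [hα, frob_sub hF, mul_pow, frob_frob hF]
      refine ⟨(A : Matrix (Fin n) (Fin n) F) *ᵥ (α • E0 + β • E1), ?_, ?_⟩
      · rw [hpres, herm_orth_comb hF E0 E1 h00 h11 h01, hαq, hα]
        rw [unorm_eq] at hτ
        rw [hω] at h1
        linear_combination (-1 : F) * h2 - h1 + (β * β ^ q) * hθ' - hτ
      · rw [← hAr, hpres, hr₀, herm_orth_comb hF E0 E1 h00 h11 h01, one_pow, hα]
        have : (δ - β * θ ^ q) * 1 + β * θ ^ q = δ := by ring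
        rw [this]
        exact hδ1
    · exact absurd h.1 hr0

/-- `uT` is transitive on norm-one vectors. -/
theorem uconn_e0 (hF : Fintype.card F = q ^ 2) (n : ℕ) (hn : 3 ≤ n ∨ (n = 2 ∧ 3 ≤ q) ∨ n = 1)
    (x : Fin (n + 1) → F) (hx : Cfsg.hermForm (n + 1) F q x x = 1) :
    uconn (n + 1) q 0 x (Pi.single 0 1) := by
  classical
  have hq := uq_ge_two hF
  have hE : Cfsg.hermForm (n + 1) F q (Pi.single 0 1) (Pi.single 0 1) = 1 := by
    rw [herm_single_single hF, if_pos rfl]
  have hxc : x = Fin.cons (x 0) (Fin.tail x) := (Fin.cons_self_tail x).symm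
  have hxE : Cfsg.hermForm (n + 1) F q x (Pi.single 0 1) = x 0 := herm_single_right hF x 0
  by_cases ha : (x 0) ^ (q + 1) = 1
  · have hr : Cfsg.hermForm n F q (Fin.tail x) (Fin.tail x) = 0 := by
      have h1 := hx
      rw [hxc, herm_cons, ← unorm_eq, ha] at h1
      linear_combination h1
    have hcond : 3 ≤ n ∨ (n = 2 ∧ 3 ≤ q) ∨ (Fin.tail x = 0 ∧ 1 ≤ n) := by
      rcases hn with h | h | h
      · exact Or.inl h
      · exact Or.inr (Or.inl h)
      · refine Or.inr (Or.inr ⟨?_, by omega⟩)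
        subst h
        have h1 : (Fin.tail x (0 : Fin 1)) ^ (q + 1) = 0 := by
          have h2 := hr
          simp only [Cfsg.hermForm, Fin.sum_univ_one] at h2
          rw [unorm_eq]; exact h2
        funext i
        rw [Subsingleton.elim i 0]
        exact (unorm_eq_zero _).mp h1
    obtain ⟨z', hz', hz'r⟩ := exists_norm_one_ne hF (Fin.tail x) hr hcond
    obtain ⟨z, hzdef⟩ : ∃ z : Fin (n + 1) → F, z = Fin.cons 0 z' := ⟨_, rfl⟩
    have hzz : Cfsg.hermForm (n + 1) F q z z = 1 := by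
      rw [hzdef, herm_cons, hz']; ring
    have hzE : Cfsg.hermForm (n + 1) F q z (Pi.single 0 1) = 0 := by
      rw [herm_single_right hF, hzdef]; rfl
    have hxz : Cfsg.hermForm (n + 1) F q x z = (Cfsg.hermForm n F q z' (Fin.tail x)) ^ q := by
      rw [hxc, hzdef, herm_cons, herm_symm hF, zero_pow (by omega)]
      simp
    have h1 : uconn (n + 1) q 0 x z := by
      apply uconn_gen hF x z 0 hx hzz _ (herm_zero_left _) (herm_zero_left _)
      rw [hxz, ← pow_mul, mul_comm q (q + 1), pow_mul, unorm_fixed hF]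
      exact hz'r
    have h2 : uconn (n + 1) q 0 z (Pi.single 0 1) := by
      apply uconn_gen hF z _ 0 hzz hE _ (herm_zero_left _) (herm_zero_left _)
      rw [hzE, zero_pow (by omega)]
      exact zero_ne_one
    exact uconn_trans h1 h2
  · apply uconn_gen hF x _ 0 hx hE _ (herm_zero_left _) (herm_zero_left _)
    rw [hxE]
    exact ha

/-- the stabiliser in `uT` of the first basis vector is transitive on the norm-one vectors
orthogonal to it. -/
theorem uconn_fix_e0 (hF : Fintype.card F = q ^ 2) (n : ℕ) (hn : 2 ≤ n)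
    (x y : Fin (n + 1) → F) (hx : Cfsg.hermForm (n + 1) F q x x = 1)
    (hy : Cfsg.hermForm (n + 1) F q y y = 1) (hx0 : x 0 = 0) (hy0 : y 0 = 0) :
    uconn (n + 1) q (Pi.single 0 1) x y := by
  classical
  have hq := uq_ge_two hF
  have hq0 : q ≠ 0 := by omega
  obtain ⟨E, hEdef⟩ : ∃ E : Fin (n + 1) → F, E = Pi.single 0 1 := ⟨_, rfl⟩
  rw [← hEdef]
  have hE : Cfsg.hermForm (n + 1) F q E E = 1 := by
    rw [hEdef, herm_single_single hF, if_pos rfl]
  have hEx : Cfsg.hermForm (n + 1) F q E x = 0 := by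
    rw [hEdef, herm_single_left hF, hx0, zero_pow hq0]
  have hEy : Cfsg.hermForm (n + 1) F q E y = 0 := by
    rw [hEdef, herm_single_left hF, hy0, zero_pow hq0]
  have hxE : Cfsg.hermForm (n + 1) F q x E = 0 := by
    rw [hEdef, herm_single_right hF, hx0]
  have hyE : Cfsg.hermForm (n + 1) F q y E = 0 := by
    rw [hEdef, herm_single_right hF, hy0]
  obtain ⟨β, hβ⟩ : ∃ β : F, β = Cfsg.hermForm (n + 1) F q x y := ⟨_, rfl⟩
  by_cases hN : β ^ (q + 1) = 1
  · have hβ0 : β ≠ 0 := by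
      rintro rfl
      rw [zero_pow (by omega)] at hN
      exact zero_ne_one hN
    have hβq0 : β ^ q ≠ 0 := pow_ne_zero _ hβ0
    have hyx : Cfsg.hermForm (n + 1) F q y x = β ^ q := by rw [hβ, herm_symm hF]
    obtain ⟨r, hrdef⟩ : ∃ r : Fin (n + 1) → F, r = y - β ^ q • x := ⟨_, rfl⟩
    have hrx : Cfsg.hermForm (n + 1) F q r x = 0 := by
      rw [hrdef, herm_sub_left, herm_smul_left, hyx, hx]; ring
    have hrr : Cfsg.hermForm (n + 1) F q r r = 0 := by
      have hry : Cfsg.hermForm (n + 1) F q r y = 1 - β ^ q * β := by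
        rw [hrdef, herm_sub_left, herm_smul_left, hy, ← hβ]
      rw [hrdef, herm_sub_right hF, herm_smul_right, ← hrdef, hrx, hry]
      rw [unorm_eq] at hN
      linear_combination -hN
    have hrE : Cfsg.hermForm (n + 1) F q r E = 0 := by
      rw [hrdef, herm_sub_left, herm_smul_left, hyE, hxE]; ring
    obtain ⟨e, hedef⟩ : ∃ e : Fin (n + 1) → F, e = (β ^ q)⁻¹ • r := ⟨_, rfl⟩
    have hee : Cfsg.hermForm (n + 1) F q e e = 0 := by
      rw [hedef, herm_smul_left, herm_smul_right, hrr]; ring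
    have heE : Cfsg.hermForm (n + 1) F q e E = 0 := by
      rw [hedef, herm_smul_left, hrE]; ring
    have hex : Cfsg.hermForm (n + 1) F q e x = 0 := by
      rw [hedef, herm_smul_left, hrx]; ring
    have h1 : uconn (n + 1) q E x (x + e) := uconn_siegel hF E x e hE hx hEx hee heE hex
    obtain ⟨z, hzdef⟩ : ∃ z : Fin (n + 1) → F, z = x + e := ⟨_, rfl⟩
    rw [← hzdef] at h1
    have hyz : y = β ^ q • z := by
      rw [hzdef, hedef, smul_add, smul_smul, mul_inv_cancel₀ hβq0, one_smul, hrdef]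
      module
    have hzz : Cfsg.hermForm (n + 1) F q z z = 1 := by
      have h2 := hy
      rw [hyz, herm_smul_left, herm_smul_right, frob_frob hF] at h2
      rw [unorm_eq] at hN
      have h3 : β ^ q * β * Cfsg.hermForm (n + 1) F q z z = 1 := by linear_combination h2
      have h4 : β ^ q * β = 1 := by linear_combination hN
      rw [h4, one_mul] at h3
      exact h3
    have hz0 : z 0 = 0 := by
      have h2 : Cfsg.hermForm (n + 1) F q z E = 0 := by
        rw [hzdef, herm_add_left, hxE, heE]; ring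
      rw [hEdef, herm_single_right hF] at h2
      exact h2
    have hzc : z = Fin.cons 0 (Fin.tail z) := by
      rw [← hz0]; exact (Fin.cons_self_tail z).symm
    have hz't : Cfsg.hermForm n F q (Fin.tail z) (Fin.tail z) = 1 := by
      have h2 := hzz
      rw [hzc, herm_cons] at h2
      linear_combination h2
    obtain ⟨y', hy'1, hy'z⟩ := exists_orth_norm_one hF hn (Fin.tail z) hz't
    obtain ⟨y₁, hy₁⟩ : ∃ y₁ : Fin (n + 1) → F, y₁ = Fin.cons 0 y' := ⟨_, rfl⟩
    have hy₁y₁ : Cfsg.hermForm (n + 1) F q y₁ y₁ = 1 := by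
      rw [hy₁, herm_cons, hy'1]; ring
    have hzy₁ : Cfsg.hermForm (n + 1) F q z y₁ = 0 := by
      rw [hzc, hy₁, herm_cons, ← herm_symm hF, hy'z, zero_pow hq0]; ring
    have hEz : Cfsg.hermForm (n + 1) F q E z = 0 := by
      rw [hEdef, herm_single_left hF, hz0, zero_pow hq0]
    have hEy₁ : Cfsg.hermForm (n + 1) F q E y₁ = 0 := by
      rw [hEdef, herm_single_left hF, hy₁]
      simp [zero_pow hq0]
    have h2 : uconn (n + 1) q E z (β ^ q • z) :=
      uconn_scalar hF z y₁ E hzz hy₁y₁ hzy₁ hEz hEy₁ (β ^ q) (by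
        rw [← pow_mul, mul_comm q (q + 1), pow_mul, unorm_fixed hF, hN])
    rw [← hyz] at h2
    exact uconn_trans h1 h2
  · exact uconn_gen hF x y E hx hy (by rw [← hβ]; exact hN) hEx hEy

/-! ### the block embedding `SU n → SU (n+1)` and the induction -/

theorem ublock_utv (hF : Fintype.card F = q ^ 2) (v : Fin n → F) (c : F) :
    ublock (Cfsg.unitaryTransvection n q v c)
      = Cfsg.unitaryTransvection (n + 1) q (Fin.cons 0 v) c := by
  have hq := uq_ge_two hF
  have hq0 : q ≠ 0 := by omega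
  ext i j
  refine Fin.cases ?_ (fun i' => ?_) i <;> refine Fin.cases ?_ (fun j' => ?_) j <;>
    simp [Cfsg.unitaryTransvection, Matrix.vecMulVec_apply, Matrix.one_apply, hq0,
      Fin.succ_ne_zero]
  exact fun h => (Fin.succ_ne_zero _ h.symm).elim

/-- the block embedding `A ↦ diag(1, A)` of `SU n` into `SU (n+1)`. -/
def ublockSU (n : ℕ) (F : Type*) [Field F] [Fintype F] (q : ℕ) :
    Cfsg.SU n F q →* Cfsg.SU (n + 1) F q where
  toFun A := ⟨⟨ublock (suM A), by rw [ublock_det]; exact A.1.2⟩,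
    (mem_SU_iff _).mpr (ublock_pres _ (su_pres A))⟩
  map_one' := Subtype.ext (Subtype.ext ublock_one)
  map_mul' A B := Subtype.ext (Subtype.ext (ublock_mul _ _))

theorem ublockSU_val (A : Cfsg.SU n F q) : suM (ublockSU n F q A) = ublock (suM A) := rfl

theorem ublockSU_mem (hF : Fintype.card F = q ^ 2) (A : Cfsg.SU n F q) (hA : A ∈ uT n F q) :
    ublockSU n F q A ∈ uT (n + 1) F q := by
  have hle : uT n F q ≤ (uT (n + 1) F q).comap (ublockSU n F q) := by
    unfold uT
    rw [Subgroup.closure_le]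
    rintro B ⟨v, c, hv, hB⟩
    apply Subgroup.subset_closure
    refine ⟨Fin.cons 0 v, c, ?_, ?_⟩
    · rw [herm_cons, hv]; ring
    · show ublock (suM B) = _
      rw [← ublock_utv hF]
      exact congrArg ublock hB
  exact hle hA

theorem su_fix_e0 (hF : Fintype.card F = q ^ 2) (g : Cfsg.SU (n + 1) F q)
    (hg : suM g *ᵥ (Pi.single 0 1) = Pi.single 0 1) :
    ∃ g' : Cfsg.SU n F q, g = ublockSU n F q g' := by
  have h1 := eq_ublock hF (suM g) (su_pres g) hg
  have hdet : ((suM g).submatrix Fin.succ Fin.succ).det = 1 := by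
    rw [← ublock_det, ← h1]; exact g.1.2
  obtain ⟨g', hg'⟩ := su_mk (q := q) ((suM g).submatrix Fin.succ Fin.succ)
    (pres_of_ublock_pres hF _ (by rw [← h1]; exact su_pres g)) hdet
  refine ⟨g', suM_injective ?_⟩
  rw [ublockSU_val]
  show suM g = ublock (suM g')
  rw [show suM g' = (suM g).submatrix Fin.succ Fin.succ from hg']
  exact h1

theorem single_one_eq_cons :
    (Pi.single 1 1 : Fin (n + 2) → F) = Fin.cons 0 (Pi.single 0 1) := by
  funext i
  refine Fin.cases ?_ (fun i' => ?_) i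
  · simp
  · have h1 : (i'.succ = (1 : Fin (n + 2))) ↔ (i' = 0) := by
      rw [show (1 : Fin (n + 2)) = Fin.succ 0 from rfl, Fin.succ_inj]
    rw [Fin.cons_succ, Pi.single_apply, Pi.single_apply]
    simp only [h1]

/-- `SU_n(q)` is generated by unitary transvections, unless `(n, q) = (3, 2)`. -/
theorem su_eq_uT (hF : Fintype.card F = q ^ 2) :
    ∀ n : ℕ, 1 ≤ n → (n = 3 → 3 ≤ q) → uT n F q = ⊤ := by
  classical
  have hq := uq_ge_two hF
  have hq0 : q ≠ 0 := by omega
  intro n
  induction n using Nat.strong_induction_on with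
  | _ n ih =>
    intro hn1 hn3
    rw [eq_top_iff]
    intro g _
    obtain ⟨m, rfl⟩ : ∃ m, n = m + 1 := ⟨n - 1, by omega⟩
    rcases Nat.eq_zero_or_pos m with rfl | hm
    · -- `SU 1` is trivial
      have : g = 1 := by
        apply suM_injective
        ext i j
        have h1 := g.1.2
        rw [Matrix.det_fin_one] at h1
        rw [Fin.eq_zero (i : Fin 1), Fin.eq_zero (j : Fin 1)]
        show suM g 0 0 = (1 : Matrix (Fin 1) (Fin 1) F) 0 0
        rw [Matrix.one_apply_eq]
        exact h1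
      rw [this]
      exact one_mem _
    · have hE : Cfsg.hermForm (m + 1) F q (Pi.single 0 1) (Pi.single 0 1) = 1 := by
        rw [herm_single_single hF, if_pos rfl]
      have hx : Cfsg.hermForm (m + 1) F q (suM g *ᵥ Pi.single 0 1) (suM g *ᵥ Pi.single 0 1)
          = 1 := by rw [su_pres g, hE]
      have hcond : 3 ≤ m ∨ (m = 2 ∧ 3 ≤ q) ∨ m = 1 := by
        by_cases h2 : m = 2
        · exact Or.inr (Or.inl ⟨h2, hn3 (by omega)⟩)
        · omega
      obtain ⟨t, ht, -, htx⟩ := uconn_e0 hF m hcond _ hx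
      have hg₁ : suM (t * g) *ᵥ (Pi.single 0 1) = Pi.single 0 1 := by
        rw [suM_mul, ← Matrix.mulVec_mulVec]; exact htx
      obtain ⟨g', hg'⟩ := su_fix_e0 hF (t * g) hg₁
      have hgeq : g = t⁻¹ * (t * g) := by rw [inv_mul_cancel_left]
      by_cases hm3 : m = 3
      · subst hm3
        -- second step: fix the second basis vector as well
        obtain ⟨E₁, hE₁⟩ : ∃ E₁ : Fin (3 + 1) → F, E₁ = Pi.single 1 1 := ⟨_, rfl⟩
        have hE₁E₁ : Cfsg.hermForm (3 + 1) F q E₁ E₁ = 1 := by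
          rw [hE₁, herm_single_single hF, if_pos rfl]
        have hy : Cfsg.hermForm (3 + 1) F q (suM (t * g) *ᵥ E₁) (suM (t * g) *ᵥ E₁) = 1 := by
          rw [su_pres (t * g), hE₁E₁]
        have hy0 : (suM (t * g) *ᵥ E₁) 0 = 0 := by
          rw [← herm_single_right hF (suM (t * g) *ᵥ E₁) 0]
          nth_rw 1 [← hg₁]
          rw [su_pres (t * g), hE₁, herm_single_single hF, if_neg (by simp)]
        have hE₁0 : E₁ 0 = 0 := by rw [hE₁]; simp
        obtain ⟨t', ht', ht'E, ht'y⟩ := uconn_fix_e0 hF 3 (by omega) _ E₁ hy hE₁E₁ hy0 hE₁0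
        have hg₂ : suM (t' * (t * g)) *ᵥ (Pi.single 0 1) = Pi.single 0 1 := by
          rw [suM_mul, ← Matrix.mulVec_mulVec, hg₁]; exact ht'E
        have hg₂' : suM (t' * (t * g)) *ᵥ E₁ = E₁ := by
          rw [suM_mul, ← Matrix.mulVec_mulVec]; exact ht'y
        obtain ⟨g₂, hg₂eq⟩ := su_fix_e0 hF (t' * (t * g)) hg₂
        have hg₂fix : suM g₂ *ᵥ (Pi.single 0 1) = Pi.single 0 1 := by
          have h1 := hg₂'
          rw [hg₂eq, ublockSU_val, hE₁, single_one_eq_cons, ublock_mulVec] at h1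
          have h2 := congrArg Fin.tail h1
          simpa using h2
        obtain ⟨g₃, hg₃eq⟩ := su_fix_e0 hF g₂ hg₂fix
        have h2 : uT 2 F q = ⊤ := ih 2 (by omega) (by omega) (by omega)
        have hg₃ : g₃ ∈ uT 2 F q := by rw [h2]; exact Subgroup.mem_top _
        have hg₂mem : g₂ ∈ uT 3 F q := by rw [hg₃eq]; exact ublockSU_mem hF g₃ hg₃
        have hmem : t' * (t * g) ∈ uT (3 + 1) F q := by
          rw [hg₂eq]; exact ublockSU_mem hF g₂ hg₂mem
        have hgeq' : g = t⁻¹ * (t'⁻¹ * (t' * (t * g))) := by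
          rw [inv_mul_cancel_left, inv_mul_cancel_left]
        rw [hgeq']
        exact mul_mem (inv_mem ht) (mul_mem (inv_mem ht') hmem)
      · have h2 : uT m F q = ⊤ := ih m (by omega) (by omega) (fun h => absurd h hm3)
        have hg'mem : g' ∈ uT m F q := by rw [h2]; exact Subgroup.mem_top _
        rw [hgeq, hg']
        exact mul_mem (inv_mem ht) (ublockSU_mem hF g' hg'mem)

end UGen

end Cfsg.Agent.Lib.helper4
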