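import Mathlib
import Cfsg.Agent.Lib.helper4.UGen

set_option autoImplicit false
set_option linter.unusedSectionVars false

/-!
# Unitary transvections are commutators in `SU_n(q)` (`n ≥ 4`, or `n = 3` and `q ≥ 3`)
-/

namespace Cfsg.Agent.Lib.helper4

open Matrix

section UComm

variable {F : Type*} [Field F] [Fintype F] {q : ℕ} {n : ℕ}

theorem su_ext (A B : Cfsg.SU n F q) (h : ∀ x, suM A *ᵥ x = suM B *ᵥ x) : A = B := by
  apply suM_injective
  apply Matrix.mulVec_injective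
  funext x
  exact h x

theorem herm_zero_of_symm (hF : Fintype.card F = q ^ 2) {x y : Fin n → F}
    (h : Cfsg.hermForm n F q x y = 0) : Cfsg.hermForm n F q y x = 0 := by
  have hq := uq_ge_two hF
  rw [← herm_symm hF, h, zero_pow (by omega)]

theorem herm_one_of_symm (hF : Fintype.card F = q ^ 2) {x y : Fin n → F}
    (h : Cfsg.hermForm n F q x y = 1) : Cfsg.hermForm n F q y x = 1 := by
  rw [← herm_symm hF, h, one_pow]

theorem herm_comb_disjoint (hF : Fintype.card F = q ^ 2) (x y z w : Fin n → F)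
    (hxz : Cfsg.hermForm n F q x z = 0) (hxw : Cfsg.hermForm n F q x w = 0)
    (hyz : Cfsg.hermForm n F q y z = 0) (hyw : Cfsg.hermForm n F q y w = 0) (a b c d : F) :
    Cfsg.hermForm n F q (a • x + b • y) (c • z + d • w) = 0 := by
  rw [herm_add_left, herm_add_right hF, herm_add_right hF, herm_smul_left, herm_smul_left,
    herm_smul_right, herm_smul_right, herm_smul_left, herm_smul_left, herm_smul_right,
    herm_smul_right, hxz, hxw, hyz, hyw]
  ring

/-- a hyperbolic pair inside the span of an orthonormal pair. -/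
theorem exists_hyp_of_orth (hF : Fintype.card F = q ^ 2) (x y : Fin n → F)
    (hx : Cfsg.hermForm n F q x x = 1) (hy : Cfsg.hermForm n F q y y = 1)
    (hxy : Cfsg.hermForm n F q x y = 0) :
    ∃ a b c d : F, Cfsg.hermForm n F q (a • x + b • y) (a • x + b • y) = 0 ∧
      Cfsg.hermForm n F q (c • x + d • y) (c • x + d • y) = 0 ∧
      Cfsg.hermForm n F q (a • x + b • y) (c • x + d • y) = 1 ∧ a • x + b • y ≠ 0 := by
  have hq := uq_ge_two hF
  obtain ⟨θ₁, θ₂, hne, hθ₁, hθ₂⟩ := exists_norm_neg_one_pair hF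
  obtain ⟨γ, hγ⟩ : ∃ γ : F, γ = 1 + θ₁ * θ₂ ^ q := ⟨_, rfl⟩
  have hγ0 : γ ≠ 0 := by
    intro h0
    have h1 : θ₂ * γ = θ₂ - θ₁ := by
      rw [hγ]; rw [unorm_eq] at hθ₂; linear_combination θ₁ * hθ₂
    rw [h0, mul_zero] at h1
    exact hne (by linear_combination h1)
  obtain ⟨μ, hμ⟩ : ∃ μ : F, μ = (γ⁻¹) ^ q := ⟨_, rfl⟩
  have hμq : μ ^ q = γ⁻¹ := by rw [hμ, frob_frob hF]
  refine ⟨1, θ₁, μ, μ * θ₂, ?_, ?_, ?_, ?_⟩
  · rw [herm_orth_comb hF x y hx hy hxy]
    rw [unorm_eq] at hθ₁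
    rw [one_pow]; linear_combination hθ₁
  · rw [herm_orth_comb hF x y hx hy hxy]
    rw [unorm_eq] at hθ₂
    rw [mul_pow]; linear_combination (μ * μ ^ q) * hθ₂
  · rw [herm_orth_comb hF x y hx hy hxy, mul_pow, hμq]
    have : 1 * γ⁻¹ + θ₁ * (γ⁻¹ * θ₂ ^ q) = γ⁻¹ * γ := by rw [hγ]; ring
    rw [this, inv_mul_cancel₀ hγ0]
  · intro h0
    have h1 : Cfsg.hermForm n F q ((1 : F) • x + θ₁ • y) x = 1 := by
      have : x = (1 : F) • x + (0 : F) • y := by module
      nth_rw 2 [this]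
      rw [herm_orth_comb hF x y hx hy hxy, one_pow, zero_pow (by omega)]
      ring
    rw [h0, herm_zero_left] at h1
    exact zero_ne_one h1

/-- every nonzero isotropic vector is the `GU`-image of a combination of the first two basis
vectors. -/
theorem exists_gu_std (hF : Fintype.card F = q ^ 2) (hn : 2 ≤ n) (v : Fin n → F) (hv0 : v ≠ 0)
    (hv : Cfsg.hermForm n F q v v = 0) :
    ∃ A : Matrix.GeneralLinearGroup (Fin n) F, A ∈ Cfsg.GU n F q ∧ ∃ a b : F,
      (A : Matrix (Fin n) (Fin n) F) *ᵥ (a • Pi.single (⟨0, by omega⟩ : Fin n) 1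
        + b • Pi.single (⟨1, by omega⟩ : Fin n) 1) = v := by
  classical
  have h00 : Cfsg.hermForm n F q (Pi.single (⟨0, by omega⟩ : Fin n) 1)
      (Pi.single (⟨0, by omega⟩ : Fin n) 1) = 1 := by rw [herm_single_single hF, if_pos rfl]
  have h11 : Cfsg.hermForm n F q (Pi.single (⟨1, by omega⟩ : Fin n) 1)
      (Pi.single (⟨1, by omega⟩ : Fin n) 1) = 1 := by rw [herm_single_single hF, if_pos rfl]
  have h01 : Cfsg.hermForm n F q (Pi.single (⟨0, by omega⟩ : Fin n) 1)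
      (Pi.single (⟨1, by omega⟩ : Fin n) 1) = 0 := by
    rw [herm_single_single hF, if_neg (by simp [Fin.ext_iff])]
  obtain ⟨a, b, -, -, hiso, -, -, hne⟩ := exists_hyp_of_orth hF _ _ h00 h11 h01
  obtain ⟨A, hA, hAr⟩ := gu_trans_one hF _ v hne hv0 (by rw [hv, hiso])
  exact ⟨A, hA, a, b, hAr⟩

/-- a form-preserving transvection matrix has `c + c^q = 0`. -/
theorem utv_pres_trace (hF : Fintype.card F = q ^ 2) (v : Fin n → F) (hv0 : v ≠ 0)
    (hv : Cfsg.hermForm n F q v v = 0) (c : F)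
    (hpres : ∀ x y, Cfsg.hermForm n F q ((Cfsg.unitaryTransvection n q v c) *ᵥ x)
      ((Cfsg.unitaryTransvection n q v c) *ᵥ y) = Cfsg.hermForm n F q x y) :
    c + c ^ q = 0 := by
  classical
  have hex : ∃ i, v i ≠ 0 := by
    by_contra hne
    push Not at hne
    exact hv0 (funext hne)
  obtain ⟨i, hi⟩ := hex
  have h1 := hpres (Pi.single i 1) (Pi.single i 1)
  have hxv : Cfsg.hermForm n F q (Pi.single i 1) v = v i ^ q := herm_single_left hF v i
  have hvy : Cfsg.hermForm n F q v (Pi.single i 1) = v i := herm_single_right hF v i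
  rw [herm_utv hF v hv, hxv, hvy] at h1
  have h2 : (c ^ q + c) * (v i ^ q * v i) = 0 := by linear_combination h1
  have h3 : v i ^ q * v i ≠ 0 := mul_ne_zero (pow_ne_zero q hi) hi
  have h4 := (mul_eq_zero.mp h2).resolve_right h3
  linear_combination h4

/-- an element of `SU` whose matrix is a unitary transvection along a nonzero isotropic vector. -/
theorem eq_utvSU (hF : Fintype.card F = q ^ 2) (A : Cfsg.SU n F q) (v : Fin n → F) (c : F)
    (hv0 : v ≠ 0) (hv : Cfsg.hermForm n F q v v = 0)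
    (hA : suM A = Cfsg.unitaryTransvection n q v c) : c + c ^ q = 0 ∧ A = utvSU hF v c := by
  have hc : c + c ^ q = 0 := by
    apply utv_pres_trace hF v hv0 hv
    rw [← hA]
    exact su_pres A
  exact ⟨hc, suM_injective (by rw [hA, utvSU_val hF v c hv hc])⟩

/-! ### Siegel elements -/

/-- the Siegel element `x ↦ x + (c l) h(x,e) u + (c l^q) h(x,u) e`. -/
noncomputable def usiegel (hF : Fintype.card F = q ^ 2) (e u : Fin n → F) (c l : F) :
    Cfsg.SU n F q :=
  utvSU hF (e + l • u) c * utvSU hF e (-c) * utvSU hF u (-(c * l ^ (q + 1)))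

theorem usiegel_mulVec (hF : Fintype.card F = q ^ 2) (e u : Fin n → F)
    (he : Cfsg.hermForm n F q e e = 0) (hu : Cfsg.hermForm n F q u u = 0)
    (heu : Cfsg.hermForm n F q e u = 0) (c l : F) (hc : c + c ^ q = 0) (x : Fin n → F) :
    suM (usiegel hF e u c l) *ᵥ x
      = x + (c * l * Cfsg.hermForm n F q x e) • u + (c * l ^ q * Cfsg.hermForm n F q x u) • e := by
  have hue := herm_zero_of_symm hF heu
  have hcn : (-c) + (-c) ^ q = 0 := by rw [frob_neg hF]; linear_combination -hc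
  have hc3 : (-(c * l ^ (q + 1))) + (-(c * l ^ (q + 1))) ^ q = 0 := by
    rw [frob_neg hF, mul_pow, unorm_fixed hF]
    linear_combination (-(l ^ (q + 1))) * hc
  have hv : Cfsg.hermForm n F q (e + l • u) (e + l • u) = 0 := by
    simp only [herm_add_left, herm_add_right hF, herm_smul_left, herm_smul_right, he, hu, heu,
      hue]
    ring
  unfold usiegel
  rw [suM_mul, suM_mul, ← Matrix.mulVec_mulVec, ← Matrix.mulVec_mulVec,
    utvSU_mulVec hF u _ hu hc3, utvSU_mulVec hF e _ he hcn, utvSU_mulVec hF _ _ hv hc]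
  simp only [herm_add_left, herm_smul_left, herm_add_right hF, herm_smul_right, he, hu, heu, hue]
  rw [pow_succ]
  module

/-- a transvection as a commutator of two Siegel elements. -/
theorem utv_comm_siegel (hF : Fintype.card F = q ^ 2) (e u u' : Fin n → F)
    (he : Cfsg.hermForm n F q e e = 0) (hu : Cfsg.hermForm n F q u u = 0)
    (hu' : Cfsg.hermForm n F q u' u' = 0) (heu : Cfsg.hermForm n F q e u = 0)
    (heu' : Cfsg.hermForm n F q e u' = 0) (huu' : Cfsg.hermForm n F q u u' = 1)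
    (c₀ : F) (hc₀ : c₀ + c₀ ^ q = 0) :
    ∃ L₁ L₂ : Cfsg.SU n F q, L₁ * L₂ * L₁⁻¹ * L₂⁻¹ = utvSU hF e c₀ := by
  have hq := uq_ge_two hF
  obtain ⟨κ, hκ0, hκ⟩ := exists_trace_zero hF
  have hκq : κ ^ q = -κ := by linear_combination hκ
  obtain ⟨τ, hτ⟩ := utrace_surj hF 1 (one_pow q)
  obtain ⟨ρ, hρ⟩ : ∃ ρ : F, ρ = c₀ / κ ^ 2 := ⟨_, rfl⟩
  have hc₀q : c₀ ^ q = -c₀ := by linear_combination hc₀
  have hρq : ρ ^ q = -ρ := by
    rw [hρ, div_pow, ← pow_mul, mul_comm 2 q, pow_mul, hκq, hc₀q]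
    field_simp
  obtain ⟨l, hl⟩ : ∃ l : F, l = -(τ * ρ) := ⟨_, rfl⟩
  have hlq : l ^ q - l = ρ := by
    rw [hl, frob_neg hF, mul_pow, hρq]
    linear_combination ρ * hτ
  have hkey : κ * l ^ q * κ - κ * (κ * l) = c₀ := by
    have : κ * l ^ q * κ - κ * (κ * l) = κ ^ 2 * (l ^ q - l) := by ring
    rw [this, hlq, hρ]
    field_simp
  have hue := herm_zero_of_symm hF heu
  have hu'e := herm_zero_of_symm hF heu'
  have hu'u := herm_one_of_symm hF huu'
  refine ⟨usiegel hF e u κ l, usiegel hF e u' κ 1, ?_⟩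
  have hmain : usiegel hF e u κ l * usiegel hF e u' κ 1
      = utvSU hF e c₀ * (usiegel hF e u' κ 1 * usiegel hF e u κ l) := by
    apply su_ext
    intro x
    rw [suM_mul, suM_mul, suM_mul, ← Matrix.mulVec_mulVec, ← Matrix.mulVec_mulVec,
      ← Matrix.mulVec_mulVec, usiegel_mulVec hF e u' he hu' heu' κ 1 hκ,
      usiegel_mulVec hF e u he hu heu κ l hκ, usiegel_mulVec hF e u he hu heu κ l hκ,
      usiegel_mulVec hF e u' he hu' heu' κ 1 hκ, utvSU_mulVec hF e c₀ he hc₀]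
    simp only [herm_add_left, herm_smul_left, he, hu, hu', heu, heu', huu', hue, hu'e, hu'u,
      one_pow, mul_one, mul_zero, add_zero]
    rw [← hkey]
    module
  rw [hmain]
  group

/-! ### the torus commutator (`q ≥ 3`) -/

/-- an element of `SU` scaling a given nonzero isotropic vector by `l` (`n ≥ 3`). -/
theorem exists_su_scale (hF : Fintype.card F = q ^ 2) (hn : 3 ≤ n) (v : Fin n → F) (hv0 : v ≠ 0)
    (hv : Cfsg.hermForm n F q v v = 0) (l : F) (hl : l ≠ 0) :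
    ∃ d : Cfsg.SU n F q, suM d *ᵥ v = l • v := by
  classical
  have hq := uq_ge_two hF
  obtain ⟨g₁, hg₁, hg₁v⟩ := gu_trans_one hF v (l • v) hv0 (smul_ne_zero hl hv0) (by
    rw [herm_smul_left, herm_smul_right, hv]; ring)
  obtain ⟨δ, hδ⟩ : ∃ δ : F, δ = (g₁ : Matrix (Fin n) (Fin n) F).det := ⟨_, rfl⟩
  have hδ1 : δ ^ (q + 1) = 1 := by
    have h1 := Cfsg.Agent.S0783.det_pow_of_mem hF n g₁ hg₁
    have h2 := congrArg (fun u : Fˣ => (u : F)) h1
    simp only [Units.val_pow_eq_pow_val, Units.val_one,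
      Matrix.GeneralLinearGroup.val_det_apply] at h2
    rw [hδ]; exact h2
  have hδ0 : δ ≠ 0 := by
    rintro rfl
    rw [zero_pow (by omega)] at hδ1
    exact zero_ne_one hδ1
  obtain ⟨g₂, hg₂, a, b, hg₂v⟩ := exists_gu_std hF (by omega) v hv0 hv
  obtain ⟨D, hD, hDv, hDdet⟩ := gu_diag_one (q := q) (⟨2, by omega⟩ : Fin n) δ⁻¹ (by
    rw [inv_pow, hδ1, inv_one])
  obtain ⟨v₀, hv₀⟩ : ∃ v₀ : Fin n → F, v₀ = a • Pi.single (⟨0, by omega⟩ : Fin n) 1
      + b • Pi.single (⟨1, by omega⟩ : Fin n) 1 := ⟨_, rfl⟩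
  rw [← hv₀] at hg₂v
  have hDv₀ : (D : Matrix (Fin n) (Fin n) F) *ᵥ v₀ = v₀ := by
    rw [hDv]
    funext j
    rw [Matrix.mulVec_diagonal]
    by_cases hj : j = ⟨2, by omega⟩
    · rw [if_pos hj, hv₀, hj]
      simp [Fin.ext_iff]
    · rw [if_neg hj, one_mul]
  have hg₂inv : ((g₂⁻¹ : Matrix.GeneralLinearGroup (Fin n) F) : Matrix (Fin n) (Fin n) F) *ᵥ v
      = v₀ := by
    rw [← hg₂v, Matrix.mulVec_mulVec, ← Units.val_mul, inv_mul_cancel, Units.val_one,
      Matrix.one_mulVec]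
  have hrmem : g₂ * D * g₂⁻¹ * g₁ ∈ Cfsg.GU n F q :=
    mul_mem (mul_mem (mul_mem hg₂ hD) (inv_mem hg₂)) hg₁
  have hdet : (((g₂ * D * g₂⁻¹ * g₁ : Matrix.GeneralLinearGroup (Fin n) F)) :
      Matrix (Fin n) (Fin n) F).det = 1 := by
    rw [Units.val_mul, Matrix.det_mul, Units.val_mul, Units.val_mul, Matrix.det_units_conj,
      hDdet, ← hδ, inv_mul_cancel₀ hδ0]
  obtain ⟨d, hd⟩ := su_mk (q := q) _ ((mem_GU_iff _).mp hrmem) hdet
  refine ⟨d, ?_⟩
  rw [show suM d = _ from hd, Units.val_mul, ← Matrix.mulVec_mulVec, hg₁v, Matrix.mulVec_smul,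
    Units.val_mul, Units.val_mul, ← Matrix.mulVec_mulVec, ← Matrix.mulVec_mulVec, hg₂inv, hDv₀,
    hg₂v]

theorem utv_comm_torus (hF : Fintype.card F = q ^ 2) (hn : 3 ≤ n) (hq3 : 3 ≤ q)
    (v : Fin n → F) (hv0 : v ≠ 0) (hv : Cfsg.hermForm n F q v v = 0)
    (c₀ : F) (hc₀ : c₀ + c₀ ^ q = 0) :
    ∃ d B : Cfsg.SU n F q, d * B * d⁻¹ * B⁻¹ = utvSU hF v c₀ := by
  have hq := uq_ge_two hF
  obtain ⟨l, hl0, hl1⟩ := exists_norm_ne hF hq3
  have hl00 : l ≠ 0 := fun h => hl0 (by rw [h, zero_pow (by omega)])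
  have hN0 : l ^ (q + 1) - 1 ≠ 0 := sub_ne_zero.mpr hl1
  obtain ⟨d, hd⟩ := exists_su_scale hF hn v hv0 hv l hl00
  obtain ⟨c', hc'⟩ : ∃ c' : F, c' = c₀ / (l ^ (q + 1) - 1) := ⟨_, rfl⟩
  have hc'c : c' * (l ^ (q + 1) - 1) = c₀ := by rw [hc']; field_simp
  have hc'q : c' + c' ^ q = 0 := by
    rw [hc', div_pow, frob_sub hF, unorm_fixed hF, one_pow]
    field_simp
    linear_combination hc₀
  have hlq0 : l ^ q ≠ 0 := pow_ne_zero _ hl00
  have hdx : ∀ x, Cfsg.hermForm n F q (suM d *ᵥ x) v = Cfsg.hermForm n F q x v / l ^ q := by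
    intro x
    have h1 : Cfsg.hermForm n F q (suM d *ᵥ x) (l • v) = Cfsg.hermForm n F q x v := by
      rw [← hd, su_pres d]
    rw [herm_smul_right] at h1
    rw [← h1]
    field_simp
  refine ⟨d, utvSU hF v c', ?_⟩
  have hmain : d * utvSU hF v c' = utvSU hF v c₀ * (utvSU hF v c' * d) := by
    apply su_ext
    intro x
    rw [suM_mul, suM_mul, suM_mul, ← Matrix.mulVec_mulVec, ← Matrix.mulVec_mulVec,
      ← Matrix.mulVec_mulVec, utvSU_mulVec hF v c' hv hc'q, utvSU_mulVec hF v c' hv hc'q,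
      utvSU_mulVec hF v c₀ hv hc₀, Matrix.mulVec_add, Matrix.mulVec_smul, hd, herm_add_left,
      herm_smul_left, hv, hdx]
    have hcoef : c' * Cfsg.hermForm n F q x v * l
        = c' * (Cfsg.hermForm n F q x v / l ^ q) + c₀ * (Cfsg.hermForm n F q x v / l ^ q) := by
      rw [← hc'c, unorm_eq]
      field_simp
      ring
    rw [smul_smul, hcoef]
    module
  rw [hmain]
  group

/-- a unitary transvection in `SU_n(q)` is a commutator (`n ≥ 4`, or `n = 3` and `q ≥ 3`). -/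
theorem utv_mem_commutatorSet (hF : Fintype.card F = q ^ 2) (hn : 4 ≤ n ∨ (n = 3 ∧ 3 ≤ q))
    (A : Cfsg.SU n F q) (v : Fin n → F) (c : F) (hv : Cfsg.hermForm n F q v v = 0)
    (hA : suM A = Cfsg.unitaryTransvection n q v c) : A ∈ commutatorSet (Cfsg.SU n F q) := by
  classical
  rw [mem_commutatorSet_iff]
  by_cases hv0 : v = 0
  · refine ⟨1, 1, ?_⟩
    rw [commutatorElement_def]
    apply suM_injective
    rw [hA, hv0]
    unfold Cfsg.unitaryTransvection
    simp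
    rfl
  · obtain ⟨hc, hAeq⟩ := eq_utvSU hF A v c hv0 hv hA
    rcases hn with h4 | ⟨h3, hq3⟩
    · obtain ⟨g, hg, a, b, hgv⟩ := exists_gu_std hF (by omega) v hv0 hv
      have hpres := (mem_GU_iff _).mp hg
      have h22 : Cfsg.hermForm n F q (Pi.single (⟨2, by omega⟩ : Fin n) 1)
          (Pi.single (⟨2, by omega⟩ : Fin n) 1) = 1 := by rw [herm_single_single hF, if_pos rfl]
      have h33 : Cfsg.hermForm n F q (Pi.single (⟨3, by omega⟩ : Fin n) 1)
          (Pi.single (⟨3, by omega⟩ : Fin n) 1) = 1 := by rw [herm_single_single hF, if_pos rfl]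
      have h23 : Cfsg.hermForm n F q (Pi.single (⟨2, by omega⟩ : Fin n) 1)
          (Pi.single (⟨3, by omega⟩ : Fin n) 1) = 0 := by
        rw [herm_single_single hF, if_neg (by simp [Fin.ext_iff])]
      obtain ⟨a', b', c', d', hu₀, hu₀', hu₀u₀', -⟩ := exists_hyp_of_orth hF _ _ h22 h33 h23
      have hdis : ∀ (s t : F), Cfsg.hermForm n F q
          (a • Pi.single (⟨0, by omega⟩ : Fin n) 1 + b • Pi.single (⟨1, by omega⟩ : Fin n) 1)
          (s • Pi.single (⟨2, by omega⟩ : Fin n) 1 + t • Pi.single (⟨3, by omega⟩ : Fin n) 1)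
          = 0 := by
        intro s t
        apply herm_comb_disjoint hF <;>
          rw [herm_single_single hF, if_neg (by simp [Fin.ext_iff])]
      obtain ⟨L₁, L₂, hL⟩ := utv_comm_siegel hF v
        ((g : Matrix (Fin n) (Fin n) F) *ᵥ (a' • Pi.single (⟨2, by omega⟩ : Fin n) 1
          + b' • Pi.single (⟨3, by omega⟩ : Fin n) 1))
        ((g : Matrix (Fin n) (Fin n) F) *ᵥ (c' • Pi.single (⟨2, by omega⟩ : Fin n) 1
          + d' • Pi.single (⟨3, by omega⟩ : Fin n) 1))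
        hv (by rw [hpres, hu₀]) (by rw [hpres, hu₀'])
        (by nth_rw 1 [← hgv]; rw [hpres, hdis])
        (by nth_rw 1 [← hgv]; rw [hpres, hdis])
        (by rw [hpres, hu₀u₀']) c hc
      exact ⟨L₁, L₂, by rw [commutatorElement_def, hL, hAeq]⟩
    · obtain ⟨d, B, hdB⟩ := utv_comm_torus hF (by omega) hq3 v hv0 hv c hc
      exact ⟨d, B, by rw [commutatorElement_def, hdB, hAeq]⟩

end UComm

end Cfsg.Agent.Lib.helper4
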