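import Mathlib
import Cfsg.Agent.Lib.helper4.UComm

set_option autoImplicit false
set_option linter.unusedSectionVars false

/-!
# Simplicity of `PSU_n(q)` (`n ≥ 3`, `(n, q) ≠ (3, 2)`)
-/

namespace Cfsg.Agent.Lib.helper4

open Matrix

section USimple

variable {F : Type*} [Field F] [Fintype F] {q : ℕ} {n : ℕ}

theorem su_perfect (hF : Fintype.card F = q ^ 2) (hn : 4 ≤ n ∨ (n = 3 ∧ 3 ≤ q)) :
    commutator (Cfsg.SU n F q) = ⊤ := by
  have hq := uq_ge_two hF
  have hgen : uT n F q = ⊤ := su_eq_uT hF n (by omega) (by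
    intro h3; rcases hn with h | h <;> omega)
  rw [eq_top_iff, ← hgen, commutator_eq_closure]
  unfold uT
  rw [Subgroup.closure_le]
  rintro A ⟨v, c, hv, hA⟩
  exact Subgroup.subset_closure (utv_mem_commutatorSet hF hn A v c hv hA)

theorem utvSU_conj (hF : Fintype.card F = q ^ 2) (g : Cfsg.SU n F q) (v : Fin n → F) (c : F)
    (hv : Cfsg.hermForm n F q v v = 0) (hc : c + c ^ q = 0) :
    g * utvSU hF v c = utvSU hF (suM g *ᵥ v) c * g := by
  apply su_ext
  intro x
  rw [suM_mul, suM_mul, ← Matrix.mulVec_mulVec, ← Matrix.mulVec_mulVec,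
    utvSU_mulVec hF v c hv hc, utvSU_mulVec hF _ c (by rw [su_pres g, hv]) hc, su_pres g,
    Matrix.mulVec_add, Matrix.mulVec_smul]

theorem utvSU_smul (hF : Fintype.card F = q ^ 2) (v : Fin n → F) (l c : F)
    (hv : Cfsg.hermForm n F q v v = 0) (hc : c + c ^ q = 0) :
    utvSU hF (l • v) c = utvSU hF v (c * l ^ (q + 1)) := by
  have hc' : c * l ^ (q + 1) + (c * l ^ (q + 1)) ^ q = 0 := by
    rw [mul_pow, unorm_fixed hF]; linear_combination (l ^ (q + 1)) * hc
  apply su_ext
  intro x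
  rw [utvSU_mulVec hF (l • v) c (by rw [herm_smul_left, herm_smul_right, hv]; ring) hc,
    utvSU_mulVec hF v _ hv hc', herm_smul_right, smul_smul, unorm_eq]
  congr 2
  ring

theorem utvSU_add (hF : Fintype.card F = q ^ 2) (v : Fin n → F) (c c' : F)
    (hv : Cfsg.hermForm n F q v v = 0) (hc : c + c ^ q = 0) (hc' : c' + c' ^ q = 0) :
    utvSU hF v c * utvSU hF v c' = utvSU hF v (c + c') := by
  have hcc : (c + c') + (c + c') ^ q = 0 := by
    rw [frob_add hF]; linear_combination hc + hc'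
  apply su_ext
  intro x
  rw [suM_mul, ← Matrix.mulVec_mulVec, utvSU_mulVec hF v c' hv hc', utvSU_mulVec hF v c hv hc,
    utvSU_mulVec hF v _ hv hcc, herm_add_left, herm_smul_left, hv]
  module

theorem li_of_hyp (hF : Fintype.card F = q ^ 2) (a b : Fin n → F)
    (ha : Cfsg.hermForm n F q a a = 0) (hab : Cfsg.hermForm n F q a b = 1) :
    LinearIndependent F ![a, b] := by
  have hba := herm_one_of_symm hF hab
  rw [LinearIndependent.pair_iff]
  intro s t hst
  have h1 : Cfsg.hermForm n F q (s • a + t • b) a = 0 := by rw [hst, herm_zero_left]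
  rw [herm_add_left, herm_smul_left, herm_smul_left, ha, hba] at h1
  have ht : t = 0 := by linear_combination h1
  have h2 : Cfsg.hermForm n F q (s • a + t • b) b = 0 := by rw [hst, herm_zero_left]
  rw [herm_add_left, herm_smul_left, herm_smul_left, hab, ht] at h2
  exact ⟨by linear_combination h2, ht⟩

/-- Witt for pairs. -/
theorem u_witt_pair (hF : Fintype.card F = q ^ 2) (a b a' b' : Fin n → F)
    (hli : LinearIndependent F ![a, b]) (hli' : LinearIndependent F ![a', b'])
    (h11 : Cfsg.hermForm n F q a' a' = Cfsg.hermForm n F q a a)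
    (h12 : Cfsg.hermForm n F q a' b' = Cfsg.hermForm n F q a b)
    (h21 : Cfsg.hermForm n F q b' a' = Cfsg.hermForm n F q b a)
    (h22 : Cfsg.hermForm n F q b' b' = Cfsg.hermForm n F q b b) :
    ∃ A : Matrix.GeneralLinearGroup (Fin n) F, A ∈ Cfsg.GU n F q ∧
      (A : Matrix (Fin n) (Fin n) F) *ᵥ a = a' ∧ (A : Matrix (Fin n) (Fin n) F) *ᵥ b = b' := by
  obtain ⟨A, hA, hAv⟩ := u_witt_frames hF ![a, b] ![a', b'] hli hli' (by
    intro i j
    fin_cases i <;> fin_cases j
    · exact h11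
    · exact h12
    · exact h21
    · exact h22)
  exact ⟨A, hA, hAv 0, hAv 1⟩

/-- an isotropic partner. -/
theorem exists_partner (hF : Fintype.card F = q ^ 2) (hn : 2 ≤ n) (v : Fin n → F) (hv0 : v ≠ 0)
    (hv : Cfsg.hermForm n F q v v = 0) :
    ∃ f : Fin n → F, Cfsg.hermForm n F q f f = 0 ∧ Cfsg.hermForm n F q v f = 1 := by
  classical
  have h00 : Cfsg.hermForm n F q (Pi.single (⟨0, by omega⟩ : Fin n) 1)
      (Pi.single (⟨0, by omega⟩ : Fin n) 1) = 1 := by rw [herm_single_single hF, if_pos rfl]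
  have h11 : Cfsg.hermForm n F q (Pi.single (⟨1, by omega⟩ : Fin n) 1)
      (Pi.single (⟨1, by omega⟩ : Fin n) 1) = 1 := by rw [herm_single_single hF, if_pos rfl]
  have h01 : Cfsg.hermForm n F q (Pi.single (⟨0, by omega⟩ : Fin n) 1)
      (Pi.single (⟨1, by omega⟩ : Fin n) 1) = 0 := by
    rw [herm_single_single hF, if_neg (by simp [Fin.ext_iff])]
  obtain ⟨a, b, c, d, hiso, hiso', hpair, hne⟩ := exists_hyp_of_orth hF _ _ h00 h11 h01
  obtain ⟨A, hA, hAr⟩ := gu_trans_one hF _ v hne hv0 (by rw [hv, hiso])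
  have hpres := (mem_GU_iff _).mp hA
  refine ⟨(A : Matrix (Fin n) (Fin n) F) *ᵥ (c • Pi.single (⟨0, by omega⟩ : Fin n) 1
      + d • Pi.single (⟨1, by omega⟩ : Fin n) 1), ?_, ?_⟩
  · rw [hpres, hiso']
  · rw [← hAr, hpres, hpair]

/-- an element of `GU` fixing a hyperbolic pair, with prescribed determinant (`n ≥ 3`). -/
theorem exists_gu_fix_det (hF : Fintype.card F = q ^ 2) (hn : 3 ≤ n) (a b : Fin n → F)
    (ha : Cfsg.hermForm n F q a a = 0) (hb : Cfsg.hermForm n F q b b = 0)
    (hab : Cfsg.hermForm n F q a b = 1) (δ : F) (hδ : δ ^ (q + 1) = 1) :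
    ∃ r : Matrix.GeneralLinearGroup (Fin n) F, r ∈ Cfsg.GU n F q ∧
      (r : Matrix (Fin n) (Fin n) F) *ᵥ a = a ∧ (r : Matrix (Fin n) (Fin n) F) *ᵥ b = b ∧
      (r : Matrix (Fin n) (Fin n) F).det = δ := by
  classical
  have h00 : Cfsg.hermForm n F q (Pi.single (⟨0, by omega⟩ : Fin n) 1)
      (Pi.single (⟨0, by omega⟩ : Fin n) 1) = 1 := by rw [herm_single_single hF, if_pos rfl]
  have h11 : Cfsg.hermForm n F q (Pi.single (⟨1, by omega⟩ : Fin n) 1)
      (Pi.single (⟨1, by omega⟩ : Fin n) 1) = 1 := by rw [herm_single_single hF, if_pos rfl]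
  have h01 : Cfsg.hermForm n F q (Pi.single (⟨0, by omega⟩ : Fin n) 1)
      (Pi.single (⟨1, by omega⟩ : Fin n) 1) = 0 := by
    rw [herm_single_single hF, if_neg (by simp [Fin.ext_iff])]
  obtain ⟨a₀, b₀, c₀, d₀, hiso, hiso', hpair, hne⟩ := exists_hyp_of_orth hF _ _ h00 h11 h01
  obtain ⟨v₀, hv₀⟩ : ∃ v₀ : Fin n → F, v₀ = a₀ • Pi.single (⟨0, by omega⟩ : Fin n) 1
      + b₀ • Pi.single (⟨1, by omega⟩ : Fin n) 1 := ⟨_, rfl⟩
  obtain ⟨f₀, hf₀⟩ : ∃ f₀ : Fin n → F, f₀ = c₀ • Pi.single (⟨0, by omega⟩ : Fin n) 1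
      + d₀ • Pi.single (⟨1, by omega⟩ : Fin n) 1 := ⟨_, rfl⟩
  rw [← hv₀] at hiso hpair
  rw [← hf₀] at hiso' hpair
  obtain ⟨g, hg, hgv, hgf⟩ := u_witt_pair hF v₀ f₀ a b (li_of_hyp hF v₀ f₀ hiso hpair)
    (li_of_hyp hF a b ha hab) (by rw [ha, hiso]) (by rw [hab, hpair])
    (by rw [herm_one_of_symm hF hab, herm_one_of_symm hF hpair]) (by rw [hb, hiso'])
  obtain ⟨D, hD, hDv, hDdet⟩ := gu_diag_one (q := q) (⟨2, by omega⟩ : Fin n) δ hδ
  have hDfix : ∀ s t : F, (D : Matrix (Fin n) (Fin n) F) *ᵥ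
      (s • Pi.single (⟨0, by omega⟩ : Fin n) 1 + t • Pi.single (⟨1, by omega⟩ : Fin n) 1)
      = s • Pi.single (⟨0, by omega⟩ : Fin n) 1 + t • Pi.single (⟨1, by omega⟩ : Fin n) 1 := by
    intro s t
    rw [hDv]
    funext j
    rw [Matrix.mulVec_diagonal]
    by_cases hj : j = ⟨2, by omega⟩
    · rw [if_pos hj, hj]
      simp [Fin.ext_iff]
    · rw [if_neg hj, one_mul]
  have hginv : ∀ x y : Fin n → F, (g : Matrix (Fin n) (Fin n) F) *ᵥ x = y →
      ((g⁻¹ : Matrix.GeneralLinearGroup (Fin n) F) : Matrix (Fin n) (Fin n) F) *ᵥ y = x := by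
    intro x y hxy
    rw [← hxy, Matrix.mulVec_mulVec, ← Units.val_mul, inv_mul_cancel, Units.val_one,
      Matrix.one_mulVec]
  refine ⟨g * D * g⁻¹, mul_mem (mul_mem hg hD) (inv_mem hg), ?_, ?_, ?_⟩
  · rw [Units.val_mul, Units.val_mul, ← Matrix.mulVec_mulVec, ← Matrix.mulVec_mulVec,
      hginv v₀ a hgv, hv₀, hDfix, ← hv₀, hgv]
  · rw [Units.val_mul, Units.val_mul, ← Matrix.mulVec_mulVec, ← Matrix.mulVec_mulVec,
      hginv f₀ b hgf, hf₀, hDfix, ← hf₀, hgf]
  · rw [Units.val_mul, Units.val_mul, Matrix.det_units_conj, hDdet]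

/-- `SU` is transitive on hyperbolic pairs (`n ≥ 3`). -/
theorem su_trans_hyp (hF : Fintype.card F = q ^ 2) (hn : 3 ≤ n) (a b a' b' : Fin n → F)
    (ha : Cfsg.hermForm n F q a a = 0) (hb : Cfsg.hermForm n F q b b = 0)
    (hab : Cfsg.hermForm n F q a b = 1)
    (ha' : Cfsg.hermForm n F q a' a' = 0) (hb' : Cfsg.hermForm n F q b' b' = 0)
    (hab' : Cfsg.hermForm n F q a' b' = 1) :
    ∃ d : Cfsg.SU n F q, suM d *ᵥ a = a' ∧ suM d *ᵥ b = b' := by
  have hq := uq_ge_two hF
  obtain ⟨g₁, hg₁, hg₁a, hg₁b⟩ := u_witt_pair hF a b a' b' (li_of_hyp hF a b ha hab)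
    (li_of_hyp hF a' b' ha' hab') (by rw [ha, ha']) (by rw [hab, hab'])
    (by rw [herm_one_of_symm hF hab, herm_one_of_symm hF hab']) (by rw [hb, hb'])
  obtain ⟨δ, hδ⟩ : ∃ δ : F, δ = (g₁ : Matrix (Fin n) (Fin n) F).det := ⟨_, rfl⟩
  have hδ1 : δ ^ (q + 1) = 1 := by
    have h1 := Cfsg.Agent.S0783.det_pow_of_mem hF n g₁ hg₁
    have h2 := congrArg (fun u : Fˣ => (u : F)) h1
    simp only [Units.val_pow_eq_pow_val, Units.val_one,
      Matrix.GeneralLinearGroup.val_det_apply] at h2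
    rw [hδ]; exact h2
  have hδ0 : δ ≠ 0 := by
    rintro rfl
    rw [zero_pow (by omega)] at hδ1
    exact zero_ne_one hδ1
  obtain ⟨r, hr, hra, hrb, hrdet⟩ := exists_gu_fix_det hF hn a' b' ha' hb' hab' δ⁻¹ (by
    rw [inv_pow, hδ1, inv_one])
  obtain ⟨d, hd⟩ := su_mk (q := q) _ ((mem_GU_iff _).mp (mul_mem hr hg₁)) (by
    rw [Units.val_mul, Matrix.det_mul, hrdet, ← hδ, inv_mul_cancel₀ hδ0])
  refine ⟨d, ?_, ?_⟩
  · rw [show suM d = _ from hd, Units.val_mul, ← Matrix.mulVec_mulVec, hg₁a, hra]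
  · rw [show suM d = _ from hd, Units.val_mul, ← Matrix.mulVec_mulVec, hg₁b, hrb]

/-- for an isotropic `a` and `b` with `(a, b)` independent and orthogonal, an isotropic vector
with prescribed products with `a` (equal to one) and `b`. -/
theorem exists_iso_dual (hF : Fintype.card F = q ^ 2) (a b : Fin n → F)
    (ha : Cfsg.hermForm n F q a a = 0) (hab : Cfsg.hermForm n F q a b = 0)
    (hli : LinearIndependent F ![a, b]) (β : F) :
    ∃ f : Fin n → F, Cfsg.hermForm n F q f f = 0 ∧ Cfsg.hermForm n F q f a = 1 ∧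
      Cfsg.hermForm n F q f b = β := by
  obtain ⟨z, hz⟩ := Cfsg.Agent.S0751.L_surj (ufrob hF) (uB hF n) (ufrob_invol hF) (uB_nondeg hF)
    ![a, b] hli ![1, β]
  have hza : Cfsg.hermForm n F q z a = 1 := by
    have := hz 0
    rw [uB_apply] at this
    exact this
  have hzb : Cfsg.hermForm n F q z b = β := by
    have := hz 1
    rw [uB_apply] at this
    exact this
  have haz := herm_one_of_symm hF hza
  obtain ⟨s, hs⟩ := utrace_surj hF (-(Cfsg.hermForm n F q z z)) (by
    rw [frob_neg hF, herm_self_fixed hF])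
  refine ⟨z + s • a, ?_, ?_, ?_⟩
  · rw [herm_add_left, herm_add_right hF, herm_add_right hF, herm_smul_left, herm_smul_right,
      herm_smul_right, herm_smul_left, ha, hza, haz]
    linear_combination hs
  · rw [herm_add_left, herm_smul_left, hza, ha]; ring
  · rw [herm_add_left, herm_smul_left, hzb, hab]; ring

/-! ### a non-central element moves an isotropic point -/

theorem exists_moved_point (hF : Fintype.card F = q ^ 2) (hn : 2 ≤ n)
    (hgen : uT n F q = ⊤) (g₀ : Cfsg.SU n F q)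
    (hg₀ : g₀ ∉ Subgroup.center (Cfsg.SU n F q)) :
    ∃ p : Fin n → F, p ≠ 0 ∧ Cfsg.hermForm n F q p p = 0 ∧ ∀ c : F, suM g₀ *ᵥ p ≠ c • p := by
  classical
  have hq := uq_ge_two hF
  by_contra hcon
  push Not at hcon
  apply hg₀
  have hle : uT n F q ≤ Subgroup.centralizer {g₀} := by
    unfold uT
    rw [Subgroup.closure_le]
    rintro A ⟨v, c, hv, hA⟩
    rw [SetLike.mem_coe, Subgroup.mem_centralizer_iff]
    intro h hh
    rw [Set.mem_singleton_iff] at hh
    subst hh
    by_cases hv0 : v = 0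
    · have hA1 : A = 1 := by
        apply suM_injective
        rw [show suM A = _ from hA, hv0]
        unfold Cfsg.unitaryTransvection
        simp
        rfl
      rw [hA1, mul_one, one_mul]
    · obtain ⟨hc, hAeq⟩ := eq_utvSU hF A v c hv0 hv hA
      obtain ⟨cv, hcv⟩ := hcon v hv0 hv
      obtain ⟨f, hff, hvf⟩ := exists_partner hF hn v hv0 hv
      have hfv := herm_one_of_symm hF hvf
      have hf0 : f ≠ 0 := by
        intro h0
        rw [h0, herm_zero_right hF] at hvf
        exact zero_ne_one hvf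
      obtain ⟨cf, hcf⟩ := hcon f hf0 hff
      obtain ⟨κ, hκ0, hκ⟩ := exists_trace_zero hF
      have hww : Cfsg.hermForm n F q (v + κ • f) (v + κ • f) = 0 := by
        rw [herm_add_left, herm_add_right hF, herm_add_right hF, herm_smul_left, herm_smul_right,
          herm_smul_right, herm_smul_left, hv, hff, hvf, hfv]
        linear_combination hκ
      have hw0 : v + κ • f ≠ 0 := by
        intro h0
        have h1 : Cfsg.hermForm n F q (v + κ • f) f = 1 := by
          rw [herm_add_left, herm_smul_left, hvf, hff]; ring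
        rw [h0, herm_zero_left] at h1
        exact zero_ne_one h1
      obtain ⟨cw, hcw⟩ := hcon (v + κ • f) hw0 hww
      rw [Matrix.mulVec_add, Matrix.mulVec_smul, hcv, hcf] at hcw
      have h1 : cv = cw := by
        have := congrArg (fun x => Cfsg.hermForm n F q x f) hcw
        simp only [herm_add_left, herm_smul_left, hvf, hff] at this
        linear_combination this
      have h2 : cf = cw := by
        have := congrArg (fun x => Cfsg.hermForm n F q x v) hcw
        simp only [herm_add_left, herm_smul_left, hv, hfv] at this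
        have h3 : κ * (cf - cw) = 0 := by linear_combination this
        rcases mul_eq_zero.mp h3 with h4 | h4
        · exact absurd h4 hκ0
        · linear_combination h4
      have h3 : cv ^ (q + 1) = 1 := by
        have h4 : Cfsg.hermForm n F q (suM h *ᵥ v) (suM h *ᵥ f) = 1 := by rw [su_pres h, hvf]
        rw [hcv, hcf, herm_smul_left, herm_smul_right, hvf, h2, ← h1] at h4
        rw [unorm_eq]; linear_combination h4
      rw [hAeq, utvSU_conj hF h v c hv hc, hcv, utvSU_smul hF v cv c hv hc, h3, mul_one]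
  rw [hgen] at hle
  rw [Subgroup.mem_center_iff]
  intro g
  have h1 := hle (Subgroup.mem_top g)
  rw [Subgroup.mem_centralizer_iff] at h1
  exact (h1 g₀ rfl).symm

/-! ### the orbit relation of a normal subgroup on isotropic points -/

/-- `p` and `p'` span points in the same orbit of `N`. -/
def nrel (N : Subgroup (Cfsg.SU n F q)) (p p' : Fin n → F) : Prop :=
  ∃ m ∈ N, ∃ c : F, c ≠ 0 ∧ suM m *ᵥ p = c • p'

theorem nrel_refl (N : Subgroup (Cfsg.SU n F q)) (p : Fin n → F) : nrel N p p :=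
  ⟨1, one_mem _, 1, one_ne_zero, by rw [suM_one, Matrix.one_mulVec, one_smul]⟩

theorem nrel_symm {N : Subgroup (Cfsg.SU n F q)} {p p' : Fin n → F} (h : nrel N p p') :
    nrel N p' p := by
  obtain ⟨m, hm, c, hc, hmp⟩ := h
  refine ⟨m⁻¹, inv_mem hm, c⁻¹, inv_ne_zero hc, ?_⟩
  have h1 : p' = c⁻¹ • (suM m *ᵥ p) := by rw [hmp, smul_smul, inv_mul_cancel₀ hc, one_smul]
  rw [h1, Matrix.mulVec_smul, suM_inv_mulVec]

theorem nrel_trans {N : Subgroup (Cfsg.SU n F q)} {p p' p'' : Fin n → F} (h1 : nrel N p p')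
    (h2 : nrel N p' p'') : nrel N p p'' := by
  obtain ⟨m, hm, c, hc, hmp⟩ := h1
  obtain ⟨m', hm', c', hc', hmp'⟩ := h2
  refine ⟨m' * m, mul_mem hm' hm, c * c', mul_ne_zero hc hc', ?_⟩
  rw [suM_mul, ← Matrix.mulVec_mulVec, hmp, Matrix.mulVec_smul, hmp', smul_smul]

theorem nrel_smul_right {N : Subgroup (Cfsg.SU n F q)} {p p' : Fin n → F} (h : nrel N p p')
    (s : F) (hs : s ≠ 0) : nrel N p (s • p') := by
  obtain ⟨m, hm, c, hc, hmp⟩ := h
  refine ⟨m, hm, c * s⁻¹, mul_ne_zero hc (inv_ne_zero hs), ?_⟩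
  rw [hmp, smul_smul, mul_assoc, inv_mul_cancel₀ hs, mul_one]

theorem nrel_conj {N : Subgroup (Cfsg.SU n F q)} [hN : N.Normal] {p p' : Fin n → F}
    (h : nrel N p p') (g : Cfsg.SU n F q) : nrel N (suM g *ᵥ p) (suM g *ᵥ p') := by
  obtain ⟨m, hm, c, hc, hmp⟩ := h
  refine ⟨g * m * g⁻¹, hN.conj_mem m hm g, c, hc, ?_⟩
  rw [suM_mul, suM_mul, ← Matrix.mulVec_mulVec, ← Matrix.mulVec_mulVec, suM_inv_mulVec, hmp,
    Matrix.mulVec_smul]

/-- Iwasawa: a normal subgroup of `SU_n(q)` not inside the centre is everything. -/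
theorem su_normal_eq_top (hF : Fintype.card F = q ^ 2) (hn : 4 ≤ n ∨ (n = 3 ∧ 3 ≤ q))
    (N : Subgroup (Cfsg.SU n F q)) [hN : N.Normal]
    (hNZ : ¬ N ≤ Subgroup.center (Cfsg.SU n F q)) : N = ⊤ := by
  classical
  have hq := uq_ge_two hF
  have hq0 : q ≠ 0 := by omega
  have hn3 : 3 ≤ n := by rcases hn with h | h <;> omega
  have hgen : uT n F q = ⊤ := su_eq_uT hF n (by omega) (by
    intro h3; rcases hn with h | h <;> omega)
  have hperf := su_perfect hF hn
  obtain ⟨g₀, hg₀N, hg₀Z⟩ : ∃ g₀ ∈ N, g₀ ∉ Subgroup.center (Cfsg.SU n F q) := by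
    by_contra hcon
    push Not at hcon
    exact hNZ hcon
  obtain ⟨p, hp0, hpp, hpmove⟩ := exists_moved_point hF (by omega) hgen g₀ hg₀Z
  obtain ⟨κ, hκ0, hκ⟩ := exists_trace_zero hF
  -- all non-orthogonal pairs of isotropic vectors are related
  have hstep2 : ∀ a b : Fin n → F, Cfsg.hermForm n F q a a = 0 → Cfsg.hermForm n F q b b = 0 →
      Cfsg.hermForm n F q a b ≠ 0 → nrel N a b →
      ∀ a' b' : Fin n → F, Cfsg.hermForm n F q a' a' = 0 → Cfsg.hermForm n F q b' b' = 0 →
      Cfsg.hermForm n F q a' b' ≠ 0 → nrel N a' b' := by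
    intro a b ha hb hab hR a' b' ha' hb' hab'
    obtain ⟨s, hs⟩ : ∃ s : F, s = ((Cfsg.hermForm n F q a b)⁻¹) ^ q := ⟨_, rfl⟩
    obtain ⟨s', hs'⟩ : ∃ s' : F, s' = ((Cfsg.hermForm n F q a' b')⁻¹) ^ q := ⟨_, rfl⟩
    have hs0 : s ≠ 0 := by rw [hs]; exact pow_ne_zero _ (inv_ne_zero hab)
    have hs'0 : s' ≠ 0 := by rw [hs']; exact pow_ne_zero _ (inv_ne_zero hab')
    have h1 : Cfsg.hermForm n F q a (s • b) = 1 := by
      rw [herm_smul_right, hs, frob_frob hF, inv_mul_cancel₀ hab]
    have h1' : Cfsg.hermForm n F q a' (s' • b') = 1 := by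
      rw [herm_smul_right, hs', frob_frob hF, inv_mul_cancel₀ hab']
    have h2 : Cfsg.hermForm n F q (s • b) (s • b) = 0 := by
      rw [herm_smul_left, herm_smul_right, hb]; ring
    have h2' : Cfsg.hermForm n F q (s' • b') (s' • b') = 0 := by
      rw [herm_smul_left, herm_smul_right, hb']; ring
    obtain ⟨d, hda, hdb⟩ := su_trans_hyp hF hn3 a (s • b) a' (s' • b') ha h2 h1 ha' h2' h1'
    have h3 := nrel_conj (nrel_smul_right hR s hs0) d
    rw [hda, hdb] at h3
    have h4 := nrel_smul_right h3 s'⁻¹ (inv_ne_zero hs'0)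
    rw [smul_smul, inv_mul_cancel₀ hs'0, one_smul] at h4
    exact h4
  -- a related non-orthogonal pair exists
  obtain ⟨a, b, ha, hb, hab, hR⟩ : ∃ a b : Fin n → F, Cfsg.hermForm n F q a a = 0 ∧
      Cfsg.hermForm n F q b b = 0 ∧ Cfsg.hermForm n F q a b ≠ 0 ∧ nrel N a b := by
    obtain ⟨p₁, hp₁⟩ : ∃ p₁ : Fin n → F, p₁ = suM g₀ *ᵥ p := ⟨_, rfl⟩
    have hp₁p₁ : Cfsg.hermForm n F q p₁ p₁ = 0 := by rw [hp₁, su_pres g₀, hpp]
    have hR₁ : nrel N p p₁ := ⟨g₀, hg₀N, 1, one_ne_zero, by rw [one_smul, hp₁]⟩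
    by_cases hpp₁ : Cfsg.hermForm n F q p p₁ = 0
    · have hli : LinearIndependent F ![p, p₁] := by
        rw [LinearIndependent.pair_iff]
        intro s t hst
        by_cases ht : t = 0
        · rw [ht, zero_smul, add_zero] at hst
          rcases smul_eq_zero.mp hst with h | h
          · exact ⟨h, ht⟩
          · exact absurd h hp0
        · exfalso
          apply hpmove (-(t⁻¹ * s))
          rw [← hp₁]
          have h1 : t • p₁ = -(s • p) := by
            rw [eq_neg_iff_add_eq_zero, add_comm]; exact hst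
          have h2 : p₁ = t⁻¹ • (t • p₁) := by rw [smul_smul, inv_mul_cancel₀ ht, one_smul]
          rw [h2, h1]
          module
      obtain ⟨f, hff, hfp, hfp₁⟩ := exists_iso_dual hF p p₁ hpp hpp₁ hli 0
      have hpf := herm_one_of_symm hF hfp
      have hp₁f := herm_zero_of_symm hF hfp₁
      have h1 := nrel_conj hR₁ (utvSU hF f κ)
      rw [utvSU_mulVec hF f κ hff hκ, utvSU_mulVec hF f κ hff hκ, hpf, hp₁f, mul_zero, zero_smul,
        add_zero, mul_one] at h1
      refine ⟨p, p + κ • f, hpp, ?_, ?_, nrel_trans hR₁ (nrel_symm h1)⟩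
      · rw [herm_add_left, herm_add_right hF, herm_add_right hF, herm_smul_left, herm_smul_right,
          herm_smul_right, herm_smul_left, hpp, hff, hpf, hfp]
        linear_combination hκ
      · rw [herm_add_right hF, herm_smul_right, hpp, hpf, zero_add, mul_one]
        exact pow_ne_zero _ hκ0
    · exact ⟨p, p₁, hpp, hp₁p₁, hpp₁, hR₁⟩
  have hall : ∀ a' b' : Fin n → F, a' ≠ 0 → b' ≠ 0 → Cfsg.hermForm n F q a' a' = 0 →
      Cfsg.hermForm n F q b' b' = 0 → nrel N a' b' := by
    intro a' b' ha'0 hb'0 ha' hb'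
    by_cases hab' : Cfsg.hermForm n F q a' b' = 0
    · by_cases hli : LinearIndependent F ![a', b']
      · obtain ⟨f, hff, hfa, hfb⟩ := exists_iso_dual hF a' b' ha' hab' hli 1
        have haf := herm_one_of_symm hF hfa
        have h1 := hstep2 a b ha hb hab hR a' f ha' hff (by rw [haf]; exact one_ne_zero)
        have h2 := hstep2 a b ha hb hab hR f b' hff hb' (by rw [hfb]; exact one_ne_zero)
        exact nrel_trans h1 h2
      · rw [LinearIndependent.pair_iff] at hli
        push Not at hli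
        obtain ⟨s, t, hst, hne⟩ := hli
        have hs0 : s ≠ 0 := by
          intro hs
          rw [hs, zero_smul, zero_add] at hst
          rcases smul_eq_zero.mp hst with h | h
          · exact hne hs h
          · exact hb'0 h
        have ht0 : t ≠ 0 := by
          intro ht
          rw [ht, zero_smul, add_zero] at hst
          rcases smul_eq_zero.mp hst with h | h
          · exact hs0 h
          · exact ha'0 h
        have h1 : a' = (-(s⁻¹ * t)) • b' := by
          have h2 : s • a' = -(t • b') := by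
            rw [eq_neg_iff_add_eq_zero]; exact hst
          have h3 : a' = s⁻¹ • (s • a') := by rw [smul_smul, inv_mul_cancel₀ hs0, one_smul]
          rw [h3, h2]
          module
        have h2 := nrel_smul_right (nrel_refl N a') (-(s⁻¹ * t))⁻¹
          (inv_ne_zero (neg_ne_zero.mpr (mul_ne_zero (inv_ne_zero hs0) ht0)))
        nth_rw 2 [h1] at h2
        rw [smul_smul, inv_mul_cancel₀ (neg_ne_zero.mpr (mul_ne_zero (inv_ne_zero hs0) ht0)),
          one_smul] at h2
        exact h2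
    · exact hstep2 a b ha hb hab hR a' b' ha' hb' hab'
  -- every transvection is congruent mod `N` to one along `p`
  have h1 : ∀ (w : Fin n → F) (c : F), Cfsg.hermForm n F q w w = 0 → c + c ^ q = 0 → w ≠ 0 →
      ∃ c' : F, QuotientGroup.mk' N (utvSU hF w c) = QuotientGroup.mk' N (utvSU hF p c') := by
    intro w c hw hc hw0
    obtain ⟨m, hm, c₀, hc₀, hmp⟩ := hall p w hp0 hw0 hpp hw
    obtain ⟨c₁, hc₁⟩ : ∃ c₁ : F, c₁ = c / c₀ ^ (q + 1) := ⟨_, rfl⟩
    have hN0 : c₀ ^ (q + 1) ≠ 0 := pow_ne_zero _ hc₀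
    have hc₁t : c₁ + c₁ ^ q = 0 := by
      rw [hc₁, div_pow, unorm_fixed hF]
      field_simp
      linear_combination hc
    refine ⟨c₁, ?_⟩
    have h3 : utvSU hF w c = m * utvSU hF p c₁ * m⁻¹ := by
      rw [utvSU_conj hF m p c₁ hpp hc₁t, mul_inv_cancel_right, hmp, utvSU_smul hF w c₀ c₁ hw hc₁t]
      congr 1
      rw [hc₁]; field_simp
    have h4 : QuotientGroup.mk' N m = 1 := (QuotientGroup.eq_one_iff m).mpr hm
    rw [h3, map_mul, map_mul, map_inv, h4, one_mul, inv_one, mul_one]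
  obtain ⟨C, hC⟩ : ∃ C : Subgroup (Cfsg.SU n F q ⧸ N),
      C = Subgroup.closure (Set.range (fun c : F => QuotientGroup.mk' N (utvSU hF p c))) :=
    ⟨_, rfl⟩
  have h2 : ∀ g : Cfsg.SU n F q, QuotientGroup.mk' N g ∈ C := by
    have h3 : uT n F q ≤ C.comap (QuotientGroup.mk' N) := by
      unfold uT
      rw [Subgroup.closure_le]
      rintro A ⟨w, c, hw, hA⟩
      show QuotientGroup.mk' N A ∈ C
      by_cases hw0 : w = 0
      · have hA1 : A = 1 := by
          apply suM_injective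
          rw [show suM A = _ from hA, hw0]
          unfold Cfsg.unitaryTransvection
          simp
          rfl
        rw [hA1, map_one]
        exact one_mem _
      · obtain ⟨hc, hAeq⟩ := eq_utvSU hF A w c hw0 hw hA
        obtain ⟨c', hc'⟩ := h1 w c hw hc hw0
        rw [hAeq, hc', hC]
        exact Subgroup.subset_closure ⟨c', rfl⟩
    intro g
    rw [hgen] at h3
    exact h3 (Subgroup.mem_top g)
  have hgen2 : ∀ c c' : F, QuotientGroup.mk' N (utvSU hF p c) * QuotientGroup.mk' N (utvSU hF p c')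
      = QuotientGroup.mk' N (utvSU hF p c') * QuotientGroup.mk' N (utvSU hF p c) := by
    intro c c'
    by_cases hc : c + c ^ q = 0
    · by_cases hc' : c' + c' ^ q = 0
      · rw [← map_mul, ← map_mul, utvSU_add hF p c c' hpp hc hc', utvSU_add hF p c' c hpp hc' hc,
          add_comm]
      · have : utvSU hF p c' = 1 := by
          unfold utvSU
          rw [dif_neg (fun h => hc' h.2)]
        rw [this, map_one, mul_one, one_mul]
    · have : utvSU hF p c = 1 := by
        unfold utvSU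
        rw [dif_neg (fun h => hc h.2)]
      rw [this, map_one, mul_one, one_mul]
  have h3 : C ≤ Subgroup.centralizer
      (Set.range (fun c : F => QuotientGroup.mk' N (utvSU hF p c))) := by
    rw [hC, Subgroup.closure_le]
    rintro _ ⟨c, rfl⟩
    rw [SetLike.mem_coe, Subgroup.mem_centralizer_iff]
    rintro _ ⟨c', rfl⟩
    exact hgen2 c' c
  have h4 : C ≤ Subgroup.centralizer (C : Set (Cfsg.SU n F q ⧸ N)) := by
    conv_lhs => rw [hC]
    rw [Subgroup.closure_le]
    rintro _ ⟨c, rfl⟩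
    rw [SetLike.mem_coe, Subgroup.mem_centralizer_iff]
    intro h hh
    have h5 := h3 hh
    rw [Subgroup.mem_centralizer_iff] at h5
    exact (h5 _ ⟨c, rfl⟩).symm
  have h5 : commutator (Cfsg.SU n F q) ≤ N := by
    rw [commutator_def, Subgroup.commutator_le]
    intro g _ h _
    rw [← QuotientGroup.eq_one_iff (N := N), commutatorElement_def]
    have h6 := h4 (h2 g)
    rw [Subgroup.mem_centralizer_iff] at h6
    have h7 := h6 _ (h2 h)
    show QuotientGroup.mk' N (g * h * g⁻¹ * h⁻¹) = 1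
    rw [map_mul, map_mul, map_mul, map_inv, map_inv, ← h7, mul_inv_cancel_right, mul_inv_cancel]
  rw [eq_top_iff, ← hperf]
  exact h5

/-- `PSU_n(q)` is simple for `n ≥ 3`, `(n, q) ≠ (3, 2)`. -/
theorem psu_simple (hF : Fintype.card F = q ^ 2) (hn : 4 ≤ n ∨ (n = 3 ∧ 3 ≤ q)) :
    IsSimpleGroup (Cfsg.SU n F q ⧸ Subgroup.center (Cfsg.SU n F q)) := by
  classical
  have hperf := su_perfect hF hn
  have hnt : Nontrivial (Cfsg.SU n F q ⧸ Subgroup.center (Cfsg.SU n F q)) := by
    by_contra hcon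
    rw [not_nontrivial_iff_subsingleton] at hcon
    have h1 : Subgroup.center (Cfsg.SU n F q) = ⊤ := by
      rw [eq_top_iff]
      intro g _
      rw [← QuotientGroup.eq_one_iff]
      exact Subsingleton.elim _ _
    -- then `SU` is abelian, so its commutator subgroup is trivial, hence `SU` is trivial
    have h2 : commutator (Cfsg.SU n F q) = ⊥ := by
      rw [eq_bot_iff, commutator_def, Subgroup.commutator_le]
      intro g _ h _
      rw [Subgroup.mem_bot, commutatorElement_eq_one_iff_mul_comm]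
      have h3 : h ∈ Subgroup.center (Cfsg.SU n F q) := by rw [h1]; exact Subgroup.mem_top h
      rw [Subgroup.mem_center_iff] at h3
      exact h3 g
    rw [hperf] at h2
    -- but `SU` has a nontrivial element
    have hn2 : 2 ≤ n := by rcases hn with h | h <;> omega
    obtain ⟨y, hy, hy2⟩ := exists_y2 hF
    have hy1 : y ≠ 1 := by
      rintro rfl
      exact hy2 (one_pow 2)
    obtain ⟨A, hA⟩ := exists_signed_swap (q := q) hF (⟨0, by omega⟩ : Fin n) ⟨1, by omega⟩
      (by simp [Fin.ext_iff])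
    have hA1 : A = 1 := by
      have : A ∈ (⊥ : Subgroup (Cfsg.SU n F q)) := by rw [← h2]; exact Subgroup.mem_top A
      exact Subgroup.mem_bot.mp this
    have h4 := congrFun (congrFun hA (⟨0, by omega⟩ : Fin n)) (⟨0, by omega⟩ : Fin n)
    rw [hA1] at h4
    have h5 : (((1 : Cfsg.SU n F q) : Matrix.SpecialLinearGroup (Fin n) F) :
        Matrix (Fin n) (Fin n) F) ⟨0, by omega⟩ ⟨0, by omega⟩ = 1 := by
      show (1 : Matrix (Fin n) (Fin n) F) _ _ = 1
      rw [Matrix.one_apply_eq]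
    rw [h5, Matrix.swap_mul_apply_left, Matrix.diagonal_apply_ne _ (by simp [Fin.ext_iff])] at h4
    exact one_ne_zero h4
  refine { toNontrivial := hnt, eq_bot_or_eq_top_of_normal := ?_ }
  intro H hH
  have hcomap : (H.comap (QuotientGroup.mk' (Subgroup.center (Cfsg.SU n F q)))).Normal :=
    hH.comap _
  by_cases hle : H.comap (QuotientGroup.mk' (Subgroup.center (Cfsg.SU n F q)))
      ≤ Subgroup.center (Cfsg.SU n F q)
  · left
    rw [eq_bot_iff]
    intro h hh
    obtain ⟨g, rfl⟩ := QuotientGroup.mk'_surjective _ h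
    rw [Subgroup.mem_bot]
    exact (QuotientGroup.eq_one_iff g).mpr (hle hh)
  · right
    have htop := su_normal_eq_top hF hn _ hle
    rw [eq_top_iff]
    intro h _
    obtain ⟨g, rfl⟩ := QuotientGroup.mk'_surjective _ h
    have h1 : g ∈ H.comap (QuotientGroup.mk' (Subgroup.center (Cfsg.SU n F q))) := by
      rw [htop]
      exact Subgroup.mem_top g
    exact h1

end USimple

end Cfsg.Agent.Lib.helper4
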