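import Mathlib
import Cfsg.Agent.Lib.helper4.USimple

set_option autoImplicit false
set_option linter.unusedSectionVars false

/-!
# Totally isotropic frames in unitary space: counting and stabilisers
-/

namespace Cfsg.Agent.Lib.helper4

open Matrix

section UFrames

variable {F : Type*} [Field F] [Fintype F] {q : ℕ} {n : ℕ}

/-- fibres of the trace map `t ↦ t + t^q` over fixed elements have `q` elements. -/
theorem card_trace_fiber (hF : Fintype.card F = q ^ 2) (a : F) (ha : a ^ q = a) :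
    Nat.card {t : F // t + t ^ q = a} = q := by
  classical
  obtain ⟨κ, hκ0, hκ⟩ := exists_trace_zero hF
  have hκq : κ ^ q = -κ := by linear_combination hκ
  obtain ⟨T, hT⟩ : ∃ T : F → {a : F // a ^ q = a}, ∀ t, (T t).1 = t + t ^ q :=
    ⟨fun t => ⟨t + t ^ q, by rw [frob_add hF, frob_frob hF]; ring⟩, fun t => rfl⟩
  have hfib : ∀ b : {a : F // a ^ q = a},
      Nat.card {t // T t = b} = Nat.card {a : F // a ^ q = a} := by
    intro b
    obtain ⟨t₀, ht₀⟩ := utrace_surj hF b.1 b.2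
    apply Nat.card_congr
    refine { toFun := fun t => ⟨(t.1 - t₀) / κ, ?_⟩
             invFun := fun c => ⟨κ * c.1 + t₀, ?_⟩
             left_inv := ?_
             right_inv := ?_ }
    · have h1 : t.1 + t.1 ^ q = t₀ + t₀ ^ q := by rw [← hT, t.2, ht₀]
      rw [div_pow, frob_sub hF, hκq]
      field_simp
      linear_combination -h1
    · apply Subtype.ext
      rw [hT, frob_add hF, mul_pow, hκq, c.2, ← ht₀]
      ring
    · intro t
      apply Subtype.ext
      simp only
      field_simp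
      ring
    · intro c
      apply Subtype.ext
      simp only
      field_simp
      ring
  have h1 := card_fiber_count T _ hfib
  rw [Nat.card_eq_fintype_card, hF] at h1
  have h2 : Nat.card {a : F // a ^ q = a} = q := by
    have h3 : q ^ 2 = (Nat.card {a : F // a ^ q = a}) ^ 2 := by rw [h1, sq]
    exact (Nat.pow_left_injective (by norm_num : 2 ≠ 0) h3).symm
  refine (Nat.card_congr ?_).trans ((hfib ⟨a, ha⟩).trans h2)
  exact { toFun := fun t => ⟨t.1, Subtype.ext (by rw [hT]; exact t.2)⟩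
          invFun := fun t => ⟨t.1, by rw [← hT, t.2]⟩
          left_inv := fun t => rfl
          right_inv := fun t => rfl }

theorem card_trace_fiber' (hF : Fintype.card F = q ^ 2) (γ a : F) (hγ : γ ≠ 0) (ha : a ^ q = a) :
    Nat.card {s : F // s * γ ^ q + s ^ q * γ = a} = q := by
  have hγq : γ ^ q ≠ 0 := pow_ne_zero _ hγ
  refine (Nat.card_congr ?_).trans (card_trace_fiber hF a ha)
  refine { toFun := fun s => ⟨s.1 * γ ^ q, ?_⟩
           invFun := fun t => ⟨t.1 / γ ^ q, ?_⟩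
           left_inv := ?_
           right_inv := ?_ }
  · rw [mul_pow, frob_frob hF]; exact s.2
  · rw [div_pow, frob_frob hF, div_mul_cancel₀ _ hγq, div_mul_cancel₀ _ hγ]; exact t.2
  · intro s
    apply Subtype.ext
    simp only
    field_simp
  · intro t
    apply Subtype.ext
    simp only
    field_simp

theorem herm_orth_span (hF : Fintype.card F = q ^ 2) {ι : Type*} (u : ι → (Fin n → F))
    (y : Fin n → F) (h : ∀ i, Cfsg.hermForm n F q (u i) y = 0) :
    ∀ x ∈ Submodule.span F (Set.range u), Cfsg.hermForm n F q x y = 0 := by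
  have hle : Submodule.span F (Set.range u) ≤ LinearMap.ker (uB hF n y) := by
    rw [Submodule.span_le]
    rintro _ ⟨i, rfl⟩
    show uB hF n y (u i) = 0
    rw [uB_apply]
    exact h i
  intro x hx
  have h1 := hle hx
  rw [LinearMap.mem_ker, uB_apply] at h1
  exact h1

theorem herm_ti_span (hF : Fintype.card F = q ^ 2) {ι : Type*} (u : ι → (Fin n → F))
    (hti : ∀ i j, Cfsg.hermForm n F q (u i) (u j) = 0) :
    ∀ x ∈ Submodule.span F (Set.range u), ∀ y ∈ Submodule.span F (Set.range u),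
      Cfsg.hermForm n F q x y = 0 := by
  have hq := uq_ge_two hF
  intro x hx y hy
  apply herm_orth_span hF u y _ x hx
  intro i
  rw [← herm_symm hF, herm_orth_span hF u (u i) (fun j => hti j i) y hy, zero_pow (by omega)]

theorem natcard_submodule' (W : Submodule F (Fin n → F)) :
    Nat.card W = Fintype.card F ^ Module.finrank F W := by
  classical
  rw [Nat.card_eq_fintype_card]
  exact Module.card_eq_pow_finrank

theorem card_perp_fiber (hF : Fintype.card F = q ^ 2) {k : ℕ} (u : Fin k → (Fin n → F))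
    (hu : LinearIndependent F u) (c : Fin k → F) :
    Nat.card {v : Fin n → F // ∀ i, Cfsg.hermForm n F q v (u i) = c i}
      = Nat.card {v : Fin n → F // ∀ i, Cfsg.hermForm n F q v (u i) = 0} := by
  obtain ⟨v₀, hv₀⟩ := Cfsg.Agent.S0751.L_surj (ufrob hF) (uB hF n) (ufrob_invol hF)
    (uB_nondeg hF) u hu c
  apply Nat.card_congr
  refine { toFun := fun v => ⟨v.1 - v₀, fun i => ?_⟩
           invFun := fun v => ⟨v.1 + v₀, fun i => ?_⟩
           left_inv := ?_
           right_inv := ?_ }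
  · rw [herm_sub_left, v.2 i, ← uB_apply hF, hv₀ i, sub_self]
  · rw [herm_add_left, v.2 i, ← uB_apply hF, hv₀ i, zero_add]
  · intro v
    apply Subtype.ext
    simp
  · intro v
    apply Subtype.ext
    simp

theorem card_perp (hF : Fintype.card F = q ^ 2) {k : ℕ} (u : Fin k → (Fin n → F))
    (hu : LinearIndependent F u) :
    Nat.card {v : Fin n → F // ∀ i, Cfsg.hermForm n F q v (u i) = 0} * q ^ (2 * k)
      = q ^ (2 * n) := by
  classical
  have h1 := card_fiber_count (fun v : Fin n → F => fun i : Fin k => Cfsg.hermForm n F q v (u i))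
    (Nat.card {v : Fin n → F // ∀ i, Cfsg.hermForm n F q v (u i) = 0}) (fun c => by
      rw [← card_perp_fiber hF u hu c]
      exact Nat.card_congr (Equiv.subtypeEquivRight (fun v => funext_iff)))
  rw [Nat.card_eq_fintype_card, Nat.card_eq_fintype_card, Fintype.card_pi_const,
    Fintype.card_pi_const, hF, ← pow_mul, ← pow_mul] at h1
  rw [h1, mul_comm]

theorem card_perp_iso_ne (hF : Fintype.card F = q ^ 2) {k : ℕ} (u : Fin k → (Fin n → F))
    (hti : ∀ i j, Cfsg.hermForm n F q (u i) (u j) = 0) (c : Fin k → F) (i₀ : Fin k)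
    (hc : c i₀ ≠ 0) :
    Nat.card {v : Fin n → F // (∀ i, Cfsg.hermForm n F q v (u i) = c i)
        ∧ Cfsg.hermForm n F q v v = 0} * q
      = Nat.card {v : Fin n → F // ∀ i, Cfsg.hermForm n F q v (u i) = c i} := by
  classical
  have hq := uq_ge_two hF
  obtain ⟨ψ, hψ⟩ : ∃ ψ : {v : Fin n → F // (∀ i, Cfsg.hermForm n F q v (u i) = c i)
        ∧ Cfsg.hermForm n F q v v = 0} × F
      → {v : Fin n → F // ∀ i, Cfsg.hermForm n F q v (u i) = c i},
      ∀ p, (ψ p).1 = p.1.1 - p.2 • u i₀ :=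
    ⟨fun p => ⟨p.1.1 - p.2 • u i₀, fun i => by
      rw [herm_sub_left, herm_smul_left, p.1.2.1 i, hti, mul_zero, sub_zero]⟩, fun p => rfl⟩
  have hexp : ∀ (v : Fin n → F) (s : F), Cfsg.hermForm n F q v (u i₀) = c i₀ →
      Cfsg.hermForm n F q (v + s • u i₀) (v + s • u i₀)
        = Cfsg.hermForm n F q v v + (s * c i₀ ^ q + s ^ q * c i₀) := by
    intro v s hv
    rw [herm_add_left, herm_add_right hF, herm_add_right hF, herm_smul_left, herm_smul_left,
      herm_smul_right, herm_smul_right, hti, hv, ← herm_symm hF v (u i₀), hv]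
    ring
  have hfib : ∀ v, Nat.card {p // ψ p = v} = q := by
    intro v
    refine (Nat.card_congr ?_).trans (card_trace_fiber' hF (c i₀)
      (-Cfsg.hermForm n F q v.1 v.1) hc (by rw [frob_neg hF, herm_self_fixed hF]))
    refine { toFun := fun p => ⟨p.1.2, ?_⟩
             invFun := fun s => ⟨(⟨v.1 + s.1 • u i₀, fun i => ?_, ?_⟩, s.1), ?_⟩
             left_inv := ?_
             right_inv := ?_ }
    · have h1 : p.1.1.1 = v.1 + p.1.2 • u i₀ := by
        have h2 := congrArg Subtype.val p.2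
        rw [hψ] at h2
        rw [← h2]
        abel
      have h3 := p.1.1.2.2
      rw [h1, hexp v.1 p.1.2 (v.2 i₀)] at h3
      linear_combination h3
    · rw [herm_add_left, herm_smul_left, v.2 i, hti, mul_zero, add_zero]
    · rw [hexp v.1 s.1 (v.2 i₀), s.2]
      ring
    · apply Subtype.ext
      rw [hψ]
      simp
    · intro p
      apply Subtype.ext
      apply Prod.ext
      · apply Subtype.ext
        have h2 := congrArg Subtype.val p.2
        rw [hψ] at h2
        show v.1 + p.1.2 • u i₀ = p.1.1.1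
        rw [← h2]
        abel
      · rfl
    · intro s
      rfl
  have h1 := card_fiber_count ψ q hfib
  rw [Nat.card_prod, Nat.card_eq_fintype_card (α := F), hF] at h1
  have h2 : Nat.card {v : Fin n → F // (∀ i, Cfsg.hermForm n F q v (u i) = c i)
        ∧ Cfsg.hermForm n F q v v = 0} * q * q
      = Nat.card {v : Fin n → F // ∀ i, Cfsg.hermForm n F q v (u i) = c i} * q := by
    rw [← h1]; ring
  exact Nat.eq_of_mul_eq_mul_right (by omega) h2

theorem card_perp_iso [DecidableEq F] (hF : Fintype.card F = q ^ 2) {k : ℕ}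
    (u : Fin k → (Fin n → F)) (hu : LinearIndependent F u)
    (hti : ∀ i j, Cfsg.hermForm n F q (u i) (u j) = 0) :
    (Nat.card {v : Fin n → F // (∀ i, Cfsg.hermForm n F q v (u i) = 0)
        ∧ Cfsg.hermForm n F q v v = 0} : ℤ) * q
      = (Nat.card {v : Fin n → F // ∀ i, Cfsg.hermForm n F q v (u i) = 0} : ℤ)
        + ((q : ℤ) - 1) * (-(q : ℤ)) ^ n := by
  classical
  have hq := uq_ge_two hF
  have hZ : Nat.card {v : Fin n → F // Cfsg.hermForm n F q v v = 0}
      = ∑ c : Fin k → F, Nat.card {v : Fin n → F // (∀ i, Cfsg.hermForm n F q v (u i) = c i)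
        ∧ Cfsg.hermForm n F q v v = 0} := by
    rw [← Nat.card_congr (Equiv.sigmaFiberEquiv
      (fun v : {v : Fin n → F // Cfsg.hermForm n F q v v = 0} =>
        fun i : Fin k => Cfsg.hermForm n F q v.1 (u i))), Nat.card_sigma]
    refine Finset.sum_congr rfl fun c _ => ?_
    apply Nat.card_congr
    exact { toFun := fun v => ⟨v.1.1, fun i => congrFun v.2 i, v.1.2⟩
            invFun := fun v => ⟨⟨v.1, v.2.2⟩, funext v.2.1⟩
            left_inv := fun v => rfl
            right_inv := fun v => rfl }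
  have hne : ∀ c : Fin k → F, c ≠ 0 →
      Nat.card {v : Fin n → F // (∀ i, Cfsg.hermForm n F q v (u i) = c i)
        ∧ Cfsg.hermForm n F q v v = 0} * q
      = Nat.card {v : Fin n → F // ∀ i, Cfsg.hermForm n F q v (u i) = 0} := by
    intro c hc
    obtain ⟨i₀, hi₀⟩ : ∃ i₀, c i₀ ≠ 0 := by
      by_contra h
      push Not at h
      exact hc (funext h)
    rw [card_perp_iso_ne hF u hti c i₀ hi₀, card_perp_fiber hF u hu c]
  have h2 : ∀ c : Fin k → F,
      ((Nat.card {v : Fin n → F // (∀ i, Cfsg.hermForm n F q v (u i) = c i)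
        ∧ Cfsg.hermForm n F q v v = 0} : ℤ)) * q
      = (if c = 0 then ((Nat.card {v : Fin n → F // (∀ i, Cfsg.hermForm n F q v (u i) = 0)
            ∧ Cfsg.hermForm n F q v v = 0} : ℤ)) * q
          - (Nat.card {v : Fin n → F // ∀ i, Cfsg.hermForm n F q v (u i) = 0} : ℤ) else 0)
        + (Nat.card {v : Fin n → F // ∀ i, Cfsg.hermForm n F q v (u i) = 0} : ℤ) := by
    intro c
    by_cases hc : c = 0
    · subst hc
      rw [if_pos rfl]
      simp only [Pi.zero_apply]
      ring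
    · rw [if_neg hc, zero_add]
      exact_mod_cast hne c hc
  have h1 := card_herm_eq hF n 0 (zero_pow (by omega))
  rw [if_pos rfl, hZ] at h1
  push_cast at h1
  rw [Finset.sum_mul, Finset.sum_congr rfl (fun c _ => h2 c), Finset.sum_add_distrib,
    Finset.sum_ite_eq' Finset.univ (0 : Fin k → F), if_pos (Finset.mem_univ _), Finset.sum_const,
    Finset.card_univ, Fintype.card_pi_const, hF, nsmul_eq_mul] at h1
  have h3 := congrArg (fun x : ℕ => (x : ℤ)) (card_perp hF u hu)
  push_cast at h3 h1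
  linear_combination h1 - h3

theorem card_fib [DecidableEq F] (hF : Fintype.card F = q ^ 2) {k : ℕ} (hkn : k ≤ n)
    (u : Fin k → (Fin n → F)) (hu : LinearIndependent F u)
    (hti : ∀ i j, Cfsg.hermForm n F q (u i) (u j) = 0) :
    (Nat.card {v : Fin n → F // (∀ i, Cfsg.hermForm n F q v (u i) = 0)
        ∧ Cfsg.hermForm n F q v v = 0 ∧ v ∉ Submodule.span F (Set.range u)} : ℤ) * q
      = (q : ℤ) ^ (2 * (n - k)) + ((q : ℤ) - 1) * (-(q : ℤ)) ^ n - (q : ℤ) ^ (2 * k + 1) := by
  classical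
  have hq := uq_ge_two hF
  have h1 := card_perp_iso hF u hu hti
  have h2 := card_perp hF u hu
  have hB : Nat.card {v : Fin n → F // ∀ i, Cfsg.hermForm n F q v (u i) = 0}
      = q ^ (2 * (n - k)) := by
    have h3 : q ^ (2 * n) = q ^ (2 * (n - k)) * q ^ (2 * k) := by
      rw [← pow_add]; congr 1; omega
    rw [h3] at h2
    exact Nat.eq_of_mul_eq_mul_right (by positivity) h2
  have hsplit : Nat.card {v : Fin n → F // (∀ i, Cfsg.hermForm n F q v (u i) = 0)
        ∧ Cfsg.hermForm n F q v v = 0}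
      = q ^ (2 * k) + Nat.card {v : Fin n → F // (∀ i, Cfsg.hermForm n F q v (u i) = 0)
        ∧ Cfsg.hermForm n F q v v = 0 ∧ v ∉ Submodule.span F (Set.range u)} := by
    have e1 := Nat.card_congr (Equiv.sumCompl
      (fun v : {v : Fin n → F // (∀ i, Cfsg.hermForm n F q v (u i) = 0)
        ∧ Cfsg.hermForm n F q v v = 0} => v.1 ∈ Submodule.span F (Set.range u)))
    rw [Nat.card_sum] at e1
    have e2 : Nat.card {v : {v : Fin n → F // (∀ i, Cfsg.hermForm n F q v (u i) = 0)
        ∧ Cfsg.hermForm n F q v v = 0} // v.1 ∈ Submodule.span F (Set.range u)}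
        = q ^ (2 * k) := by
      have e3 : Nat.card (Submodule.span F (Set.range u)) = q ^ (2 * k) := by
        rw [natcard_submodule', finrank_span_eq_card hu, Fintype.card_fin, hF, ← pow_mul]
      refine (Nat.card_congr ?_).trans e3
      exact { toFun := fun v => ⟨v.1.1, v.2⟩
              invFun := fun x => ⟨⟨x.1, fun i => herm_ti_span hF u hti x.1 x.2 (u i)
                (Submodule.subset_span ⟨i, rfl⟩), herm_ti_span hF u hti x.1 x.2 x.1 x.2⟩, x.2⟩
              left_inv := fun v => rfl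
              right_inv := fun x => rfl }
    have e4 : Nat.card {v : {v : Fin n → F // (∀ i, Cfsg.hermForm n F q v (u i) = 0)
        ∧ Cfsg.hermForm n F q v v = 0} // ¬ v.1 ∈ Submodule.span F (Set.range u)}
        = Nat.card {v : Fin n → F // (∀ i, Cfsg.hermForm n F q v (u i) = 0)
        ∧ Cfsg.hermForm n F q v v = 0 ∧ v ∉ Submodule.span F (Set.range u)} := by
      apply Nat.card_congr
      exact { toFun := fun v => ⟨v.1.1, v.1.2.1, v.1.2.2, v.2⟩
              invFun := fun v => ⟨⟨v.1, v.2.1, v.2.2.1⟩, v.2.2.2⟩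
              left_inv := fun v => rfl
              right_inv := fun v => rfl }
    rw [← e1, e2, e4]
  rw [hsplit, hB] at h1
  push_cast at h1
  linear_combination h1

theorem card_uframes_succ [DecidableEq F] (hF : Fintype.card F = q ^ 2) (k : ℕ) (hkn : k ≤ n) :
    (Nat.card {w : Fin (k + 1) → (Fin n → F) //
        LinearIndependent F w ∧ ∀ i j, Cfsg.hermForm n F q (w i) (w j) = 0} : ℤ) * q
      = (Nat.card {w : Fin k → (Fin n → F) //
          LinearIndependent F w ∧ ∀ i j, Cfsg.hermForm n F q (w i) (w j) = 0} : ℤ)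
        * ((q : ℤ) ^ (2 * (n - k)) + ((q : ℤ) - 1) * (-(q : ℤ)) ^ n - (q : ℤ) ^ (2 * k + 1)) := by
  classical
  have hq := uq_ge_two hF
  have e : {w : Fin (k + 1) → (Fin n → F) //
        LinearIndependent F w ∧ ∀ i j, Cfsg.hermForm n F q (w i) (w j) = 0}
      ≃ Σ u : {w : Fin k → (Fin n → F) //
          LinearIndependent F w ∧ ∀ i j, Cfsg.hermForm n F q (w i) (w j) = 0},
        {v : Fin n → F // (∀ i, Cfsg.hermForm n F q v (u.1 i) = 0)
          ∧ Cfsg.hermForm n F q v v = 0 ∧ v ∉ Submodule.span F (Set.range u.1)} :=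
    { toFun := fun w => ⟨⟨Fin.init w.1, by
          have h1 := w.2.1
          rw [← Fin.snoc_init_self w.1, linearIndependent_finSnoc] at h1
          exact h1.1, fun i j => w.2.2 _ _⟩,
        ⟨w.1 (Fin.last k), fun i => w.2.2 _ _, w.2.2 _ _, by
          have h1 := w.2.1
          rw [← Fin.snoc_init_self w.1, linearIndependent_finSnoc] at h1
          exact h1.2⟩⟩
      invFun := fun p => ⟨Fin.snoc p.1.1 p.2.1, by
          rw [linearIndependent_finSnoc]
          exact ⟨p.1.2.1, p.2.2.2.2⟩, by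
          intro i j
          induction i using Fin.lastCases with
          | last =>
            induction j using Fin.lastCases with
            | last =>
              rw [Fin.snoc_last]
              exact p.2.2.2.1
            | cast j =>
              rw [Fin.snoc_last, Fin.snoc_castSucc]
              exact p.2.2.1 j
          | cast i =>
            induction j using Fin.lastCases with
            | last =>
              rw [Fin.snoc_last, Fin.snoc_castSucc]
              rw [← herm_symm hF, p.2.2.1 i, zero_pow (by omega)]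
            | cast j =>
              rw [Fin.snoc_castSucc, Fin.snoc_castSucc]
              exact p.1.2.2 i j⟩
      left_inv := fun w => Subtype.ext (Fin.snoc_init_self _)
      right_inv := fun p => by
        apply Sigma.subtype_ext
        · apply Subtype.ext
          show Fin.init (Fin.snoc p.1.1 p.2.1 : Fin (k + 1) → (Fin n → F)) = p.1.1
          exact Fin.init_snoc _ _
        · show (Fin.snoc p.1.1 p.2.1 : Fin (k + 1) → (Fin n → F)) (Fin.last k) = p.2.1
          exact Fin.snoc_last _ _ }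
  rw [Nat.card_congr e, Nat.card_sigma]
  push_cast
  rw [Finset.sum_mul, Finset.sum_congr rfl (fun u _ => card_fib hF hkn u.1 u.2.1 u.2.2),
    Finset.sum_const, Finset.card_univ, nsmul_eq_mul, Nat.card_eq_fintype_card]

/-! ### arithmetic -/

theorem card_gu_two_step [DecidableEq F] (hF : Fintype.card F = q ^ 2) (d : ℕ) :
    (Nat.card (Cfsg.GU (d + 1 + 1) F q) : ℤ) * (q : ℤ) ^ 2
      = ((q : ℤ) ^ (2 * (d + 1 + 1)) - (-(q : ℤ)) ^ (d + 1 + 1))
        * ((q : ℤ) ^ (2 * (d + 1)) - (-(q : ℤ)) ^ (d + 1))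
        * (Nat.card (Cfsg.GU d F q) : ℤ) := by
  have h1 := card_herm_eq hF (d + 1 + 1) 1 (one_pow q)
  have h2 := card_herm_eq hF (d + 1) 1 (one_pow q)
  rw [if_neg one_ne_zero] at h1 h2
  rw [card_gu_succ hF (d + 1), card_gu_succ hF d]
  push_cast
  linear_combination
    ((Nat.card {v : Fin (d + 1) → F // Cfsg.hermForm (d + 1) F q v v = 1} : ℤ) * q
        * (Nat.card (Cfsg.GU d F q) : ℤ)) * h1
      + (((q : ℤ) ^ (2 * (d + 1 + 1)) - (-(q : ℤ)) ^ (d + 1 + 1))
        * (Nat.card (Cfsg.GU d F q) : ℤ)) * h2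

theorem gu_frames_arith [DecidableEq F] (hF : Fintype.card F = q ^ 2) (n : ℕ) :
    ∀ k : ℕ, 2 * k ≤ n →
    (Nat.card (Cfsg.GU n F q) : ℤ)
      = (Nat.card {w : Fin k → (Fin n → F) //
          LinearIndependent F w ∧ ∀ i j, Cfsg.hermForm n F q (w i) (w j) = 0} : ℤ)
        * (q : ℤ) ^ (k * (2 * n - 3 * k)) * (Nat.card (Cfsg.GU (n - 2 * k) F q) : ℤ)
  | 0, _ => by
    have h1 : Nat.card {w : Fin 0 → (Fin n → F) //
        LinearIndependent F w ∧ ∀ i j, Cfsg.hermForm n F q (w i) (w j) = 0} = 1 := by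
      have : Subsingleton {w : Fin 0 → (Fin n → F) //
          LinearIndependent F w ∧ ∀ i j, Cfsg.hermForm n F q (w i) (w j) = 0} :=
        ⟨fun a b => Subtype.ext (Subsingleton.elim _ _)⟩
      exact Nat.card_of_subsingleton (⟨fun i => i.elim0, linearIndependent_empty_type,
        fun i => i.elim0⟩ : {w : Fin 0 → (Fin n → F) //
          LinearIndependent F w ∧ ∀ i j, Cfsg.hermForm n F q (w i) (w j) = 0})
    rw [h1]
    simp
  | k + 1, hk => by
    have hq := uq_ge_two hF
    obtain ⟨d, rfl⟩ : ∃ d, n = 2 * k + d + 1 + 1 := ⟨n - 2 * k - 2, by omega⟩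
    have ih := gu_frames_arith hF (2 * k + d + 1 + 1) k (by omega)
    have hs := card_uframes_succ hF (n := 2 * k + d + 1 + 1) k (by omega)
    have hg := card_gu_two_step hF d
    have e1 : 2 * k + d + 1 + 1 - 2 * k = d + 1 + 1 := by omega
    have e2 : 2 * k + d + 1 + 1 - 2 * (k + 1) = d := by omega
    have e3 : 2 * (2 * k + d + 1 + 1) - 3 * k = 2 * d + k + 4 := by omega
    have e4 : 2 * (2 * k + d + 1 + 1) - 3 * (k + 1) = 2 * d + k + 1 := by omega
    have e5 : 2 * k + d + 1 + 1 - k = k + d + 2 := by omega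
    rw [e1, e3] at ih
    rw [e5] at hs
    rw [e2, e4]
    have hq0 : (q : ℤ) ≠ 0 := by exact_mod_cast (by omega : q ≠ 0)
    have hq3 : ((q : ℤ)) ^ 3 ≠ 0 := pow_ne_zero _ hq0
    apply mul_right_cancel₀ hq3
    have hs1 : (-(q : ℤ)) ^ (d + 1) = -((-1 : ℤ) ^ d * (q : ℤ) ^ (d + 1)) := by
      rw [neg_pow, pow_succ (-1 : ℤ)]; ring
    have hs2 : (-(q : ℤ)) ^ (d + 1 + 1) = (-1 : ℤ) ^ d * (q : ℤ) ^ (d + 1 + 1) := by
      rw [neg_pow, pow_succ (-1 : ℤ), pow_succ (-1 : ℤ)]; ring
    have hs3 : (-(q : ℤ)) ^ (2 * k + d + 1 + 1) = (-1 : ℤ) ^ d * (q : ℤ) ^ (2 * k + d + 1 + 1) := by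
      rw [neg_pow, pow_succ (-1 : ℤ), pow_succ (-1 : ℤ), pow_add (-1 : ℤ), pow_mul (-1 : ℤ)]
      norm_num
    rw [hs1, hs2] at hg
    rw [hs3] at hs
    obtain ⟨A, hA⟩ : ∃ A : ℤ, A = (Nat.card {w : Fin k → (Fin (2 * k + d + 1 + 1) → F) //
        LinearIndependent F w ∧ ∀ i j, Cfsg.hermForm (2 * k + d + 1 + 1) F q (w i) (w j) = 0} : ℤ) :=
      ⟨_, rfl⟩
    obtain ⟨A', hA'⟩ : ∃ A' : ℤ, A' = (Nat.card {w : Fin (k + 1) → (Fin (2 * k + d + 1 + 1) → F) //
        LinearIndependent F w ∧ ∀ i j, Cfsg.hermForm (2 * k + d + 1 + 1) F q (w i) (w j) = 0} : ℤ) :=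
      ⟨_, rfl⟩
    obtain ⟨G0, hG0⟩ : ∃ G0 : ℤ, G0 = (Nat.card (Cfsg.GU d F q) : ℤ) := ⟨_, rfl⟩
    obtain ⟨G2, hG2⟩ : ∃ G2 : ℤ, G2 = (Nat.card (Cfsg.GU (d + 1 + 1) F q) : ℤ) := ⟨_, rfl⟩
    rw [← hA, ← hG2] at ih
    rw [← hA, ← hA'] at hs
    rw [← hG0, ← hG2] at hg
    rw [← hA', ← hG0, ih]
    rcases neg_one_pow_eq_or ℤ d with h | h
    · rw [h] at hg hs
      linear_combination (A * (q : ℤ) ^ (k * (2 * d + k + 4)) * q) * hg
        - ((q : ℤ) ^ ((k + 1) * (2 * d + k + 1)) * G0 * (q : ℤ) ^ 2) * hs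
    · rw [h] at hg hs
      linear_combination (A * (q : ℤ) ^ (k * (2 * d + k + 4)) * q) * hg
        - ((q : ℤ) ^ ((k + 1) * (2 * d + k + 1)) * G0 * (q : ℤ) ^ 2) * hs

/-! ### orbits of `GU` on totally isotropic frames -/

theorem gl_mulVec_injective (g : Matrix.GeneralLinearGroup (Fin n) F) :
    Function.Injective (g : Matrix (Fin n) (Fin n) F).mulVec :=
  Matrix.mulVec_injective_iff_isUnit.mpr g.isUnit

theorem gl_li_mulVec {ι : Type*} (g : Matrix.GeneralLinearGroup (Fin n) F) (w : ι → (Fin n → F))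
    (hw : LinearIndependent F w) :
    LinearIndependent F (fun i => (g : Matrix (Fin n) (Fin n) F) *ᵥ w i) := by
  have hinj : LinearMap.ker (Matrix.mulVecLin (g : Matrix (Fin n) (Fin n) F)) = ⊥ := by
    rw [LinearMap.ker_eq_bot]
    exact gl_mulVec_injective g
  have h := hw.map' (Matrix.mulVecLin (g : Matrix (Fin n) (Fin n) F)) hinj
  have e : (⇑(Matrix.mulVecLin (g : Matrix (Fin n) (Fin n) F)) ∘ w)
      = fun i => (g : Matrix (Fin n) (Fin n) F) *ᵥ w i := by
    funext i
    rfl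
  rw [e] at h
  exact h

theorem gu_inv_mulVec (A : Cfsg.GU n F q) (x : Fin n → F) :
    (((A⁻¹ : Cfsg.GU n F q) : Matrix.GeneralLinearGroup (Fin n) F) : Matrix (Fin n) (Fin n) F) *ᵥ
      (((A : Matrix.GeneralLinearGroup (Fin n) F) : Matrix (Fin n) (Fin n) F) *ᵥ x) = x := by
  rw [Matrix.mulVec_mulVec, ← Units.val_mul, ← Subgroup.coe_mul, inv_mul_cancel]
  exact Matrix.one_mulVec x

theorem card_gu_eq_frames_mul (hF : Fintype.card F = q ^ 2) {k : ℕ} (w₀ : Fin k → (Fin n → F))
    (hw₀ : LinearIndependent F w₀) (hti : ∀ i j, Cfsg.hermForm n F q (w₀ i) (w₀ j) = 0) :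
    Nat.card (Cfsg.GU n F q)
      = Nat.card {w : Fin k → (Fin n → F) //
          LinearIndependent F w ∧ ∀ i j, Cfsg.hermForm n F q (w i) (w j) = 0}
        * Nat.card {g : Cfsg.GU n F q // ∀ i,
            ((g : Matrix.GeneralLinearGroup (Fin n) F) : Matrix (Fin n) (Fin n) F) *ᵥ w₀ i
              = w₀ i} := by
  classical
  obtain ⟨φ, hφ⟩ : ∃ φ : Cfsg.GU n F q → {w : Fin k → (Fin n → F) //
      LinearIndependent F w ∧ ∀ i j, Cfsg.hermForm n F q (w i) (w j) = 0},
      ∀ g, (φ g).1 = fun i =>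
        ((g : Matrix.GeneralLinearGroup (Fin n) F) : Matrix (Fin n) (Fin n) F) *ᵥ w₀ i :=
    ⟨fun g => ⟨fun i =>
        ((g : Matrix.GeneralLinearGroup (Fin n) F) : Matrix (Fin n) (Fin n) F) *ᵥ w₀ i,
      gl_li_mulVec g.1 w₀ hw₀,
      fun i j => by rw [(mem_GU_iff _).mp g.2]; exact hti i j⟩, fun g => rfl⟩
  have hfib : ∀ x, Nat.card {g // φ g = x}
      = Nat.card {g : Cfsg.GU n F q // ∀ i,
          ((g : Matrix.GeneralLinearGroup (Fin n) F) : Matrix (Fin n) (Fin n) F) *ᵥ w₀ i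
            = w₀ i} := by
    intro x
    obtain ⟨A, hA, hAw⟩ := u_witt_frames hF w₀ x.1 hw₀ x.2.1 (fun i j => by rw [x.2.2, hti])
    apply Nat.card_congr
    refine { toFun := fun g => ⟨(⟨A, hA⟩ : Cfsg.GU n F q)⁻¹ * g.1, ?_⟩
             invFun := fun s => ⟨(⟨A, hA⟩ : Cfsg.GU n F q) * s.1, ?_⟩
             left_inv := ?_
             right_inv := ?_ }
    · intro i
      have h1 : ((g.1 : Matrix.GeneralLinearGroup (Fin n) F) : Matrix (Fin n) (Fin n) F) *ᵥ w₀ i
          = x.1 i := by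
        have h2 := congrFun (congrArg Subtype.val g.2) i
        rw [hφ] at h2
        exact h2
      rw [Subgroup.coe_mul, Units.val_mul, ← Matrix.mulVec_mulVec, h1, ← hAw]
      exact gu_inv_mulVec ⟨A, hA⟩ _
    · apply Subtype.ext
      rw [hφ]
      funext i
      rw [Subgroup.coe_mul, Units.val_mul, ← Matrix.mulVec_mulVec, s.2 i]
      exact hAw i
    · intro g
      apply Subtype.ext
      show (⟨A, hA⟩ : Cfsg.GU n F q) * ((⟨A, hA⟩ : Cfsg.GU n F q)⁻¹ * g.1) = g.1
      rw [mul_inv_cancel_left]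
    · intro s
      apply Subtype.ext
      show (⟨A, hA⟩ : Cfsg.GU n F q)⁻¹ * ((⟨A, hA⟩ : Cfsg.GU n F q) * s.1) = s.1
      rw [inv_mul_cancel_left]
  rw [card_fiber_count φ _ hfib]

/-- the matrix of an element of `GU`, as a monoid hom. -/
def guToMat (n : ℕ) (F : Type*) [Field F] (q : ℕ) :
    Cfsg.GU n F q →* Matrix (Fin n) (Fin n) F :=
  (Units.coeHom (Matrix (Fin n) (Fin n) F)).comp (Subgroup.subtype _)

theorem mem_gu_stab_iff (W : Submodule F (Fin n → F)) (g : Cfsg.GU n F q) :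
    g ∈ Cfsg.stabilizing (guToMat n F q) (W : Set (Fin n → F)) ↔
      ∀ v, v ∈ W ↔
        ((g : Matrix.GeneralLinearGroup (Fin n) F) : Matrix (Fin n) (Fin n) F) *ᵥ v ∈ W :=
  Iff.rfl

theorem gl_stab_of_le (W : Submodule F (Fin n → F)) (g : Matrix.GeneralLinearGroup (Fin n) F)
    (hg : ∀ w ∈ W, (g : Matrix (Fin n) (Fin n) F) *ᵥ w ∈ W) :
    ∀ v, v ∈ W ↔ (g : Matrix (Fin n) (Fin n) F) *ᵥ v ∈ W := by
  have hinj := gl_mulVec_injective g
  have hmap : Submodule.map (Matrix.mulVecLin (g : Matrix (Fin n) (Fin n) F)) W = W := by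
    apply Submodule.eq_of_le_of_finrank_eq
    · rintro _ ⟨w, hw, rfl⟩
      exact hg w hw
    · exact (LinearEquiv.finrank_eq (Submodule.equivMapOfInjective
        (Matrix.mulVecLin (g : Matrix (Fin n) (Fin n) F)) hinj W)).symm
  intro v
  constructor
  · exact hg v
  · intro hv
    rw [← hmap] at hv
    obtain ⟨v', hv', hv'v⟩ := hv
    have h1 : v' = v := hinj hv'v
    rw [← h1]
    exact hv'

theorem gl_stab_of_frames {k : ℕ} (W : Submodule F (Fin n → F)) (w : Fin k → (Fin n → F))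
    (hw : Submodule.span F (Set.range w) = W) (g : Matrix.GeneralLinearGroup (Fin n) F)
    (hg : ∀ i, (g : Matrix (Fin n) (Fin n) F) *ᵥ w i ∈ W) :
    ∀ v, v ∈ W ↔ (g : Matrix (Fin n) (Fin n) F) *ᵥ v ∈ W := by
  apply gl_stab_of_le
  have hle : Submodule.span F (Set.range w)
      ≤ Submodule.comap (Matrix.mulVecLin (g : Matrix (Fin n) (Fin n) F)) W := by
    rw [Submodule.span_le]
    rintro _ ⟨i, rfl⟩
    exact hg i
  intro w' hw'
  rw [← hw] at hw'
  exact hle hw'

theorem card_gu_stab_eq (hF : Fintype.card F = q ^ 2) {k : ℕ}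
    (W : Submodule F (Fin n → F)) (hWk : Module.finrank F W = k)
    (hW : ∀ u ∈ W, ∀ v ∈ W, Cfsg.hermForm n F q u v = 0)
    (w₀ : Fin k → (Fin n → F)) (hw₀ : LinearIndependent F w₀) (hw₀W : ∀ i, w₀ i ∈ W) :
    Nat.card ↥(Cfsg.stabilizing (guToMat n F q) (W : Set (Fin n → F)))
      = (∏ i : Fin k, ((q ^ 2) ^ k - (q ^ 2) ^ (i : ℕ)))
        * Nat.card {g : Cfsg.GU n F q // ∀ i,
            ((g : Matrix.GeneralLinearGroup (Fin n) F) : Matrix (Fin n) (Fin n) F) *ᵥ w₀ i
              = w₀ i} := by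
  classical
  have hspan : Submodule.span F (Set.range w₀) = W := by
    apply Submodule.eq_of_le_of_finrank_eq
      (Submodule.span_le.mpr (by rintro _ ⟨i, rfl⟩; exact hw₀W i))
    rw [finrank_span_eq_card hw₀, hWk, Fintype.card_fin]
  obtain ⟨φ, hφ⟩ : ∃ φ : ↥(Cfsg.stabilizing (guToMat n F q) (W : Set (Fin n → F))) →
      {b : Fin k → W // LinearIndependent F b},
      ∀ g i, ((φ g).1 i : Fin n → F)
        = ((g.1 : Matrix.GeneralLinearGroup (Fin n) F) : Matrix (Fin n) (Fin n) F) *ᵥ w₀ i := by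
    refine ⟨fun g => ⟨fun i =>
      ⟨((g.1 : Matrix.GeneralLinearGroup (Fin n) F) : Matrix (Fin n) (Fin n) F) *ᵥ w₀ i,
        ((mem_gu_stab_iff W g.1).mp g.2 (w₀ i)).mp (hw₀W i)⟩, ?_⟩, fun g i => rfl⟩
    apply LinearIndependent.of_comp W.subtype
    exact gl_li_mulVec g.1.1 w₀ hw₀
  have hfib : ∀ b, Nat.card {g // φ g = b}
      = Nat.card {g : Cfsg.GU n F q // ∀ i,
          ((g : Matrix.GeneralLinearGroup (Fin n) F) : Matrix (Fin n) (Fin n) F) *ᵥ w₀ i
            = w₀ i} := by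
    intro b
    have hb' : LinearIndependent F (fun i => (b.1 i : Fin n → F)) :=
      b.2.map' W.subtype (Submodule.ker_subtype W)
    obtain ⟨A, hA, hAw⟩ := u_witt_frames hF w₀ (fun i => (b.1 i : Fin n → F)) hw₀ hb'
      (fun i j => by rw [hW _ (b.1 i).2 _ (b.1 j).2, hW _ (hw₀W i) _ (hw₀W j)])
    have hAstab : (⟨A, hA⟩ : Cfsg.GU n F q)
        ∈ Cfsg.stabilizing (guToMat n F q) (W : Set (Fin n → F)) := by
      rw [mem_gu_stab_iff]
      exact gl_stab_of_frames W w₀ hspan A (fun i => by rw [hAw]; exact (b.1 i).2)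
    apply Nat.card_congr
    refine { toFun := fun g => ⟨(⟨A, hA⟩ : Cfsg.GU n F q)⁻¹ * g.1.1, ?_⟩
             invFun := fun s => ⟨⟨(⟨A, hA⟩ : Cfsg.GU n F q) * s.1, mul_mem hAstab (by
               rw [mem_gu_stab_iff]
               exact gl_stab_of_frames W w₀ hspan s.1.1
                 (fun i => by rw [s.2 i]; exact hw₀W i))⟩, ?_⟩
             left_inv := ?_
             right_inv := ?_ }
    · intro i
      have h1 : ((g.1.1 : Matrix.GeneralLinearGroup (Fin n) F) : Matrix (Fin n) (Fin n) F) *ᵥ w₀ i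
          = (b.1 i : Fin n → F) := by
        rw [← hφ, g.2]
      rw [Subgroup.coe_mul, Units.val_mul, ← Matrix.mulVec_mulVec, h1, ← hAw]
      exact gu_inv_mulVec ⟨A, hA⟩ _
    · apply Subtype.ext
      funext i
      apply Subtype.ext
      rw [hφ]
      show (((⟨A, hA⟩ : Cfsg.GU n F q) * s.1 : Cfsg.GU n F q) :
        Matrix.GeneralLinearGroup (Fin n) F).1 *ᵥ w₀ i = (b.1 i : Fin n → F)
      rw [Subgroup.coe_mul, Units.val_mul, ← Matrix.mulVec_mulVec, s.2 i]
      exact hAw i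
    · intro g
      apply Subtype.ext
      apply Subtype.ext
      show (⟨A, hA⟩ : Cfsg.GU n F q) * ((⟨A, hA⟩ : Cfsg.GU n F q)⁻¹ * g.1.1) = g.1.1
      rw [mul_inv_cancel_left]
    · intro s
      apply Subtype.ext
      show (⟨A, hA⟩ : Cfsg.GU n F q)⁻¹ * ((⟨A, hA⟩ : Cfsg.GU n F q) * s.1) = s.1
      rw [inv_mul_cancel_left]
  rw [card_fiber_count φ _ hfib]
  congr 1
  have h1 := card_linearIndependent (K := F) (V := W) (k := k) (le_of_eq hWk.symm)
  rw [hWk, hF] at h1
  exact h1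

theorem card_gu_fix_ti [DecidableEq F] (hF : Fintype.card F = q ^ 2) {k : ℕ} (hk : 2 * k ≤ n)
    (w₀ : Fin k → (Fin n → F)) (hw₀ : LinearIndependent F w₀)
    (hti : ∀ i j, Cfsg.hermForm n F q (w₀ i) (w₀ j) = 0) :
    Nat.card {g : Cfsg.GU n F q // ∀ i,
        ((g : Matrix.GeneralLinearGroup (Fin n) F) : Matrix (Fin n) (Fin n) F) *ᵥ w₀ i = w₀ i}
      = q ^ (k * (2 * n - 3 * k)) * Nat.card (Cfsg.GU (n - 2 * k) F q) := by
  classical
  have h1 := card_gu_eq_frames_mul hF w₀ hw₀ hti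
  have h2 := gu_frames_arith hF n k hk
  have hpos : 0 < Nat.card {w : Fin k → (Fin n → F) //
      LinearIndependent F w ∧ ∀ i j, Cfsg.hermForm n F q (w i) (w j) = 0} := by
    have : Nonempty {w : Fin k → (Fin n → F) //
      LinearIndependent F w ∧ ∀ i j, Cfsg.hermForm n F q (w i) (w j) = 0} := ⟨⟨w₀, hw₀, hti⟩⟩
    exact Nat.card_pos
  have h3 : Nat.card {w : Fin k → (Fin n → F) //
        LinearIndependent F w ∧ ∀ i j, Cfsg.hermForm n F q (w i) (w j) = 0}
      * Nat.card {g : Cfsg.GU n F q // ∀ i,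
        ((g : Matrix.GeneralLinearGroup (Fin n) F) : Matrix (Fin n) (Fin n) F) *ᵥ w₀ i = w₀ i}
      = Nat.card {w : Fin k → (Fin n → F) //
        LinearIndependent F w ∧ ∀ i j, Cfsg.hermForm n F q (w i) (w j) = 0}
      * (q ^ (k * (2 * n - 3 * k)) * Nat.card (Cfsg.GU (n - 2 * k) F q)) := by
    rw [← h1]
    have h4 : ((Nat.card (Cfsg.GU n F q) : ℕ) : ℤ) = ((Nat.card {w : Fin k → (Fin n → F) //
        LinearIndependent F w ∧ ∀ i j, Cfsg.hermForm n F q (w i) (w j) = 0}
      * (q ^ (k * (2 * n - 3 * k)) * Nat.card (Cfsg.GU (n - 2 * k) F q)) : ℕ) : ℤ) := by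
      rw [h2]
      push_cast
      ring
    exact_mod_cast h4
  exact Nat.eq_of_mul_eq_mul_left hpos h3

/-! ### the determinant on the stabiliser -/

theorem rk1_mulVec (a b : Fin n → F) (c : F) (x : Fin n → F) :
    (1 + c • Matrix.vecMulVec a (fun j => b j ^ q)) *ᵥ x
      = x + (c * Cfsg.hermForm n F q x b) • a := by
  rw [Matrix.add_mulVec, Matrix.one_mulVec, Matrix.smul_mulVec, Matrix.vecMulVec_mulVec,
    op_smul_eq_smul, smul_smul]
  congr 3
  simp only [dotProduct, Cfsg.hermForm]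
  exact Finset.sum_congr rfl fun i _ => mul_comm _ _

theorem rk1_det (a b : Fin n → F) (c : F) :
    (1 + c • Matrix.vecMulVec a (fun j => b j ^ q)).det = 1 + c * Cfsg.hermForm n F q a b := by
  rw [← Matrix.smul_vecMulVec, Matrix.vecMulVec_eq (ι := Unit),
    Matrix.det_one_add_replicateCol_mul_replicateRow]
  have h1 : (fun j => b j ^ q) ⬝ᵥ (c • a) = c * Cfsg.hermForm n F q a b := by
    simp only [dotProduct, Cfsg.hermForm, Pi.smul_apply, smul_eq_mul, Finset.mul_sum]
    exact Finset.sum_congr rfl fun i _ => by ring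
  rw [h1]

theorem exists_hilbert90 (hF : Fintype.card F = q ^ 2) (y : F) (hy : y ^ (q + 1) = 1) :
    ∃ l : F, l ≠ 0 ∧ l = y * l ^ q := by
  by_cases hy1 : y = -1
  · obtain ⟨κ, hκ0, hκ⟩ := exists_trace_zero hF
    refine ⟨κ, hκ0, ?_⟩
    rw [hy1]
    linear_combination hκ
  · refine ⟨1 + y, fun h => hy1 (by linear_combination h), ?_⟩
    rw [frob_add hF, one_pow, mul_add, mul_one, ← unorm_eq, hy]
    ring

/-- the torus element `x ↦ x + (m-1) h(x,a) b + (l-1) h(x,b) a` of a hyperbolic pair. -/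
theorem exists_gu_torus (hF : Fintype.card F = q ^ 2) (a b : Fin n → F)
    (ha : Cfsg.hermForm n F q a a = 0) (hb : Cfsg.hermForm n F q b b = 0)
    (hab : Cfsg.hermForm n F q a b = 1) (l m : F) (hlm : m * l ^ q = 1) :
    ∃ g : Matrix.GeneralLinearGroup (Fin n) F, g ∈ Cfsg.GU n F q ∧
      (∀ x, (g : Matrix (Fin n) (Fin n) F) *ᵥ x
        = x + ((m - 1) * Cfsg.hermForm n F q x a) • b + ((l - 1) * Cfsg.hermForm n F q x b) • a) ∧
      (g : Matrix (Fin n) (Fin n) F).det = l * m := by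
  classical
  have hq := uq_ge_two hF
  have hba : Cfsg.hermForm n F q b a = 1 := by rw [← herm_symm hF, hab, one_pow]
  have hlm' : l * m ^ q = 1 := by
    have h1 := congrArg (fun x => x ^ q) hlm
    simp only [mul_pow, frob_frob hF, one_pow] at h1
    rw [mul_comm]
    exact h1
  obtain ⟨M, hM⟩ : ∃ M : Matrix (Fin n) (Fin n) F,
      M = (1 + (l - 1) • Matrix.vecMulVec a (fun j => b j ^ q))
        * (1 + (m - 1) • Matrix.vecMulVec b (fun j => a j ^ q)) := ⟨_, rfl⟩
  have hMv : ∀ x, M *ᵥ x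
      = x + ((m - 1) * Cfsg.hermForm n F q x a) • b + ((l - 1) * Cfsg.hermForm n F q x b) • a := by
    intro x
    rw [hM, ← Matrix.mulVec_mulVec, rk1_mulVec, rk1_mulVec, herm_add_left, herm_smul_left, hb,
      mul_zero, add_zero]
  have hpres : ∀ x y, Cfsg.hermForm n F q (M *ᵥ x) (M *ᵥ y) = Cfsg.hermForm n F q x y := by
    intro x y
    rw [hMv, hMv]
    simp only [herm_add_left, herm_add_right hF, herm_smul_left, herm_smul_right, ha, hb, hab,
      hba, mul_pow, frob_sub hF, one_pow]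
    rw [← herm_symm hF y a, ← herm_symm hF y b]
    linear_combination (Cfsg.hermForm n F q x b * Cfsg.hermForm n F q y a ^ q) * hlm'
      + (Cfsg.hermForm n F q x a * Cfsg.hermForm n F q y b ^ q) * hlm
  obtain ⟨g, hg, hgM⟩ := gu_mk hF M hpres
  refine ⟨g, hg, ?_, ?_⟩
  · rw [hgM]
    exact hMv
  · rw [hgM, hM, Matrix.det_mul, rk1_det, rk1_det, hab, hba]
    ring

theorem exists_stab_det (hF : Fintype.card F = q ^ 2) (hn : 1 ≤ n) {k : ℕ} (hk : 2 * k ≤ n)
    (W : Submodule F (Fin n → F)) (hWk : Module.finrank F W = k)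
    (hW : ∀ u ∈ W, ∀ v ∈ W, Cfsg.hermForm n F q u v = 0) (y : F) (hy : y ^ (q + 1) = 1) :
    ∃ g : Matrix.GeneralLinearGroup (Fin n) F, g ∈ Cfsg.GU n F q ∧
      (∀ v, v ∈ W ↔ (g : Matrix (Fin n) (Fin n) F) *ᵥ v ∈ W) ∧
      (g : Matrix (Fin n) (Fin n) F).det = y := by
  classical
  by_cases hW0 : W = ⊥
  · obtain ⟨g, hg, -, hgdet⟩ := gu_diag_one (q := q) (⟨0, by omega⟩ : Fin n) y hy
    refine ⟨g, hg, ?_, hgdet⟩
    apply gl_stab_of_le
    intro w hw
    rw [hW0, Submodule.mem_bot] at hw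
    rw [hw, Matrix.mulVec_zero]
    exact zero_mem _
  · obtain ⟨a, haW, ha0⟩ := Submodule.exists_mem_ne_zero_of_ne_bot hW0
    have hk1 : 1 ≤ k := by
      rcases Nat.eq_zero_or_pos k with h0 | h0
      · exfalso
        apply hW0
        rw [h0] at hWk
        exact Submodule.finrank_eq_zero.mp hWk
      · exact h0
    obtain ⟨b, hb, hab⟩ := exists_partner hF (by omega) a ha0 (hW a haW a haW)
    obtain ⟨l, hl0, hl⟩ := exists_hilbert90 hF y hy
    have hlq : l ^ q ≠ 0 := pow_ne_zero _ hl0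
    obtain ⟨g, hg, hgv, hgdet⟩ := exists_gu_torus hF a b (hW a haW a haW) hb hab l (l ^ q)⁻¹
      (inv_mul_cancel₀ hlq)
    refine ⟨g, hg, ?_, ?_⟩
    · apply gl_stab_of_le
      intro w hw
      rw [hgv, hW w hw a haW, mul_zero, zero_smul, add_zero]
      exact W.add_mem hw (W.smul_mem _ haW)
    · rw [hgdet, ← div_eq_mul_inv, div_eq_iff hlq]
      exact hl

theorem card_su_stab (hF : Fintype.card F = q ^ 2) (hn : 1 ≤ n) {k : ℕ} (hk : 2 * k ≤ n)
    (W : Submodule F (Fin n → F)) (hWk : Module.finrank F W = k)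
    (hW : ∀ u ∈ W, ∀ v ∈ W, Cfsg.hermForm n F q u v = 0) :
    (q + 1) * Nat.card ↥((Cfsg.stabilizing (Cfsg.slToMat n F)
        (W : Set (Fin n → F))).subgroupOf (Cfsg.SU n F q))
      = Nat.card ↥(Cfsg.stabilizing (guToMat n F q) (W : Set (Fin n → F))) := by
  classical
  obtain ⟨D, hD⟩ := exists_detHom hF n
  obtain ⟨D', hD'⟩ : ∃ D' : ↥(Cfsg.stabilizing (guToMat n F q) (W : Set (Fin n → F)))
      →* (powMonoidHom (q + 1) : Fˣ →* Fˣ).ker, ∀ g, D' g = D g.1 :=
    ⟨D.comp (Subgroup.subtype _), fun g => rfl⟩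
  have hsurj : Function.Surjective D' := by
    intro y
    have hy : ((y : Fˣ) : F) ^ (q + 1) = 1 := by
      have h1 := y.2
      rw [MonoidHom.mem_ker, powMonoidHom_apply] at h1
      rw [← Units.val_pow_eq_pow_val, h1, Units.val_one]
    obtain ⟨g, hg, hgW, hgdet⟩ := exists_stab_det hF hn hk W hWk hW ((y : Fˣ) : F) hy
    refine ⟨⟨⟨g, hg⟩, (mem_gu_stab_iff W _).mpr hgW⟩, ?_⟩
    apply Subtype.ext
    apply Units.ext
    rw [hD', hD, Matrix.GeneralLinearGroup.val_det_apply]
    exact hgdet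
  have h1 : Nat.card ↥(Cfsg.stabilizing (guToMat n F q) (W : Set (Fin n → F)))
      = Nat.card D'.ker * (q + 1) := by
    rw [← Subgroup.card_mul_index D'.ker, Subgroup.index_ker, MonoidHom.range_eq_top.mpr hsurj,
      Subgroup.card_top, Cfsg.Agent.S0783.card_K hF]
  have h2 : Nat.card ↥((Cfsg.stabilizing (Cfsg.slToMat n F)
        (W : Set (Fin n → F))).subgroupOf (Cfsg.SU n F q)) = Nat.card D'.ker := by
    refine Nat.card_congr
      { toFun := fun A => ⟨⟨⟨Matrix.SpecialLinearGroup.toGL A.1.1, A.1.2⟩, ?_⟩, ?_⟩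
        invFun := fun g => ⟨⟨⟨(((g.1.1 : Cfsg.GU n F q) : Matrix.GeneralLinearGroup (Fin n) F) :
            Matrix (Fin n) (Fin n) F), ?_⟩, ?_⟩, ?_⟩
        left_inv := fun A => rfl
        right_inv := fun g => ?_ }
    · exact A.2
    · rw [MonoidHom.mem_ker]
      apply Subtype.ext
      apply Units.ext
      rw [hD', hD, Matrix.GeneralLinearGroup.val_det_apply]
      exact A.1.1.2
    · have h3 := g.2
      rw [MonoidHom.mem_ker] at h3
      have h4 := congrArg (fun x : (powMonoidHom (q + 1) : Fˣ →* Fˣ).ker => ((x : Fˣ) : F)) h3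
      simp only [hD', hD, Matrix.GeneralLinearGroup.val_det_apply] at h4
      exact h4
    · exact g.1.1.2
    · exact g.1.2
    · apply Subtype.ext
      apply Subtype.ext
      apply Subtype.ext
      apply Units.ext
      rfl
  rw [h1, h2, mul_comm]

/-- the order of the stabiliser in `SU_n(q)` of a totally isotropic `k`-space. -/
theorem card_su_stab_ti (hF : Fintype.card F = q ^ 2) (hn : 1 ≤ n) {k : ℕ} (hk : 2 * k ≤ n)
    (W : Submodule F (Fin n → F)) (hWk : Module.finrank F W = k)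
    (hW : ∀ u ∈ W, ∀ v ∈ W, Cfsg.hermForm n F q u v = 0) :
    (q + 1) * Nat.card ↥((Cfsg.stabilizing (Cfsg.slToMat n F)
        (W : Set (Fin n → F))).subgroupOf (Cfsg.SU n F q))
      = q ^ (k * (2 * n - 3 * k)) * (∏ i : Fin k, ((q ^ 2) ^ k - (q ^ 2) ^ (i : ℕ)))
        * Nat.card (Cfsg.GU (n - 2 * k) F q) := by
  classical
  obtain ⟨w₀, hw₀, hw₀W⟩ : ∃ w₀ : Fin k → (Fin n → F),
      LinearIndependent F w₀ ∧ ∀ i, w₀ i ∈ W := by
    have b := Module.finBasisOfFinrankEq F W hWk
    exact ⟨fun i => (b i : Fin n → F),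
      b.linearIndependent.map' W.subtype (Submodule.ker_subtype W), fun i => (b i).2⟩
  rw [card_su_stab hF hn hk W hWk hW, card_gu_stab_eq hF W hWk hW w₀ hw₀ hw₀W,
    card_gu_fix_ti hF hk w₀ hw₀ (fun i j => hW _ (hw₀W i) _ (hw₀W j))]
  ring

/-! ### counting totally isotropic subspaces -/

theorem card_uframes_zero :
    Nat.card {w : Fin 0 → (Fin n → F) //
      LinearIndependent F w ∧ ∀ i j, Cfsg.hermForm n F q (w i) (w j) = 0} = 1 := by
  have : Subsingleton {w : Fin 0 → (Fin n → F) //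
      LinearIndependent F w ∧ ∀ i j, Cfsg.hermForm n F q (w i) (w j) = 0} :=
    ⟨fun a b => Subtype.ext (Subsingleton.elim _ _)⟩
  exact Nat.card_of_subsingleton (⟨fun i => i.elim0, linearIndependent_empty_type,
    fun i => i.elim0⟩ : {w : Fin 0 → (Fin n → F) //
      LinearIndependent F w ∧ ∀ i j, Cfsg.hermForm n F q (w i) (w j) = 0})

theorem card_ti_subspaces (hF : Fintype.card F = q ^ 2) (k : ℕ) :
    Nat.card {W : Submodule F (Fin n → F) // Module.finrank F W = k
        ∧ ∀ u ∈ W, ∀ v ∈ W, Cfsg.hermForm n F q u v = 0}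
      * (∏ i : Fin k, ((q ^ 2) ^ k - (q ^ 2) ^ (i : ℕ)))
    = Nat.card {w : Fin k → (Fin n → F) //
        LinearIndependent F w ∧ ∀ i j, Cfsg.hermForm n F q (w i) (w j) = 0} := by
  classical
  obtain ⟨φ, hφ⟩ : ∃ φ : {w : Fin k → (Fin n → F) //
        LinearIndependent F w ∧ ∀ i j, Cfsg.hermForm n F q (w i) (w j) = 0}
      → {W : Submodule F (Fin n → F) // Module.finrank F W = k
        ∧ ∀ u ∈ W, ∀ v ∈ W, Cfsg.hermForm n F q u v = 0},
      ∀ w, (φ w).1 = Submodule.span F (Set.range w.1) :=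
    ⟨fun w => ⟨Submodule.span F (Set.range w.1),
      by rw [finrank_span_eq_card w.2.1, Fintype.card_fin],
      herm_ti_span hF w.1 w.2.2⟩, fun w => rfl⟩
  have hfib : ∀ W, Nat.card {w // φ w = W}
      = ∏ i : Fin k, ((q ^ 2) ^ k - (q ^ 2) ^ (i : ℕ)) := by
    intro W
    have h1 := card_linearIndependent (K := F) (V := W.1) (k := k) (le_of_eq W.2.1.symm)
    rw [W.2.1, hF] at h1
    refine (Nat.card_congr ?_).trans h1
    refine { toFun := fun w => ⟨fun i => ⟨w.1.1 i, ?_⟩, ?_⟩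
             invFun := fun b => ⟨⟨fun i => (b.1 i : Fin n → F), ?_, ?_⟩, ?_⟩
             left_inv := fun w => rfl
             right_inv := fun b => rfl }
    · have h2 := congrArg Subtype.val w.2
      rw [hφ] at h2
      rw [← h2]
      exact Submodule.subset_span ⟨i, rfl⟩
    · apply LinearIndependent.of_comp W.1.subtype
      exact w.1.2.1
    · exact b.2.map' W.1.subtype (Submodule.ker_subtype W.1)
    · intro i j
      exact W.2.2 _ (b.1 i).2 _ (b.1 j).2
    · apply Subtype.ext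
      rw [hφ]
      apply Submodule.eq_of_le_of_finrank_eq
      · rw [Submodule.span_le]
        rintro _ ⟨i, rfl⟩
        exact (b.1 i).2
      · have hb' : LinearIndependent F (fun i => (b.1 i : Fin n → F)) :=
          b.2.map' W.1.subtype (Submodule.ker_subtype W.1)
        show Module.finrank F ↥(Submodule.span F (Set.range (fun i => (b.1 i : Fin n → F)))) = _
        rw [finrank_span_eq_card hb', Fintype.card_fin, W.2.1]
  rw [card_fiber_count φ _ hfib]

end UFrames

end Cfsg.Agent.Lib.helper4
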