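import Mathlib

set_option autoImplicit false
set_option linter.unusedSectionVars false

/-!
# Self-dual modules in coprime characteristic: symplectic plus orthogonal decomposition
-/

namespace Cfsg.Agent.Lib.helper4

section SDD

variable {F : Type*} [Field F] {G : Type*} [Group G] {V : Type*} [AddCommGroup V] [Module F V]

/-- invariance and nondegeneracy of a bilinear form on a subspace. -/
def FormOn (ρ : Representation F G V) (U : Submodule F V) (A : LinearMap.BilinForm F V) : Prop :=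
  (∀ g : G, ∀ x ∈ U, ∀ y ∈ U, A (ρ g x) (ρ g y) = A x y) ∧
    (∀ x ∈ U, (∀ y ∈ U, A x y = 0) → x = 0)

/-- `X` is the direct sum of an invariant subspace of symplectic type and one of orthogonal
type. -/
def GoodFor (p : ℕ) (ρ : Representation F G V) (X : Submodule F V) : Prop :=
  ∃ U W : Submodule F V, Disjoint U W ∧ U ⊔ W = X ∧ (∀ g : G, ∀ u ∈ U, ρ g u ∈ U) ∧
    (∀ g : G, ∀ w ∈ W, ρ g w ∈ W) ∧
    (∃ A : LinearMap.BilinForm F V, (∀ x : V, A x x = 0) ∧ FormOn ρ U A) ∧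
    (∃ S : LinearMap.BilinForm F V, (∀ x y : V, S x y = S y x) ∧ FormOn ρ W S) ∧
    (p = 2 → ∀ g : G, ∀ w ∈ W, ρ g w = w)

/-- the left perp of a subspace. -/
def perpL (B : LinearMap.BilinForm F V) (M : Submodule F V) : Submodule F V where
  carrier := {x | ∀ m ∈ M, B x m = 0}
  add_mem' := fun {a b} ha hb m hm => by
    rw [map_add, LinearMap.add_apply, ha m hm, hb m hm, add_zero]
  zero_mem' := fun m _ => by rw [map_zero, LinearMap.zero_apply]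
  smul_mem' := fun c x hx m hm => by rw [map_smul, LinearMap.smul_apply, hx m hm, smul_zero]

theorem mem_perpL (B : LinearMap.BilinForm F V) (M : Submodule F V) (x : V) :
    x ∈ perpL B M ↔ ∀ m ∈ M, B x m = 0 := Iff.rfl

theorem proj_pair (X₁ X₂ : Submodule F V) (h : Disjoint X₁ X₂) :
    ∃ π₁ π₂ : V →ₗ[F] V, (∀ x ∈ X₁, π₁ x = x ∧ π₂ x = 0) ∧ (∀ x ∈ X₂, π₁ x = 0 ∧ π₂ x = x) ∧
      (∀ v, π₁ v ∈ X₁) ∧ (∀ v, π₂ v ∈ X₂) := by
  obtain ⟨f, hf⟩ : ∃ f : (X₁ × X₂) →ₗ[F] V, ∀ a, f a = (a.1 : V) + (a.2 : V) :=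
    ⟨X₁.subtype.coprod X₂.subtype, fun a => rfl⟩
  have hker : LinearMap.ker f = ⊥ := by
    rw [LinearMap.ker_eq_bot']
    rintro ⟨a, b⟩ hab
    rw [hf] at hab
    simp only at hab
    have h1 : (a : V) = -(b : V) := eq_neg_of_add_eq_zero_left hab
    have h2 : (a : V) ∈ X₁ ⊓ X₂ := ⟨a.2, by rw [h1]; exact X₂.neg_mem b.2⟩
    rw [h.eq_bot, Submodule.mem_bot] at h2
    have h3 : (b : V) = 0 := by
      rw [h2, zero_add] at hab
      exact hab
    exact Prod.ext (Subtype.ext h2) (Subtype.ext h3)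
  obtain ⟨g, hg⟩ := LinearMap.exists_leftInverse_of_injective f hker
  have hg' : ∀ a, g (f a) = a := fun a => LinearMap.congr_fun hg a
  refine ⟨X₁.subtype ∘ₗ (LinearMap.fst F X₁ X₂) ∘ₗ g, X₂.subtype ∘ₗ (LinearMap.snd F X₁ X₂) ∘ₗ g,
    ?_, ?_, fun v => Submodule.coe_mem _, fun v => Submodule.coe_mem _⟩
  · intro x hx
    have h1 : f (⟨x, hx⟩, 0) = x := by
      rw [hf]
      simp
    have h2 := hg' (⟨x, hx⟩, 0)
    rw [h1] at h2
    simp [h2]
  · intro x hx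
    have h1 : f (0, ⟨x, hx⟩) = x := by
      rw [hf]
      simp
    have h2 := hg' (0, ⟨x, hx⟩)
    rw [h1] at h2
    simp [h2]

theorem dual_surj [FiniteDimensional F V] (B : LinearMap.BilinForm F V) (N : Submodule F V)
    (hN : ∀ x ∈ N, (∀ y ∈ N, B x y = 0) → x = 0) (ℓ : V →ₗ[F] F) :
    ∃ n₀ ∈ N, ∀ n ∈ N, B n₀ n = ℓ n := by
  obtain ⟨Φ, hΦ⟩ : ∃ Φ : N →ₗ[F] Module.Dual F N, ∀ a b, Φ a b = B a b :=
    ⟨B.domRestrict₁₂ N N, fun a b => rfl⟩
  have hinj : Function.Injective Φ := by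
    rw [← LinearMap.ker_eq_bot, LinearMap.ker_eq_bot']
    intro a ha
    apply Subtype.ext
    apply hN a a.2
    intro y hy
    have h1 := LinearMap.congr_fun ha ⟨y, hy⟩
    rw [hΦ] at h1
    exact h1
  have hsurj : Function.Surjective Φ :=
    (LinearMap.injective_iff_surjective_of_finrank_eq_finrank
      (Subspace.dual_finrank_eq (K := F) (V := N)).symm).mp hinj
  obtain ⟨a, ha⟩ := hsurj (ℓ ∘ₗ N.subtype)
  refine ⟨a, a.2, fun n hn => ?_⟩
  have h1 := LinearMap.congr_fun ha ⟨n, hn⟩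
  rw [hΦ] at h1
  exact h1

theorem split_perp [FiniteDimensional F V] (B : LinearMap.BilinForm F V) (X N : Submodule F V)
    (hNX : N ≤ X) (hN : ∀ x ∈ N, (∀ y ∈ N, B x y = 0) → x = 0) :
    Disjoint N (X ⊓ perpL B N) ∧ N ⊔ (X ⊓ perpL B N) = X ∧
      ((∀ x ∈ X, (∀ y ∈ X, B x y = 0) → x = 0) →
        ∀ x ∈ X ⊓ perpL B N, (∀ y ∈ X ⊓ perpL B N, B x y = 0) → x = 0) := by
  have hsup : N ⊔ (X ⊓ perpL B N) = X := by
    apply le_antisymm (sup_le hNX inf_le_left)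
    intro x hx
    obtain ⟨n₀, hn₀, hn₀'⟩ := dual_surj B N hN (B x)
    rw [Submodule.mem_sup]
    refine ⟨n₀, hn₀, x - n₀, ⟨X.sub_mem hx (hNX hn₀), fun n hn => ?_⟩, by abel⟩
    rw [map_sub, LinearMap.sub_apply, hn₀' n hn, sub_self]
  refine ⟨?_, hsup, ?_⟩
  · rw [Submodule.disjoint_def]
    rintro x hx ⟨-, hx2⟩
    exact hN x hx hx2
  · intro hX x hx hxy
    apply hX x hx.1
    intro z hz
    rw [← hsup, Submodule.mem_sup] at hz
    obtain ⟨n, hn, y, hy, rfl⟩ := hz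
    rw [map_add, hx.2 n hn, hxy y hy, add_zero]

theorem maschke_compl [Finite G] (ρ : Representation F G V) (hcard : (Nat.card G : F) ≠ 0)
    (X Y : Submodule F V) (hX : ∀ g : G, ∀ x ∈ X, ρ g x ∈ X)
    (hY : ∀ g : G, ∀ x ∈ Y, ρ g x ∈ Y) (hYX : Y ≤ X) :
    ∃ C : Submodule F V, C ≤ X ∧ (∀ g : G, ∀ x ∈ C, ρ g x ∈ C) ∧ Disjoint Y C ∧ Y ⊔ C = X := by
  classical
  haveI : Fintype G := Fintype.ofFinite G
  obtain ⟨π₀, π₀', hπ₀, -, hπ₀Y, -⟩ := proj_pair Y ⊥ disjoint_bot_right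
  obtain ⟨π, hπ⟩ : ∃ π : V →ₗ[F] V,
      π = (Nat.card G : F)⁻¹ • ∑ g : G, (ρ g) ∘ₗ π₀ ∘ₗ (ρ g⁻¹) := ⟨_, rfl⟩
  have hπv : ∀ v, π v = (Nat.card G : F)⁻¹ • ∑ g : G, ρ g (π₀ (ρ g⁻¹ v)) := by
    intro v
    rw [hπ, LinearMap.smul_apply, LinearMap.sum_apply]
    rfl
  have hπY : ∀ v, π v ∈ Y := by
    intro v
    rw [hπv]
    exact Y.smul_mem _ (Y.sum_mem (fun g _ => hY g _ (hπ₀Y _)))
  have hρρ : ∀ (a b : G) (v : V), ρ a (ρ b v) = ρ (a * b) v := by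
    intro a b v
    rw [map_mul]
    rfl
  have hπfix : ∀ y ∈ Y, π y = y := by
    intro y hy
    rw [hπv]
    have h1 : ∀ g : G, ρ g (π₀ (ρ g⁻¹ y)) = y := by
      intro g
      rw [(hπ₀ _ (hY g⁻¹ y hy)).1, hρρ, mul_inv_cancel, map_one]
      rfl
    rw [Finset.sum_congr rfl (fun g _ => h1 g), Finset.sum_const, Finset.card_univ,
      ← Nat.card_eq_fintype_card, ← Nat.cast_smul_eq_nsmul F, smul_smul, inv_mul_cancel₀ hcard,
      one_smul]
  have hπcomm : ∀ (h : G) v, π (ρ h v) = ρ h (π v) := by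
    intro h v
    rw [hπv, hπv, map_smul, map_sum]
    congr 1
    apply Fintype.sum_equiv (Equiv.mulLeft h⁻¹)
    intro g
    simp only [Equiv.coe_mulLeft]
    rw [hρρ h, mul_inv_cancel_left, hρρ, mul_inv_rev, inv_inv]
  refine ⟨X ⊓ LinearMap.ker π, inf_le_left, ?_, ?_, ?_⟩
  · intro g x hx
    rw [Submodule.mem_inf, LinearMap.mem_ker] at hx ⊢
    refine ⟨hX g x hx.1, ?_⟩
    rw [hπcomm, hx.2, map_zero]
  · rw [Submodule.disjoint_def]
    intro y hy hy2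
    rw [Submodule.mem_inf, LinearMap.mem_ker, hπfix y hy] at hy2
    exact hy2.2
  · apply le_antisymm (sup_le hYX inf_le_left)
    intro x hx
    rw [Submodule.mem_sup]
    refine ⟨π x, hπY x, x - π x, ?_, by abel⟩
    rw [Submodule.mem_inf, LinearMap.mem_ker, map_sub, hπfix _ (hπY x), sub_self]
    exact ⟨X.sub_mem hx (hYX (hπY x)), rfl⟩

end SDD

end Cfsg.Agent.Lib.helper4
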