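import Mathlib
import Cfsg.Prelude.Def_GeometricClasses
import Cfsg.Agent.Lib.helper2.SLCard
import Cfsg.Agent.Lib.helper4.Singer7

/-!
# Singer cycle normalisers in dimension three: elements of order three, bad cases
-/

namespace Cfsg.Agent.Lib.helper4.Singer

open Matrix Polynomial

universe u

variable {F : Type u} [Field F]

theorem bad3_char3 (h3 : (3 : F) = 0) (K : Subalgebra F (Matrix (Fin 3) (Fin 3) F))
    (hK : Cfsg.Geo.IsFieldSubalgebra 3 K) :
    ∃ x : SpecialLinearGroup (Fin 3) F,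
      ((x ^ 3 : SpecialLinearGroup (Fin 3) F) : Matrix (Fin 3) (Fin 3) F)
        = (1 : F) • (1 : Matrix (Fin 3) (Fin 3) F) ∧
      (∀ z : F, (x : Matrix (Fin 3) (Fin 3) F) ≠ z • (1 : Matrix (Fin 3) (Fin 3) F)) ∧
      ∀ P : SpecialLinearGroup (Fin 3) F, P⁻¹ * x * P
        ∉ (Cfsg.Geo.subalgebraNormalizer K).comap
          (SpecialLinearGroup.toGL : SpecialLinearGroup (Fin 3) F →* GL (Fin 3) F) := by
  classical
  obtain ⟨X, hX⟩ : ∃ X : Matrix (Fin 3) (Fin 3) F, X = Matrix.transvection 0 1 (1 : F) :=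
    ⟨_, rfl⟩
  have hdet : X.det = 1 := by rw [hX]; exact Matrix.det_transvection_of_ne _ _ (by decide) _
  have hX3 : X ^ 3 = 1 := by
    rw [hX, pow_succ, pow_two, Matrix.transvection_mul_transvection_same _ _ (by decide),
      Matrix.transvection_mul_transvection_same _ _ (by decide)]
    have : (1 : F) + 1 + 1 = 0 := by linear_combination h3
    rw [this, Matrix.transvection_zero]
  have hX01 : X 0 1 = 1 := by
    rw [hX]; simp [Matrix.transvection, Matrix.single]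
  have hfix0 : X *ᵥ Pi.single 0 1 = (1 : F) • Pi.single 0 1 := by
    rw [one_smul, mulVec_single_one]
    funext i
    fin_cases i <;> simp [hX, Matrix.transvection, Matrix.single, Matrix.one_apply]
  have hfix2 : X *ᵥ Pi.single 2 1 = (1 : F) • Pi.single 2 1 := by
    rw [one_smul, mulVec_single_one]
    funext i
    fin_cases i <;> simp [hX, Matrix.transvection, Matrix.single, Matrix.one_apply]
  obtain ⟨x, hx⟩ : ∃ x : SpecialLinearGroup (Fin 3) F,
      (x : Matrix (Fin 3) (Fin 3) F) = X := ⟨⟨X, hdet⟩, rfl⟩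
  refine ⟨x, ?_, ?_, ?_⟩
  · have e0 : ((x ^ 3 : SpecialLinearGroup (Fin 3) F) : Matrix (Fin 3) (Fin 3) F) = X ^ 3 := by
      rw [← hx]; rfl
    rw [e0, hX3, one_smul]
  · intro z hz
    rw [hx] at hz
    have e1 := congrFun (congrFun hz 0) 1
    rw [hX01] at e1
    simp at e1
  · apply bad_of_eig Nat.prime_three K hK x 1 one_ne_zero (Pi.single 0 1) (Pi.single 2 1)
      (by rw [hx]; exact hfix0) (by rw [hx]; exact hfix2) ?_ ?_ ?_
    · intro a ha
      have := congrFun ha 2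
      simp at this
    · intro h
      have := congrFun h 0
      simp at this
    · rw [hx, one_smul]
      intro h
      have := congrFun (congrFun h 0) 1
      rw [hX01] at this
      simp at this

theorem bad3_one [Fintype F] (hq : Fintype.card F % 9 = 1)
    (K : Subalgebra F (Matrix (Fin 3) (Fin 3) F)) (hK : Cfsg.Geo.IsFieldSubalgebra 3 K) :
    ∃ (x : SpecialLinearGroup (Fin 3) F) (z : F),
      ((x ^ 3 : SpecialLinearGroup (Fin 3) F) : Matrix (Fin 3) (Fin 3) F)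
        = z • (1 : Matrix (Fin 3) (Fin 3) F) ∧
      (∀ z : F, (x : Matrix (Fin 3) (Fin 3) F) ≠ z • (1 : Matrix (Fin 3) (Fin 3) F)) ∧
      ∀ P : SpecialLinearGroup (Fin 3) F, P⁻¹ * x * P
        ∉ (Cfsg.Geo.subalgebraNormalizer K).comap
          (SpecialLinearGroup.toGL : SpecialLinearGroup (Fin 3) F →* GL (Fin 3) F) := by
  classical
  have hq1 : 1 < Fintype.card F := Fintype.one_lt_card
  obtain ⟨g, hg⟩ := IsCyclic.exists_ofOrder_eq_natCard (α := Fˣ)
  rw [Nat.card_eq_fintype_card, Fintype.card_units] at hg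
  obtain ⟨m, hm⟩ : ∃ m, Fintype.card F - 1 = 9 * m := ⟨(Fintype.card F - 1) / 9, by omega⟩
  have hm0 : 0 < m := by omega
  obtain ⟨c, hc⟩ : ∃ c : Fˣ, c = g ^ m := ⟨_, rfl⟩
  have hc9 : c ^ 9 = 1 := by rw [hc, ← pow_mul, mul_comm, ← hm, ← hg, pow_orderOf_eq_one]
  have hc3 : c ^ 3 ≠ 1 := by
    rw [hc, ← pow_mul]
    apply pow_ne_one_of_lt_orderOf (by omega)
    rw [hg]; omega
  have hc9' : (c : F) ^ 9 = 1 := by rw [← Units.val_pow_eq_pow_val, hc9, Units.val_one]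
  have hc3' : (c : F) ^ 3 ≠ 1 := fun h =>
    hc3 (Units.ext (by rw [Units.val_pow_eq_pow_val, h, Units.val_one]))
  have hc0 : (c : F) ≠ 0 := c.ne_zero
  have hcc : ((c : F) ^ 2)⁻¹ ≠ (c : F) := by
    intro h
    apply hc3'
    have h2 : (c : F) ^ 2 ≠ 0 := pow_ne_zero _ hc0
    calc (c : F) ^ 3 = (c : F) ^ 2 * (c : F) := by ring
      _ = (c : F) ^ 2 * ((c : F) ^ 2)⁻¹ := by rw [h]
      _ = 1 := mul_inv_cancel₀ h2
  obtain ⟨d, hd⟩ : ∃ d : Fin 3 → F, d = ![(c : F), (c : F), ((c : F) ^ 2)⁻¹] := ⟨_, rfl⟩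
  have hd0 : d 0 = (c : F) := by rw [hd]; rfl
  have hd1 : d 1 = (c : F) := by rw [hd]; rfl
  have hd2 : d 2 = ((c : F) ^ 2)⁻¹ := by rw [hd]; rfl
  obtain ⟨X, hX⟩ : ∃ X : Matrix (Fin 3) (Fin 3) F, X = diagonal d := ⟨_, rfl⟩
  have hdet : X.det = 1 := by
    rw [hX, det_diagonal, Fin.prod_univ_three, hd0, hd1, hd2, ← pow_two]
    exact mul_inv_cancel₀ (pow_ne_zero _ hc0)
  have hX3 : X ^ 3 = ((c : F) ^ 3) • (1 : Matrix (Fin 3) (Fin 3) F) := by
    rw [hX, diagonal_pow, ← diagonal_one, ← diagonal_smul]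
    congr 1
    funext i
    have key : (((c : F) ^ 2)⁻¹) ^ 3 = (c : F) ^ 3 := by
      have h6 : ((c : F) ^ 2) ^ 3 ≠ 0 := pow_ne_zero _ (pow_ne_zero _ hc0)
      rw [inv_pow]
      apply mul_right_cancel₀ h6
      rw [inv_mul_cancel₀ h6, ← pow_mul, ← pow_add]
      exact hc9'.symm
    fin_cases i
    · show d 0 ^ 3 = (c : F) ^ 3 • (1 : F)
      rw [hd0, smul_eq_mul, mul_one]
    · show d 1 ^ 3 = (c : F) ^ 3 • (1 : F)
      rw [hd1, smul_eq_mul, mul_one]
    · show d 2 ^ 3 = (c : F) ^ 3 • (1 : F)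
      rw [hd2, smul_eq_mul, mul_one, key]
  have hfix0 : X *ᵥ Pi.single 0 1 = (c : F) • Pi.single 0 1 := by
    rw [hX, diagonal_mulVec_single, hd0, mul_one]
    funext i
    fin_cases i <;> simp
  have hfix1 : X *ᵥ Pi.single 1 1 = (c : F) • Pi.single 1 1 := by
    rw [hX, diagonal_mulVec_single, hd1, mul_one]
    funext i
    fin_cases i <;> simp
  obtain ⟨x, hx⟩ : ∃ x : SpecialLinearGroup (Fin 3) F,
      (x : Matrix (Fin 3) (Fin 3) F) = X := ⟨⟨X, hdet⟩, rfl⟩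
  have hX22 : X 2 2 = ((c : F) ^ 2)⁻¹ := by rw [hX, diagonal_apply_eq, hd2]
  have hX00 : X 0 0 = (c : F) := by rw [hX, diagonal_apply_eq, hd0]
  refine ⟨x, (c : F) ^ 3, ?_, ?_, ?_⟩
  · have e0 : ((x ^ 3 : SpecialLinearGroup (Fin 3) F) : Matrix (Fin 3) (Fin 3) F) = X ^ 3 := by
      rw [← hx]; rfl
    rw [e0, hX3]
  · intro z hz
    rw [hx] at hz
    have e0 := congrFun (congrFun hz 0) 0
    have e2 := congrFun (congrFun hz 2) 2
    rw [hX00, Matrix.smul_apply, Matrix.one_apply_eq, smul_eq_mul, mul_one] at e0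
    rw [hX22, Matrix.smul_apply, Matrix.one_apply_eq, smul_eq_mul, mul_one] at e2
    exact hcc (by rw [e2, e0])
  · apply bad_of_eig Nat.prime_three K hK x (c : F) hc0 (Pi.single 0 1) (Pi.single 1 1)
      (by rw [hx]; exact hfix0) (by rw [hx]; exact hfix1) ?_ ?_ ?_
    · intro a ha
      have := congrFun ha 1
      simp at this
    · intro h
      have := congrFun h 0
      simp at this
    · rw [hx]
      intro h
      have e2 := congrFun (congrFun h 2) 2
      rw [hX22, Matrix.smul_apply, Matrix.one_apply_eq, smul_eq_mul, mul_one] at e2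
      exact hcc e2

theorem count3 [Fintype F] {p : ℕ} [Fact p.Prime] [CharP F p]
    (hq : Fintype.card F % 9 = 2 ∨ Fintype.card F % 9 = 5)
    (K : Subalgebra F (Matrix (Fin 3) (Fin 3) F)) (hK : Cfsg.Geo.IsFieldSubalgebra 3 K) :
    ¬ (3 ∣ ((Cfsg.Geo.subalgebraNormalizer K).comap
          (SpecialLinearGroup.toGL : SpecialLinearGroup (Fin 3) F →* GL (Fin 3) F)).index) := by
  classical
  intro hdvd
  haveI : Fact (Nat.Prime 3) := ⟨Nat.prime_three⟩
  have hq1 : 1 < Fintype.card F := Fintype.one_lt_card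
  obtain ⟨S, hSN, hS3, hS1⟩ := exists_frob Nat.prime_three K hK
  have hdetS : (S : Matrix (Fin 3) (Fin 3) F).det = 1 := by
    have h1 : (S : Matrix (Fin 3) (Fin 3) F).det ^ 3 = 1 := by rw [← det_pow, hS3, det_one]
    have h0 : (S : Matrix (Fin 3) (Fin 3) F).det ≠ 0 := by
      intro h
      rw [h, zero_pow (by norm_num)] at h1
      exact zero_ne_one h1
    have h2 := FiniteField.pow_card_sub_one_eq_one _ h0
    obtain ⟨m, hm⟩ : ∃ m, Fintype.card F - 1 = 3 * m + 1 :=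
      ⟨(Fintype.card F - 1) / 3, by omega⟩
    rw [hm, pow_succ, pow_mul, h1, one_pow, one_mul] at h2
    exact h2
  obtain ⟨s, hs⟩ : ∃ s : SpecialLinearGroup (Fin 3) F,
      (s : Matrix (Fin 3) (Fin 3) F) = (S : Matrix (Fin 3) (Fin 3) F) := ⟨⟨_, hdetS⟩, rfl⟩
  have hsG : SpecialLinearGroup.toGL s = S := Units.ext (by rw [← hs]; rfl)
  obtain ⟨H, hH⟩ : ∃ H : Subgroup (SpecialLinearGroup (Fin 3) F),
      H = (Cfsg.Geo.subalgebraNormalizer K).comap
          (SpecialLinearGroup.toGL : SpecialLinearGroup (Fin 3) F →* GL (Fin 3) F) := ⟨_, rfl⟩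
  rw [← hH] at hdvd
  have hsH : s ∈ H := by rw [hH, Subgroup.mem_comap, hsG]; exact hSN
  have hs3 : s ^ 3 = 1 := by
    apply Subtype.ext
    have e0 : ((s ^ 3 : SpecialLinearGroup (Fin 3) F) : Matrix (Fin 3) (Fin 3) F)
        = (s : Matrix (Fin 3) (Fin 3) F) ^ 3 := rfl
    rw [e0, hs, hS3]; rfl
  have hs1 : s ≠ 1 := by
    intro h
    apply hS1
    rw [← hs, h]; rfl
  have hord : orderOf s = 3 := orderOf_eq_prime hs3 hs1
  have h3H : 3 ∣ Nat.card H := by
    have h1 : orderOf (⟨s, hsH⟩ : H) = 3 := (Subgroup.orderOf_mk s hsH).trans hord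
    have h2 := orderOf_dvd_natCard (⟨s, hsH⟩ : H)
    rw [h1] at h2
    exact h2
  have hmul := H.card_mul_index
  have h9 : 9 ∣ Nat.card (SpecialLinearGroup (Fin 3) F) := by
    rw [← hmul]; exact mul_dvd_mul h3H hdvd
  have hSL := Cfsg.Agent.Lib.helper2.SLCard.card_SL F 3 (by norm_num)
  rw [Fin.prod_univ_three] at hSL
  simp only [Fin.val_zero, Fin.val_one, Fin.val_two, pow_zero, pow_one] at hSL
  obtain ⟨Q, hQ⟩ : ∃ Q : ℕ, Q = Fintype.card F := ⟨_, rfl⟩
  rw [← hQ] at hSL hq hq1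
  have h9' : 9 ∣ (Q ^ 3 - 1) * (Q ^ 3 - Q) * (Q ^ 3 - Q ^ 2) := by
    rw [← hSL]; exact Dvd.dvd.mul_left h9 _
  have hle1 : 1 ≤ Q ^ 3 := Nat.one_le_pow _ _ (by omega)
  have hle2 : Q ≤ Q ^ 3 := Nat.le_self_pow (by norm_num) Q
  have hle3 : Q ^ 2 ≤ Q ^ 3 := Nat.pow_le_pow_right (by omega) (by norm_num)
  have hz := (ZMod.natCast_eq_zero_iff _ 9).mpr h9'
  rw [Nat.cast_mul, Nat.cast_mul, Nat.cast_sub hle1, Nat.cast_sub hle2, Nat.cast_sub hle3,
    Nat.cast_pow, Nat.cast_pow, Nat.cast_one] at hz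
  rcases hq with hq | hq
  · have hQ9 : (Q : ZMod 9) = 2 := by
      rw [← ZMod.natCast_mod, hq]; rfl
    rw [hQ9] at hz
    revert hz
    decide
  · have hQ9 : (Q : ZMod 9) = 5 := by
      rw [← ZMod.natCast_mod, hq]; rfl
    rw [hQ9] at hz
    revert hz
    decide

end Cfsg.Agent.Lib.helper4.Singer
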