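import Mathlib
import Cfsg.Agent.Lib.helper4.SpTv
import Cfsg.Agent.S0751
import Cfsg.Prelude.Def_GeometricClasses

set_option autoImplicit false

/-!
# Maximality of the stabiliser of a totally isotropic subspace in `Sp_2m(F)`
-/

namespace Cfsg.Agent.Lib.helper4

open Matrix
open Cfsg.Agent.S0776 Cfsg.Agent.S0766 Cfsg.Agent.S0765

section SpMax

variable {F : Type*} [Field F] {m : ℕ}

theorem stab_of_inj_le {ι : Type*} [Fintype ι] [DecidableEq ι] (W : Submodule F (ι → F))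
    (M : Matrix ι ι F) (hinj : Function.Injective M.mulVec) (hg : ∀ w ∈ W, M *ᵥ w ∈ W) :
    ∀ v, v ∈ W ↔ M *ᵥ v ∈ W := by
  have hmap : Submodule.map (Matrix.mulVecLin M) W = W := by
    apply Submodule.eq_of_le_of_finrank_eq
    · rintro _ ⟨w, hw, rfl⟩
      exact hg w hw
    · exact (LinearEquiv.finrank_eq (Submodule.equivMapOfInjective (Matrix.mulVecLin M) hinj W)).symm
  intro v
  constructor
  · exact hg v
  · intro hv
    rw [← hmap] at hv
    obtain ⟨v', hv', hv'v⟩ := hv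
    have h1 : v' = v := hinj hv'v
    rw [← h1]
    exact hv'

theorem sp_tv_stab (W : Submodule F (Fin m ⊕ Fin m → F)) (u : Fin m ⊕ Fin m → F)
    (hu : ∀ w ∈ W, Cfsg.sympForm m F w u = 0) (c : F) :
    ∀ v, v ∈ W ↔
      ((tv u c : Matrix.symplecticGroup (Fin m) F) : Matrix (Fin m ⊕ Fin m) (Fin m ⊕ Fin m) F)
        *ᵥ v ∈ W := by
  apply stab_of_inj_le W _ (fun x y h => mulVec_injective (tv u c) x y h)
  intro w hw
  rw [tv_val, tv_apply, hu w hw, mul_zero, zero_smul, add_zero]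
  exact hw

theorem sp_exists_common (W : Submodule F (Fin m ⊕ Fin m → F)) (x x' : Fin m ⊕ Fin m → F)
    (hx : ∃ w ∈ W, Cfsg.sympForm m F w x ≠ 0) (hx' : ∃ w ∈ W, Cfsg.sympForm m F w x' ≠ 0) :
    ∃ w ∈ W, Cfsg.sympForm m F w x ≠ 0 ∧ Cfsg.sympForm m F w x' ≠ 0 := by
  obtain ⟨w₁, hw₁, h1⟩ := hx
  obtain ⟨w₂, hw₂, h2⟩ := hx'
  by_cases h3 : Cfsg.sympForm m F w₁ x' = 0
  · by_cases h4 : Cfsg.sympForm m F w₂ x = 0
    · refine ⟨w₁ + w₂, W.add_mem hw₁ hw₂, ?_, ?_⟩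
      · rw [sf_add_left, h4, add_zero]; exact h1
      · rw [sf_add_left, h3, zero_add]; exact h2
    · exact ⟨w₂, hw₂, h4, h2⟩
  · exact ⟨w₁, hw₁, h1, h3⟩

/-- the stabiliser of a totally isotropic `W` is transitive on the vectors outside `W^⊥`. -/
theorem sp_stab_trans (W : Submodule F (Fin m ⊕ Fin m → F))
    (hW : ∀ u ∈ W, ∀ v ∈ W, Cfsg.sympForm m F u v = 0)
    (x x' : Fin m ⊕ Fin m → F)
    (hx : ∃ w ∈ W, Cfsg.sympForm m F w x ≠ 0) (hx' : ∃ w ∈ W, Cfsg.sympForm m F w x' ≠ 0) :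
    ∃ A : Matrix.symplecticGroup (Fin m) F,
      (∀ v, v ∈ W ↔ (A : Matrix (Fin m ⊕ Fin m) (Fin m ⊕ Fin m) F) *ᵥ v ∈ W) ∧
      (A : Matrix (Fin m ⊕ Fin m) (Fin m ⊕ Fin m) F) *ᵥ x = x' := by
  classical
  obtain ⟨w, hwW, hwx, hwx'⟩ := sp_exists_common W x x' hx hx'
  have hxW : x ∉ W := fun h => hwx (hW w hwW x h)
  have hx'W : x' ∉ W := fun h => hwx' (hW w hwW x' h)
  obtain ⟨k, hk⟩ : ∃ k, Module.finrank F W = k := ⟨_, rfl⟩
  have b := Module.finBasisOfFinrankEq F W hk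
  obtain ⟨bv, hbv⟩ : ∃ bv : Fin k → (Fin m ⊕ Fin m → F), ∀ i, bv i = (b i : Fin m ⊕ Fin m → F) :=
    ⟨fun i => (b i : Fin m ⊕ Fin m → F), fun i => rfl⟩
  have hbW : ∀ i, bv i ∈ W := fun i => by rw [hbv]; exact (b i).2
  have hbLI : LinearIndependent F bv := by
    have h1 := b.linearIndependent.map' W.subtype (Submodule.ker_subtype W)
    have h2 : (⇑W.subtype ∘ ⇑b) = bv := by
      funext i
      rw [hbv]
      rfl
    rw [h2] at h1
    exact h1
  have hbspan : Submodule.span F (Set.range bv) = W := by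
    apply Submodule.eq_of_le_of_finrank_eq
      (Submodule.span_le.mpr (by rintro _ ⟨i, rfl⟩; exact hbW i))
    rw [finrank_span_eq_card hbLI, hk, Fintype.card_fin]
  obtain ⟨TL, hTL⟩ : ∃ TL : (Fin m ⊕ Fin m → F) →ₗ[F] (Fin m ⊕ Fin m → F), ∀ v, TL v
      = v + ((Cfsg.sympForm m F w x')⁻¹ * (Cfsg.sympForm m F v x - Cfsg.sympForm m F v x')) • w :=
    ⟨{ toFun := fun v => v + ((Cfsg.sympForm m F w x')⁻¹
          * (Cfsg.sympForm m F v x - Cfsg.sympForm m F v x')) • w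
       map_add' := fun a b => by
         rw [sf_add_left, sf_add_left]
         module
       map_smul' := fun r a => by
         rw [sf_smul_left, sf_smul_left]
         simp only [RingHom.id_apply]
         module }, fun v => rfl⟩
  have hT1 : ∀ v ∈ W, TL v ∈ W := by
    intro v hv
    rw [hTL]
    exact W.add_mem hv (W.smul_mem _ hwW)
  have hT2 : ∀ v, Cfsg.sympForm m F (TL v) x' = Cfsg.sympForm m F v x := by
    intro v
    rw [hTL, sf_add_left, sf_smul_left]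
    field_simp
    ring
  have hker : LinearMap.ker TL = ⊥ := by
    rw [LinearMap.ker_eq_bot']
    intro v hv
    have h1 : Cfsg.sympForm m F v x = 0 := by
      rw [← hT2, hv]
      have := sf_smul_left (0 : F) (0 : Fin m ⊕ Fin m → F) x'
      rw [zero_smul, zero_mul] at this
      exact this
    have h2 : Cfsg.sympForm m F (TL v) x = Cfsg.sympForm m F (0 : Fin m ⊕ Fin m → F) x := by
      rw [hv]
    rw [hTL, sf_add_left, sf_smul_left, h1] at h2
    have h0 : Cfsg.sympForm m F (0 : Fin m ⊕ Fin m → F) x = 0 := by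
      have := sf_smul_left (0 : F) (0 : Fin m ⊕ Fin m → F) x
      rw [zero_smul, zero_mul] at this
      exact this
    rw [h0, zero_add] at h2
    have h3 : (Cfsg.sympForm m F w x')⁻¹ * (0 - Cfsg.sympForm m F v x') = 0 :=
      (mul_eq_zero.mp h2).resolve_right hwx
    have h4 := hv
    rw [hTL, h1, h3, zero_smul, add_zero] at h4
    exact h4
  have hTLI : LinearIndependent F (fun i => TL (bv i)) := by
    have h1 := hbLI.map' TL hker
    have h2 : (⇑TL ∘ bv) = fun i => TL (bv i) := rfl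
    rw [h2] at h1
    exact h1
  have hLI : LinearIndependent F (Fin.snoc bv x : Fin (k + 1) → (Fin m ⊕ Fin m → F)) := by
    rw [linearIndependent_finSnoc]
    refine ⟨hbLI, ?_⟩
    rw [hbspan]
    exact hxW
  have hLI' : LinearIndependent F
      (Fin.snoc (fun i => TL (bv i)) x' : Fin (k + 1) → (Fin m ⊕ Fin m → F)) := by
    rw [linearIndependent_finSnoc]
    refine ⟨hTLI, fun h => hx'W ?_⟩
    have hle : Submodule.span F (Set.range (fun i => TL (bv i))) ≤ W := by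
      rw [Submodule.span_le]
      rintro _ ⟨i, rfl⟩
      exact hT1 _ (hbW i)
    exact hle h
  obtain ⟨A, hA⟩ := witt_frames (Fin.snoc bv x : Fin (k + 1) → (Fin m ⊕ Fin m → F))
    (Fin.snoc (fun i => TL (bv i)) x') hLI hLI' (by
      intro i j
      induction i using Fin.lastCases with
      | last =>
        induction j using Fin.lastCases with
        | last =>
          rw [Fin.snoc_last, Fin.snoc_last, sf_self, sf_self]
        | cast j =>
          rw [Fin.snoc_last, Fin.snoc_castSucc, Fin.snoc_last, Fin.snoc_castSucc, sf_anti x',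
            hT2, sf_anti x]
      | cast i =>
        induction j using Fin.lastCases with
        | last =>
          rw [Fin.snoc_last, Fin.snoc_castSucc, Fin.snoc_last, Fin.snoc_castSucc, hT2]
        | cast j =>
          rw [Fin.snoc_castSucc, Fin.snoc_castSucc, Fin.snoc_castSucc, Fin.snoc_castSucc,
            hW _ (hT1 _ (hbW i)) _ (hT1 _ (hbW j)), hW _ (hbW i) _ (hbW j)])
  have hAb : ∀ i, (A : Matrix (Fin m ⊕ Fin m) (Fin m ⊕ Fin m) F) *ᵥ bv i = TL (bv i) := by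
    intro i
    have h1 := hA i.castSucc
    rw [Fin.snoc_castSucc, Fin.snoc_castSucc] at h1
    exact h1
  have hAx : (A : Matrix (Fin m ⊕ Fin m) (Fin m ⊕ Fin m) F) *ᵥ x = x' := by
    have h1 := hA (Fin.last k)
    rw [Fin.snoc_last, Fin.snoc_last] at h1
    exact h1
  refine ⟨A, ?_, hAx⟩
  apply stab_of_inj_le W _ (fun x y h => mulVec_injective A x y h)
  have hle : Submodule.span F (Set.range bv)
      ≤ Submodule.comap (Matrix.mulVecLin (A : Matrix (Fin m ⊕ Fin m) (Fin m ⊕ Fin m) F)) W := by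
    rw [Submodule.span_le]
    rintro _ ⟨i, rfl⟩
    show (A : Matrix (Fin m ⊕ Fin m) (Fin m ⊕ Fin m) F) *ᵥ bv i ∈ W
    rw [hAb]
    exact hT1 _ (hbW i)
  intro w' hw'
  rw [← hbspan] at hw'
  exact hle hw'

theorem sp_mulVec_inv (g : Matrix.symplecticGroup (Fin m) F) (x : Fin m ⊕ Fin m → F) :
    (g : Matrix (Fin m ⊕ Fin m) (Fin m ⊕ Fin m) F) *ᵥ
      (((g⁻¹ : Matrix.symplecticGroup (Fin m) F) : Matrix (Fin m ⊕ Fin m) (Fin m ⊕ Fin m) F) *ᵥ x)
      = x := by
  have h := inv_mulVec_mulVec g⁻¹ x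
  rw [inv_inv] at h
  exact h

theorem sp_exists_perp_moved (W : Submodule F (Fin m ⊕ Fin m → F))
    (g : Matrix.symplecticGroup (Fin m) F)
    (hg : ¬ ∀ v, v ∈ W ↔ (g : Matrix (Fin m ⊕ Fin m) (Fin m ⊕ Fin m) F) *ᵥ v ∈ W) :
    ∃ u₀ : Fin m ⊕ Fin m → F, (∀ w ∈ W, Cfsg.sympForm m F w u₀ = 0) ∧
      ∃ w ∈ W, Cfsg.sympForm m F w ((g : Matrix (Fin m ⊕ Fin m) (Fin m ⊕ Fin m) F) *ᵥ u₀) ≠ 0 := by
  classical
  obtain ⟨w, hwW, hw'⟩ : ∃ w ∈ W,
      ((g⁻¹ : Matrix.symplecticGroup (Fin m) F) : Matrix (Fin m ⊕ Fin m) (Fin m ⊕ Fin m) F) *ᵥ w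
        ∉ W := by
    by_contra hcon
    push Not at hcon
    have h1 := stab_of_inj_le W _ (fun x y h => mulVec_injective g⁻¹ x y h) hcon
    apply hg
    intro v
    have h2 := h1 ((g : Matrix (Fin m ⊕ Fin m) (Fin m ⊕ Fin m) F) *ᵥ v)
    rw [inv_mulVec_mulVec] at h2
    exact h2.symm
  obtain ⟨k, hk⟩ : ∃ k, Module.finrank F W = k := ⟨_, rfl⟩
  have b := Module.finBasisOfFinrankEq F W hk
  obtain ⟨bv, hbv⟩ : ∃ bv : Fin k → (Fin m ⊕ Fin m → F), ∀ i, bv i = (b i : Fin m ⊕ Fin m → F) :=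
    ⟨fun i => (b i : Fin m ⊕ Fin m → F), fun i => rfl⟩
  have hbW : ∀ i, bv i ∈ W := fun i => by rw [hbv]; exact (b i).2
  have hbLI : LinearIndependent F bv := by
    have h1 := b.linearIndependent.map' W.subtype (Submodule.ker_subtype W)
    have h2 : (⇑W.subtype ∘ ⇑b) = bv := by
      funext i
      rw [hbv]
      rfl
    rw [h2] at h1
    exact h1
  have hbspan : Submodule.span F (Set.range bv) = W := by
    apply Submodule.eq_of_le_of_finrank_eq
      (Submodule.span_le.mpr (by rintro _ ⟨i, rfl⟩; exact hbW i))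
    rw [finrank_span_eq_card hbLI, hk, Fintype.card_fin]
  have hLI : LinearIndependent F (Fin.snoc bv
      (((g⁻¹ : Matrix.symplecticGroup (Fin m) F) : Matrix (Fin m ⊕ Fin m) (Fin m ⊕ Fin m) F) *ᵥ w)
        : Fin (k + 1) → (Fin m ⊕ Fin m → F)) := by
    rw [linearIndependent_finSnoc]
    refine ⟨hbLI, ?_⟩
    rw [hbspan]
    exact hw'
  obtain ⟨u₀, hu₀⟩ := Cfsg.Agent.S0751.L_surj (RingHom.id F) (sB m F) (fun a => rfl) sB_nondeg _
    hLI (Fin.snoc (fun _ => 0) 1)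
  have h0 : ∀ i, Cfsg.sympForm m F (bv i) u₀ = 0 := by
    intro i
    have h1 := hu₀ i.castSucc
    rw [Fin.snoc_castSucc, Fin.snoc_castSucc, sB_apply] at h1
    exact h1
  have h1 : Cfsg.sympForm m F
      (((g⁻¹ : Matrix.symplecticGroup (Fin m) F) : Matrix (Fin m ⊕ Fin m) (Fin m ⊕ Fin m) F) *ᵥ w)
      u₀ = 1 := by
    have h2 := hu₀ (Fin.last k)
    rw [Fin.snoc_last, Fin.snoc_last, sB_apply] at h2
    exact h2
  refine ⟨u₀, ?_, w, hwW, ?_⟩
  · intro w'' hw''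
    rw [← hbspan] at hw''
    rw [← sB_apply]
    exact (orth_span bv u₀).mpr h0 w'' hw''
  · rw [← sp_mulVec_inv g w, sp_pres, h1]
    exact one_ne_zero

/-- a subgroup of `Sp_2m(F)` containing the stabiliser of a totally isotropic subspace `W` and an
element not stabilising `W` is everything. -/
theorem sp_parabolic_max (W : Submodule F (Fin m ⊕ Fin m → F))
    (hW : ∀ u ∈ W, ∀ v ∈ W, Cfsg.sympForm m F u v = 0)
    (H : Subgroup (Matrix.symplecticGroup (Fin m) F))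
    (hPH : ∀ A : Matrix.symplecticGroup (Fin m) F,
      (∀ v, v ∈ W ↔ (A : Matrix (Fin m ⊕ Fin m) (Fin m ⊕ Fin m) F) *ᵥ v ∈ W) → A ∈ H)
    (g : Matrix.symplecticGroup (Fin m) F) (hgH : g ∈ H)
    (hg : ¬ ∀ v, v ∈ W ↔ (g : Matrix (Fin m ⊕ Fin m) (Fin m ⊕ Fin m) F) *ᵥ v ∈ W) : H = ⊤ := by
  rw [eq_top_iff, ← Cfsg.Agent.S0765.result m, Subgroup.closure_le]
  rintro A ⟨z, c, hA⟩
  have hA' : A = tv z c := Subtype.ext hA
  rw [hA']
  show tv z c ∈ H
  by_cases hz : ∀ w ∈ W, Cfsg.sympForm m F w z = 0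
  · exact hPH _ (sp_tv_stab W z hz c)
  · push Not at hz
    obtain ⟨u₀, hu₀, hy⟩ := sp_exists_perp_moved W g hg
    have h1 : tv ((g : Matrix (Fin m ⊕ Fin m) (Fin m ⊕ Fin m) F) *ᵥ u₀) c ∈ H := by
      have h2 : tv ((g : Matrix (Fin m ⊕ Fin m) (Fin m ⊕ Fin m) F) *ᵥ u₀) c
          = g * tv u₀ c * g⁻¹ := by
        rw [tv_conj, mul_inv_cancel_right]
      rw [h2]
      exact H.mul_mem (H.mul_mem hgH (hPH _ (sp_tv_stab W u₀ hu₀ c))) (H.inv_mem hgH)
    obtain ⟨p, hpW, hpy⟩ := sp_stab_trans W hW _ z hy hz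
    have h3 : tv z c = p * tv ((g : Matrix (Fin m ⊕ Fin m) (Fin m ⊕ Fin m) F) *ᵥ u₀) c * p⁻¹ := by
      rw [tv_conj, mul_inv_cancel_right, hpy]
    rw [h3]
    exact H.mul_mem (H.mul_mem (hPH p hpW) h1) (H.inv_mem (hPH p hpW))

/-- the stabiliser of a nonzero totally isotropic subspace is a maximal subgroup of `Cfsg.spGL`. -/
theorem spGL_parabolic_max (W : Submodule F (Fin m ⊕ Fin m → F)) (hW0 : W ≠ ⊥)
    (hW : ∀ u ∈ W, ∀ v ∈ W, Cfsg.sympForm m F u v = 0) :
    Cfsg.Geo.IsMaximalIn (Cfsg.spGL m F) (Cfsg.Geo.subspaceStabilizer W ⊓ Cfsg.spGL m F) := by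
  classical
  have hmemP : ∀ A : Matrix.symplecticGroup (Fin m) F,
      ((spEquiv m F A : ↥(Cfsg.spGL m F)) : Matrix.GeneralLinearGroup (Fin m ⊕ Fin m) F)
        ∈ Cfsg.Geo.subspaceStabilizer W ⊓ Cfsg.spGL m F ↔
      ∀ v, v ∈ W ↔ (A : Matrix (Fin m ⊕ Fin m) (Fin m ⊕ Fin m) F) *ᵥ v ∈ W := by
    intro A
    constructor
    · intro h
      exact h.1
    · intro h
      exact ⟨h, (spEquiv m F A).2⟩
  refine ⟨lt_of_le_of_ne inf_le_right ?_, ?_⟩
  · intro heq
    obtain ⟨w₀, hw₀W, hw₀0⟩ := Submodule.exists_mem_ne_zero_of_ne_bot hW0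
    obtain ⟨x, hx⟩ := exists_sf_eq_one w₀ hw₀0
    have hxW : x ∉ W := by
      intro h
      rw [hW x h w₀ hw₀W] at hx
      exact zero_ne_one hx
    have hx0 : x ≠ 0 := by
      intro h
      apply hxW
      rw [h]
      exact W.zero_mem
    obtain ⟨A, hA⟩ := witt_frames (fun _ : Fin 1 => w₀) (fun _ : Fin 1 => x)
      (LinearIndependent.of_subsingleton (0 : Fin 1) hw₀0)
      (LinearIndependent.of_subsingleton (0 : Fin 1) hx0) (fun _ _ => by rw [sf_self, sf_self])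
    have h1 : ((spEquiv m F A : ↥(Cfsg.spGL m F)) : Matrix.GeneralLinearGroup (Fin m ⊕ Fin m) F)
        ∈ Cfsg.Geo.subspaceStabilizer W ⊓ Cfsg.spGL m F := by
      rw [heq]
      exact (spEquiv m F A).2
    have h2 := ((hmemP A).mp h1 w₀).mp hw₀W
    rw [hA 0] at h2
    exact hxW h2
  · intro M hPM hMS
    by_cases hMP : M ≤ Cfsg.Geo.subspaceStabilizer W ⊓ Cfsg.spGL m F
    · left
      exact le_antisymm hMP hPM
    · right
      obtain ⟨g₀, hg₀M, hg₀P⟩ := SetLike.not_le_iff_exists.mp hMP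
      have hkey := sp_parabolic_max W hW
        (M.comap ((Cfsg.spGL m F).subtype.comp (spEquiv m F).toMonoidHom))
        (fun A hA => hPM ((hmemP A).mpr hA))
        ((spEquiv m F).symm ⟨g₀, hMS hg₀M⟩) (by
          show ((spEquiv m F ((spEquiv m F).symm ⟨g₀, hMS hg₀M⟩) : ↥(Cfsg.spGL m F)) :
            Matrix.GeneralLinearGroup (Fin m ⊕ Fin m) F) ∈ M
          rw [MulEquiv.apply_symm_apply]
          exact hg₀M) (by
          intro h
          apply hg₀P
          have h1 := (hmemP ((spEquiv m F).symm ⟨g₀, hMS hg₀M⟩)).mpr h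
          rw [MulEquiv.apply_symm_apply] at h1
          exact h1)
      apply le_antisymm hMS
      intro g' hg'
      have h1 : (spEquiv m F).symm ⟨g', hg'⟩
          ∈ M.comap ((Cfsg.spGL m F).subtype.comp (spEquiv m F).toMonoidHom) := by
        rw [hkey]
        trivial
      have h2 : ((spEquiv m F ((spEquiv m F).symm ⟨g', hg'⟩) : ↥(Cfsg.spGL m F)) :
          Matrix.GeneralLinearGroup (Fin m ⊕ Fin m) F) ∈ M := h1
      rw [MulEquiv.apply_symm_apply] at h2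
      exact h2

end SpMax

end Cfsg.Agent.Lib.helper4
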