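import Mathlib
import Cfsg.Agent.Lib.helper4.UFrames

set_option autoImplicit false
set_option linter.unusedSectionVars false

/-!
# Rank one unitary matrices are transvections; conjugacy of transvections in `SU`
-/

namespace Cfsg.Agent.Lib.helper4

open Matrix

section URank

variable {F : Type*} [Field F] [Fintype F] {q : ℕ} {n : ℕ}

theorem exists_herm_eq_one (hF : Fintype.card F = q ^ 2) (x : Fin n → F) (hx : x ≠ 0) :
    ∃ u : Fin n → F, Cfsg.hermForm n F q u x = 1 := by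
  have hq := uq_ge_two hF
  obtain ⟨y, hy⟩ : ∃ y, Cfsg.hermForm n F q x y ≠ 0 := by
    by_contra hcon
    push Not at hcon
    exact hx (herm_nondeg hF x hcon)
  have hy' : Cfsg.hermForm n F q y x ≠ 0 := by
    rw [← herm_symm hF]
    exact pow_ne_zero _ hy
  exact ⟨(Cfsg.hermForm n F q y x)⁻¹ • y, by rw [herm_smul_left, inv_mul_cancel₀ hy']⟩

theorem exists_iso_ne_zero (hF : Fintype.card F = q ^ 2) (hn : 2 ≤ n) :
    ∃ x : Fin n → F, x ≠ 0 ∧ Cfsg.hermForm n F q x x = 0 := by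
  classical
  obtain ⟨θ, -, -, hθ, -⟩ := exists_norm_neg_one_pair hF
  refine ⟨Pi.single (⟨0, by omega⟩ : Fin n) 1 + θ • Pi.single (⟨1, by omega⟩ : Fin n) 1, ?_, ?_⟩
  · intro h
    have h1 := congrFun h (⟨0, by omega⟩ : Fin n)
    simp [Fin.ext_iff] at h1
  · rw [herm_add_left, herm_add_right hF, herm_add_right hF, herm_smul_left, herm_smul_left,
      herm_smul_right, herm_smul_right, herm_single_single hF, herm_single_single hF,
      herm_single_single hF, herm_single_single hF, if_pos rfl, if_pos rfl,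
      if_neg (by simp [Fin.ext_iff]), if_neg (by simp [Fin.ext_iff])]
    rw [unorm_eq] at hθ
    linear_combination hθ

/-- a form-preserving matrix `M` with `M - 1` of rank one is `x ↦ x + c h(x, v) v`. -/
theorem rank_one_unitary (hF : Fintype.card F = q ^ 2) (M : Matrix (Fin n) (Fin n) F)
    (hM : ∀ u v, Cfsg.hermForm n F q (M *ᵥ u) (M *ᵥ v) = Cfsg.hermForm n F q u v)
    (hr : (M - 1).rank = 1) :
    ∃ (x : Fin n → F) (c : F), x ≠ 0 ∧ c ≠ 0 ∧ M = Cfsg.unitaryTransvection n q x c := by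
  classical
  have hq := uq_ge_two hF
  have hr' : Module.finrank F (LinearMap.range (M - 1).mulVecLin) = 1 := hr
  obtain ⟨x', hx'0, hx'⟩ := finrank_eq_one_iff'.mp hr'
  obtain ⟨x, hx⟩ : ∃ x : Fin n → F, x = x'.1 := ⟨_, rfl⟩
  have hx0 : x ≠ 0 := by
    intro h
    apply hx'0
    apply Subtype.ext
    rw [← hx, h]
    rfl
  have hℓ : ∀ v : Fin n → F, ∃ a : F, M *ᵥ v = v + a • x := by
    intro v
    obtain ⟨a, ha⟩ := hx' ⟨(M - 1).mulVecLin v, LinearMap.mem_range_self _ v⟩
    refine ⟨a, ?_⟩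
    have h1 := congrArg Subtype.val ha
    simp only [Submodule.coe_smul, Matrix.mulVecLin_apply, Matrix.sub_mulVec,
      Matrix.one_mulVec] at h1
    rw [hx, h1]
    abel
  choose ℓ hℓ' using hℓ
  obtain ⟨u₀, hu₀⟩ := exists_herm_eq_one hF x hx0
  have hu₀' : Cfsg.hermForm n F q x u₀ = 1 := by rw [← herm_symm hF, hu₀, one_pow]
  have hkey0 : ∀ w, ℓ w ^ q * (1 + ℓ u₀ * Cfsg.hermForm n F q x x)
      + ℓ u₀ * Cfsg.hermForm n F q x w = 0 := by
    intro w
    have h1 := hM u₀ w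
    rw [hℓ' u₀, hℓ' w, herm_add_left, herm_add_right hF, herm_add_right hF, herm_smul_left,
      herm_smul_left, herm_smul_right, herm_smul_right, hu₀] at h1
    linear_combination h1
  have hD : 1 + ℓ u₀ * Cfsg.hermForm n F q x x ≠ 0 := by
    intro hD
    have h1 := hkey0 u₀
    rw [hD, mul_zero, zero_add, hu₀', mul_one] at h1
    rw [h1, zero_mul, add_zero] at hD
    exact one_ne_zero hD
  have hDq : (1 + ℓ u₀ * Cfsg.hermForm n F q x x) ^ q ≠ 0 := pow_ne_zero _ hD
  have hkey : ∀ w, ℓ w = (-(ℓ u₀ ^ q) / (1 + ℓ u₀ * Cfsg.hermForm n F q x x) ^ q)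
      * Cfsg.hermForm n F q w x := by
    intro w
    have h1 := congrArg (fun z => z ^ q) (hkey0 w)
    simp only [frob_add hF, mul_pow, frob_frob hF, herm_symm hF, zero_pow (show q ≠ 0 by omega),
      one_pow] at h1
    have hDq' : (1 + ℓ u₀ * Cfsg.hermForm n F q x x) ^ q
        = 1 + ℓ u₀ ^ q * Cfsg.hermForm n F q x x := by
      rw [frob_add hF, one_pow, mul_pow, herm_self_fixed hF]
    rw [hDq'] at hDq ⊢
    field_simp
    linear_combination h1
  refine ⟨x, -(ℓ u₀ ^ q) / (1 + ℓ u₀ * Cfsg.hermForm n F q x x) ^ q, hx0, ?_, ?_⟩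
  · intro h0
    have h1 : M = 1 := by
      apply Matrix.mulVec_injective
      funext v
      rw [hℓ' v, hkey v, h0, zero_mul, zero_smul, add_zero, Matrix.one_mulVec]
    rw [h1] at hr
    simp at hr
  · apply Matrix.mulVec_injective
    funext v
    rw [utv_mulVec, hℓ' v, hkey v]

theorem rank_utv_sub_one (hF : Fintype.card F = q ^ 2) (x : Fin n → F) (c : F) (hx : x ≠ 0)
    (hc : c ≠ 0) : (Cfsg.unitaryTransvection n q x c - 1).rank = 1 := by
  have h0 : Cfsg.unitaryTransvection n q x c - 1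
      = Matrix.vecMulVec (c • x) (fun j => x j ^ q) := by
    unfold Cfsg.unitaryTransvection
    rw [add_sub_cancel_left, Matrix.smul_vecMulVec]
  apply le_antisymm
  · rw [h0]
    exact Matrix.rank_vecMulVec_le _ _
  · rw [Nat.one_le_iff_ne_zero]
    intro h
    have h1 : LinearMap.range (Cfsg.unitaryTransvection n q x c - 1).mulVecLin = ⊥ :=
      Submodule.finrank_eq_zero.mp h
    have h2 := LinearMap.range_eq_bot.mp h1
    obtain ⟨u, hu⟩ := exists_herm_eq_one hF x hx
    have h3 := congrArg (fun f => f u) h2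
    simp only [Matrix.mulVecLin_apply, LinearMap.zero_apply, Matrix.sub_mulVec, Matrix.one_mulVec,
      utv_mulVec, hu, mul_one, add_sub_cancel_left] at h3
    exact hx ((smul_eq_zero.mp h3).resolve_left hc)

/-- an element of `SU` with `A - 1` of rank one is a unitary transvection. -/
theorem rank_one_su (hF : Fintype.card F = q ^ 2) (A : Cfsg.SU n F q)
    (hr : (suM A - 1).rank = 1) :
    ∃ (x : Fin n → F) (c : F), x ≠ 0 ∧ c ≠ 0 ∧ Cfsg.hermForm n F q x x = 0 ∧ c + c ^ q = 0 ∧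
      A = utvSU hF x c := by
  obtain ⟨x, c, hx0, hc0, hA⟩ := rank_one_unitary hF (suM A) (su_pres A) hr
  have hdet : (suM A).det = 1 := A.1.2
  have hxx : Cfsg.hermForm n F q x x = 0 := by
    rw [hA] at hdet
    unfold Cfsg.unitaryTransvection at hdet
    rw [rk1_det] at hdet
    have h1 : c * Cfsg.hermForm n F q x x = 0 := by linear_combination hdet
    exact (mul_eq_zero.mp h1).resolve_left hc0
  obtain ⟨hc, hA'⟩ := eq_utvSU hF A x c hx0 hxx hA
  exact ⟨x, c, hx0, hc0, hxx, hc, hA'⟩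

theorem rank_utvSU (hF : Fintype.card F = q ^ 2) (x : Fin n → F) (c : F) (hx0 : x ≠ 0)
    (hc0 : c ≠ 0) (hx : Cfsg.hermForm n F q x x = 0) (hc : c + c ^ q = 0) :
    (suM (utvSU hF x c) - 1).rank = 1 := by
  rw [utvSU_val hF x c hx hc]
  exact rank_utv_sub_one hF x c hx0 hc0

/-- any two unitary transvections of `SU_n`, `n ≥ 3`, are conjugate. -/
theorem su_tv_conj (hF : Fintype.card F = q ^ 2) (hn : 3 ≤ n) (a a' : Fin n → F) (c c' : F)
    (ha0 : a ≠ 0) (ha : Cfsg.hermForm n F q a a = 0) (hc0 : c ≠ 0) (hc : c + c ^ q = 0)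
    (ha'0 : a' ≠ 0) (ha' : Cfsg.hermForm n F q a' a' = 0) (hc'0 : c' ≠ 0)
    (hc' : c' + c' ^ q = 0) :
    ∃ g : Cfsg.SU n F q, g * utvSU hF a c * g⁻¹ = utvSU hF a' c' := by
  have hq := uq_ge_two hF
  have hfix : (c' / c) ^ q = c' / c := by
    have h1 : c ^ q = -c := by linear_combination hc
    have h2 : c' ^ q = -c' := by linear_combination hc'
    rw [div_pow, h1, h2, neg_div_neg_eq]
  obtain ⟨μ, hμ⟩ := unorm_surj hF (c' / c) hfix
  have hμ0 : μ ≠ 0 := by
    intro h
    rw [h, zero_pow (by omega)] at hμ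
    exact (div_ne_zero hc'0 hc0) hμ.symm
  have hμa' : Cfsg.hermForm n F q (μ • a') (μ • a') = 0 := by
    rw [herm_smul_left, herm_smul_right, ha']
    ring
  obtain ⟨b, hb, hab⟩ := exists_partner hF (by omega) a ha0 ha
  obtain ⟨b', hb', hab'⟩ := exists_partner hF (by omega) (μ • a') (smul_ne_zero hμ0 ha'0) hμa'
  obtain ⟨g, hga, -⟩ := su_trans_hyp hF hn a b (μ • a') b' ha hb hab hμa' hb' hab'
  refine ⟨g, ?_⟩
  rw [utvSU_conj hF g a c ha hc, mul_inv_cancel_right, hga, utvSU_smul hF a' μ c ha' hc, hμ]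
  congr 1
  field_simp

end URank

end Cfsg.Agent.Lib.helper4
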