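import Mathlib
import Cfsg.Agent.Lib.helper4.URank
import Cfsg.Agent.Lib.helper4.SpMax
import Cfsg.Prelude.Def_GeometricClasses

set_option autoImplicit false
set_option linter.unusedSectionVars false

/-!
# Maximality of the stabiliser of a totally isotropic subspace in `SU_n(q)`
-/

namespace Cfsg.Agent.Lib.helper4

open Matrix

section UMax

variable {F : Type*} [Field F] [Fintype F] {q : ℕ} {n : ℕ}

theorem suM_mulVec_injective (A : Cfsg.SU n F q) : Function.Injective (suM A).mulVec := by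
  intro x y h
  have h1 : suM A⁻¹ *ᵥ (suM A *ᵥ x) = suM A⁻¹ *ᵥ (suM A *ᵥ y) := congrArg _ h
  rw [suM_inv_mulVec, suM_inv_mulVec] at h1
  exact h1

theorem su_tv_stab (hF : Fintype.card F = q ^ 2) (W : Submodule F (Fin n → F)) (u : Fin n → F)
    (hu : ∀ w ∈ W, Cfsg.hermForm n F q w u = 0) (huu : Cfsg.hermForm n F q u u = 0) (c : F)
    (hc : c + c ^ q = 0) : ∀ v, v ∈ W ↔ suM (utvSU hF u c) *ᵥ v ∈ W := by
  apply stab_of_inj_le W _ (suM_mulVec_injective _)
  intro w hw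
  rw [utvSU_mulVec hF u c huu hc, hu w hw, mul_zero, zero_smul, add_zero]
  exact hw

theorem u_exists_common (W : Submodule F (Fin n → F)) (x x' : Fin n → F)
    (hx : ∃ w ∈ W, Cfsg.hermForm n F q w x ≠ 0) (hx' : ∃ w ∈ W, Cfsg.hermForm n F q w x' ≠ 0) :
    ∃ w ∈ W, Cfsg.hermForm n F q w x ≠ 0 ∧ Cfsg.hermForm n F q w x' ≠ 0 := by
  obtain ⟨w₁, hw₁, h1⟩ := hx
  obtain ⟨w₂, hw₂, h2⟩ := hx'
  by_cases h3 : Cfsg.hermForm n F q w₁ x' = 0
  · by_cases h4 : Cfsg.hermForm n F q w₂ x = 0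
    · refine ⟨w₁ + w₂, W.add_mem hw₁ hw₂, ?_, ?_⟩
      · rw [herm_add_left, h4, add_zero]; exact h1
      · rw [herm_add_left, h3, zero_add]; exact h2
    · exact ⟨w₂, hw₂, h4, h2⟩
  · exact ⟨w₁, hw₁, h1, h3⟩

theorem exists_basis_vectors (W : Submodule F (Fin n → F)) :
    ∃ (k : ℕ) (bv : Fin k → (Fin n → F)), (∀ i, bv i ∈ W) ∧ LinearIndependent F bv ∧
      Submodule.span F (Set.range bv) = W := by
  obtain ⟨k, hk⟩ : ∃ k, Module.finrank F W = k := ⟨_, rfl⟩
  have b := Module.finBasisOfFinrankEq F W hk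
  obtain ⟨bv, hbv⟩ : ∃ bv : Fin k → (Fin n → F), ∀ i, bv i = (b i : Fin n → F) :=
    ⟨fun i => (b i : Fin n → F), fun i => rfl⟩
  have hbW : ∀ i, bv i ∈ W := fun i => by rw [hbv]; exact (b i).2
  have hbLI : LinearIndependent F bv := by
    have h1 := b.linearIndependent.map' W.subtype (Submodule.ker_subtype W)
    have h2 : (⇑W.subtype ∘ ⇑b) = bv := by
      funext i
      rw [hbv]
      rfl
    rw [h2] at h1
    exact h1
  refine ⟨k, bv, hbW, hbLI, ?_⟩
  apply Submodule.eq_of_le_of_finrank_eq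
    (Submodule.span_le.mpr (by rintro _ ⟨i, rfl⟩; exact hbW i))
  rw [finrank_span_eq_card hbLI, hk, Fintype.card_fin]

/-- the stabiliser in `SU` of a totally isotropic `W` is transitive, up to scalars, on the
isotropic vectors outside `W^⊥`. -/
theorem su_stab_trans (hF : Fintype.card F = q ^ 2) (W : Submodule F (Fin n → F))
    (hW : ∀ u ∈ W, ∀ v ∈ W, Cfsg.hermForm n F q u v = 0)
    (x x' : Fin n → F) (hxx : Cfsg.hermForm n F q x x = 0) (hx'x' : Cfsg.hermForm n F q x' x' = 0)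
    (hx : ∃ w ∈ W, Cfsg.hermForm n F q w x ≠ 0) (hx' : ∃ w ∈ W, Cfsg.hermForm n F q w x' ≠ 0) :
    ∃ A : Cfsg.SU n F q, (∀ v, v ∈ W ↔ suM A *ᵥ v ∈ W) ∧
      ∃ μ : F, μ ≠ 0 ∧ suM A *ᵥ x = μ • x' := by
  classical
  have hq := uq_ge_two hF
  obtain ⟨w, hwW, hwx, hwx'⟩ := u_exists_common W x x' hx hx'
  have hxW : x ∉ W := fun h => hwx (hW w hwW x h)
  have hx'W : x' ∉ W := fun h => hwx' (hW w hwW x' h)
  obtain ⟨k, bv, hbW, hbLI, hbspan⟩ := exists_basis_vectors W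
  obtain ⟨TL, hTL⟩ : ∃ TL : (Fin n → F) →ₗ[F] (Fin n → F), ∀ v, TL v
      = v + ((Cfsg.hermForm n F q w x')⁻¹
        * (Cfsg.hermForm n F q v x - Cfsg.hermForm n F q v x')) • w :=
    ⟨{ toFun := fun v => v + ((Cfsg.hermForm n F q w x')⁻¹
          * (Cfsg.hermForm n F q v x - Cfsg.hermForm n F q v x')) • w
       map_add' := fun a b => by
         rw [herm_add_left, herm_add_left]
         module
       map_smul' := fun r a => by
         rw [herm_smul_left, herm_smul_left]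
         simp only [RingHom.id_apply]
         module }, fun v => rfl⟩
  have hT1 : ∀ v ∈ W, TL v ∈ W := by
    intro v hv
    rw [hTL]
    exact W.add_mem hv (W.smul_mem _ hwW)
  have hT2 : ∀ v, Cfsg.hermForm n F q (TL v) x' = Cfsg.hermForm n F q v x := by
    intro v
    rw [hTL, herm_add_left, herm_smul_left]
    field_simp
    ring
  have hker : LinearMap.ker TL = ⊥ := by
    rw [LinearMap.ker_eq_bot']
    intro v hv
    have h1 : Cfsg.hermForm n F q v x = 0 := by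
      rw [← hT2, hv, herm_zero_left]
    have h2 : Cfsg.hermForm n F q (TL v) x = Cfsg.hermForm n F q (0 : Fin n → F) x := by
      rw [hv]
    rw [hTL, herm_add_left, herm_smul_left, h1, herm_zero_left, zero_add] at h2
    have h3 : (Cfsg.hermForm n F q w x')⁻¹ * (0 - Cfsg.hermForm n F q v x') = 0 :=
      (mul_eq_zero.mp h2).resolve_right hwx
    have h4 := hv
    rw [hTL, h1, h3, zero_smul, add_zero] at h4
    exact h4
  have hTLI : LinearIndependent F (fun i => TL (bv i)) := by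
    have h1 := hbLI.map' TL hker
    have h2 : (⇑TL ∘ bv) = fun i => TL (bv i) := rfl
    rw [h2] at h1
    exact h1
  have hLI : LinearIndependent F (Fin.snoc bv x : Fin (k + 1) → (Fin n → F)) := by
    rw [linearIndependent_finSnoc]
    refine ⟨hbLI, ?_⟩
    rw [hbspan]
    exact hxW
  have hLI' : LinearIndependent F
      (Fin.snoc (fun i => TL (bv i)) x' : Fin (k + 1) → (Fin n → F)) := by
    rw [linearIndependent_finSnoc]
    refine ⟨hTLI, fun h => hx'W ?_⟩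
    have hle : Submodule.span F (Set.range (fun i => TL (bv i))) ≤ W := by
      rw [Submodule.span_le]
      rintro _ ⟨i, rfl⟩
      exact hT1 _ (hbW i)
    exact hle h
  obtain ⟨A₀, hA₀, hA₀f⟩ := u_witt_frames hF (Fin.snoc bv x : Fin (k + 1) → (Fin n → F))
    (Fin.snoc (fun i => TL (bv i)) x') hLI hLI' (by
      intro i j
      induction i using Fin.lastCases with
      | last =>
        induction j using Fin.lastCases with
        | last =>
          rw [Fin.snoc_last, Fin.snoc_last, hxx, hx'x']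
        | cast j =>
          rw [Fin.snoc_last, Fin.snoc_castSucc, Fin.snoc_last, Fin.snoc_castSucc,
            ← herm_symm hF (TL (bv j)) x', hT2, herm_symm hF]
      | cast i =>
        induction j using Fin.lastCases with
        | last =>
          rw [Fin.snoc_last, Fin.snoc_castSucc, Fin.snoc_last, Fin.snoc_castSucc, hT2]
        | cast j =>
          rw [Fin.snoc_castSucc, Fin.snoc_castSucc, Fin.snoc_castSucc, Fin.snoc_castSucc,
            hW _ (hT1 _ (hbW i)) _ (hT1 _ (hbW j)), hW _ (hbW i) _ (hbW j)])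
  have hAb : ∀ i, (A₀ : Matrix (Fin n) (Fin n) F) *ᵥ bv i = TL (bv i) := by
    intro i
    have h1 := hA₀f i.castSucc
    rw [Fin.snoc_castSucc, Fin.snoc_castSucc] at h1
    exact h1
  have hAx : (A₀ : Matrix (Fin n) (Fin n) F) *ᵥ x = x' := by
    have h1 := hA₀f (Fin.last k)
    rw [Fin.snoc_last, Fin.snoc_last] at h1
    exact h1
  have hA₀W : ∀ v ∈ W, (A₀ : Matrix (Fin n) (Fin n) F) *ᵥ v ∈ W := fun v hv =>
    (gl_stab_of_frames W bv hbspan A₀ (fun i => by rw [hAb]; exact hT1 _ (hbW i)) v).mp hv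
  -- correct the determinant with a torus element
  obtain ⟨δ, hδ⟩ : ∃ δ : F, δ = (A₀ : Matrix (Fin n) (Fin n) F).det := ⟨_, rfl⟩
  have hδ1 : δ ^ (q + 1) = 1 := by
    have h1 := Cfsg.Agent.S0783.det_pow_of_mem hF n A₀ hA₀
    have h2 := congrArg Units.val h1
    rw [Units.val_pow_eq_pow_val, Matrix.GeneralLinearGroup.val_det_apply, Units.val_one] at h2
    rw [hδ]
    exact h2
  have hδ0 : δ ≠ 0 := by
    intro h
    rw [h, zero_pow (by omega)] at hδ1
    exact zero_ne_one hδ1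
  obtain ⟨l, hl0, hl⟩ := exists_hilbert90 hF δ⁻¹ (by rw [inv_pow, hδ1, inv_one])
  have hlq : l ^ q ≠ 0 := pow_ne_zero _ hl0
  obtain ⟨lam, hlam⟩ : ∃ lam : F, lam = ((Cfsg.hermForm n F q w x')⁻¹) ^ q := ⟨_, rfl⟩
  have hab : Cfsg.hermForm n F q w (lam • x') = 1 := by
    rw [herm_smul_right, hlam, frob_frob hF, inv_mul_cancel₀ hwx']
  have hba : Cfsg.hermForm n F q (lam • x') w = 1 := herm_one_of_symm hF hab
  have hbb : Cfsg.hermForm n F q (lam • x') (lam • x') = 0 := by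
    rw [herm_smul_left, herm_smul_right, hx'x']
    ring
  obtain ⟨t, ht, htv, htdet⟩ := exists_gu_torus hF w (lam • x') (hW w hwW w hwW) hbb hab l
    (l ^ q)⁻¹ (inv_mul_cancel₀ hlq)
  have hpres : ∀ u v, Cfsg.hermForm n F q (((t * A₀ : Matrix.GeneralLinearGroup (Fin n) F) :
      Matrix (Fin n) (Fin n) F) *ᵥ u) (((t * A₀ : Matrix.GeneralLinearGroup (Fin n) F) :
      Matrix (Fin n) (Fin n) F) *ᵥ v) = Cfsg.hermForm n F q u v :=
    (mem_GU_iff _).mp ((Cfsg.GU n F q).mul_mem ht hA₀)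
  have hdet : ((t * A₀ : Matrix.GeneralLinearGroup (Fin n) F) : Matrix (Fin n) (Fin n) F).det
      = 1 := by
    rw [Units.val_mul, Matrix.det_mul, htdet, ← hδ]
    have h1 : l * (l ^ q)⁻¹ = δ⁻¹ := by
      rw [← div_eq_mul_inv, div_eq_iff hlq]
      exact hl
    rw [h1, inv_mul_cancel₀ hδ0]
  obtain ⟨S, hS⟩ := su_mk _ hpres hdet
  have hSv : ∀ v, suM S *ᵥ v = (t : Matrix (Fin n) (Fin n) F) *ᵥ
      ((A₀ : Matrix (Fin n) (Fin n) F) *ᵥ v) := by
    intro v
    have hS' : suM S = ((t * A₀ : Matrix.GeneralLinearGroup (Fin n) F) :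
      Matrix (Fin n) (Fin n) F) := hS
    rw [hS', Units.val_mul, Matrix.mulVec_mulVec]
  refine ⟨S, ?_, (l ^ q)⁻¹, inv_ne_zero hlq, ?_⟩
  · apply stab_of_inj_le W _ (suM_mulVec_injective S)
    intro v hv
    rw [hSv, htv, hW _ (hA₀W v hv) w hwW, mul_zero, zero_smul, add_zero]
    exact W.add_mem (hA₀W v hv) (W.smul_mem _ hwW)
  · rw [hSv, hAx, htv, herm_smul_right, hx'x', mul_zero, mul_zero, zero_smul, add_zero,
      smul_smul]
    have h1 : Cfsg.hermForm n F q x' w * lam = 1 := by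
      rw [herm_smul_left] at hba
      rw [mul_comm]
      exact hba
    have h2 : ((l ^ q)⁻¹ - 1) * Cfsg.hermForm n F q x' w * lam = (l ^ q)⁻¹ - 1 := by
      rw [mul_assoc, h1, mul_one]
    rw [h2]
    module

theorem su_exists_perp_moved (hF : Fintype.card F = q ^ 2) (W : Submodule F (Fin n → F))
    (hW : ∀ u ∈ W, ∀ v ∈ W, Cfsg.hermForm n F q u v = 0) (g : Cfsg.SU n F q)
    (hg : ¬ ∀ v, v ∈ W ↔ suM g *ᵥ v ∈ W) :
    ∃ u₀ : Fin n → F, Cfsg.hermForm n F q u₀ u₀ = 0 ∧ (∀ w ∈ W, Cfsg.hermForm n F q w u₀ = 0) ∧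
      ∃ w ∈ W, Cfsg.hermForm n F q w (suM g *ᵥ u₀) ≠ 0 := by
  classical
  have hq := uq_ge_two hF
  obtain ⟨w, hwW, hw'⟩ : ∃ w ∈ W, suM g⁻¹ *ᵥ w ∉ W := by
    by_contra hcon
    push Not at hcon
    have h1 := stab_of_inj_le W _ (suM_mulVec_injective g⁻¹) hcon
    apply hg
    intro v
    have h2 := h1 (suM g *ᵥ v)
    rw [suM_inv_mulVec] at h2
    exact h2.symm
  have hw'iso : Cfsg.hermForm n F q (suM g⁻¹ *ᵥ w) (suM g⁻¹ *ᵥ w) = 0 := by
    rw [su_pres]
    exact hW w hwW w hwW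
  suffices hsuff : ∃ u₀ : Fin n → F, Cfsg.hermForm n F q u₀ u₀ = 0 ∧
      (∀ w₁ ∈ W, Cfsg.hermForm n F q w₁ u₀ = 0) ∧
      Cfsg.hermForm n F q (suM g⁻¹ *ᵥ w) u₀ ≠ 0 by
    obtain ⟨u₀, h1, h2, h3⟩ := hsuff
    refine ⟨u₀, h1, h2, w, hwW, ?_⟩
    rw [← suM_mulVec_inv g w, su_pres]
    exact h3
  by_cases hB : ∀ w₁ ∈ W, Cfsg.hermForm n F q w₁ (suM g⁻¹ *ᵥ w) = 0
  · obtain ⟨k, bv, hbW, hbLI, hbspan⟩ := exists_basis_vectors W
    have hLI : LinearIndependent F (Fin.snoc bv (suM g⁻¹ *ᵥ w) : Fin (k + 1) → (Fin n → F)) := by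
      rw [linearIndependent_finSnoc]
      refine ⟨hbLI, ?_⟩
      rw [hbspan]
      exact hw'
    obtain ⟨u₁, hu₁⟩ := Cfsg.Agent.S0751.L_surj (ufrob hF) (uB hF n) (ufrob_invol hF)
      (uB_nondeg hF) _ hLI (Fin.snoc (fun _ => 0) 1)
    have h0 : ∀ i, Cfsg.hermForm n F q (bv i) u₁ = 0 := by
      intro i
      have h1 := hu₁ i.castSucc
      rw [Fin.snoc_castSucc, Fin.snoc_castSucc, uB_apply] at h1
      exact herm_zero_of_symm hF h1
    have h1 : Cfsg.hermForm n F q u₁ (suM g⁻¹ *ᵥ w) = 1 := by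
      have h2 := hu₁ (Fin.last k)
      rw [Fin.snoc_last, Fin.snoc_last, uB_apply] at h2
      exact h2
    have h1' : Cfsg.hermForm n F q (suM g⁻¹ *ᵥ w) u₁ = 1 := herm_one_of_symm hF h1
    have hperp : ∀ w₁ ∈ W, Cfsg.hermForm n F q w₁ u₁ = 0 := by
      intro w₁ hw₁
      rw [← hbspan] at hw₁
      exact herm_orth_span hF bv u₁ h0 w₁ hw₁
    obtain ⟨lam, hlam⟩ := utrace_surj hF (-Cfsg.hermForm n F q u₁ u₁)
      (by rw [frob_neg hF, herm_self_fixed hF])
    refine ⟨u₁ + lam • (suM g⁻¹ *ᵥ w), ?_, ?_, ?_⟩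
    · rw [herm_add_left, herm_add_right hF, herm_add_right hF, herm_smul_left, herm_smul_left,
        herm_smul_right, herm_smul_right, hw'iso, h1, h1']
      linear_combination hlam
    · intro w₁ hw₁
      rw [herm_add_right hF, herm_smul_right, hperp w₁ hw₁, hB w₁ hw₁]
      ring
    · rw [herm_add_right hF, herm_smul_right, hw'iso, h1', mul_zero, add_zero]
      exact one_ne_zero
  · push Not at hB
    obtain ⟨w₁, hw₁W, hw₁⟩ := hB
    refine ⟨w₁, hW w₁ hw₁W w₁ hw₁W, fun w₂ hw₂ => hW w₂ hw₂ w₁ hw₁W, ?_⟩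
    intro h
    exact hw₁ (herm_zero_of_symm hF h)

/-- a subgroup of `SU_n(q)` containing the stabiliser of a totally isotropic subspace `W` and an
element not stabilising `W` is everything. -/
theorem su_parabolic_max (hF : Fintype.card F = q ^ 2) (hn : 1 ≤ n) (hn3 : n = 3 → 3 ≤ q)
    (W : Submodule F (Fin n → F))
    (hW : ∀ u ∈ W, ∀ v ∈ W, Cfsg.hermForm n F q u v = 0)
    (H : Subgroup (Cfsg.SU n F q))
    (hPH : ∀ A : Cfsg.SU n F q, (∀ v, v ∈ W ↔ suM A *ᵥ v ∈ W) → A ∈ H)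
    (g : Cfsg.SU n F q) (hgH : g ∈ H) (hg : ¬ ∀ v, v ∈ W ↔ suM g *ᵥ v ∈ W) : H = ⊤ := by
  have hq := uq_ge_two hF
  rw [eq_top_iff, ← su_eq_uT hF n hn hn3]
  unfold uT
  rw [Subgroup.closure_le]
  rintro A ⟨z, c, hz, hA⟩
  have hA' : suM A = Cfsg.unitaryTransvection n q z c := hA
  show A ∈ H
  by_cases hz0 : z = 0
  · have hA1 : A = 1 := by
      apply su_ext
      intro x
      rw [hA', utv_mulVec, suM_one, Matrix.one_mulVec, hz0, smul_zero, add_zero]
    rw [hA1]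
    exact one_mem _
  · obtain ⟨hc, hA2⟩ := eq_utvSU hF A z c hz0 hz hA'
    rw [hA2]
    by_cases hzW : ∀ w ∈ W, Cfsg.hermForm n F q w z = 0
    · exact hPH _ (su_tv_stab hF W z hzW hz c hc)
    · push Not at hzW
      obtain ⟨u₀, hu₀iso, hu₀W, hy⟩ := su_exists_perp_moved hF W hW g hg
      have hyiso : Cfsg.hermForm n F q (suM g *ᵥ u₀) (suM g *ᵥ u₀) = 0 := by
        rw [su_pres]
        exact hu₀iso
      have h1 : ∀ c' : F, c' + c' ^ q = 0 → utvSU hF (suM g *ᵥ u₀) c' ∈ H := by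
        intro c' hc'
        have h2 : utvSU hF (suM g *ᵥ u₀) c' = g * utvSU hF u₀ c' * g⁻¹ := by
          rw [utvSU_conj hF g u₀ c' hu₀iso hc', mul_inv_cancel_right]
        rw [h2]
        exact H.mul_mem (H.mul_mem hgH (hPH _ (su_tv_stab hF W u₀ hu₀W hu₀iso c' hc')))
          (H.inv_mem hgH)
      obtain ⟨p, hpW, μ, hμ0, hpy⟩ := su_stab_trans hF W hW _ z hyiso hz hy hzW
      have hN0 : μ ^ (q + 1) ≠ 0 := pow_ne_zero _ hμ0
      have hc'' : c / μ ^ (q + 1) + (c / μ ^ (q + 1)) ^ q = 0 := by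
        rw [div_pow, unorm_fixed hF, ← add_div, hc, zero_div]
      have h3 : utvSU hF z c = p * utvSU hF (suM g *ᵥ u₀) (c / μ ^ (q + 1)) * p⁻¹ := by
        rw [utvSU_conj hF p _ _ hyiso hc'', mul_inv_cancel_right, hpy,
          utvSU_smul hF z μ _ hz hc'', div_mul_cancel₀ _ hN0]
      rw [h3]
      exact H.mul_mem (H.mul_mem (hPH p hpW) (h1 _ hc'')) (H.inv_mem (hPH p hpW))

/-- the inclusion of `SU` into `GL`. -/
def suToGL (n : ℕ) (F : Type*) [Field F] (q : ℕ) :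
    Cfsg.SU n F q →* Matrix.GeneralLinearGroup (Fin n) F :=
  Matrix.SpecialLinearGroup.toGL.comp (Subgroup.subtype _)

theorem suToGL_val (A : Cfsg.SU n F q) :
    ((suToGL n F q A : Matrix.GeneralLinearGroup (Fin n) F) : Matrix (Fin n) (Fin n) F) = suM A :=
  rfl

theorem suToGL_mem (A : Cfsg.SU n F q) :
    suToGL n F q A ∈ Cfsg.GU n F q ⊓ Cfsg.Geo.specialLinear (Fin n) F := by
  refine ⟨(mem_GU_iff _).mpr (su_pres A), ?_⟩
  show suToGL n F q A ∈ (Matrix.GeneralLinearGroup.det :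
    Matrix.GeneralLinearGroup (Fin n) F →* Fˣ).ker
  rw [MonoidHom.mem_ker]
  apply Units.ext
  rw [Matrix.GeneralLinearGroup.val_det_apply, Units.val_one]
  exact A.1.2

theorem exists_su_of_mem (g : Matrix.GeneralLinearGroup (Fin n) F)
    (hg : g ∈ Cfsg.GU n F q ⊓ Cfsg.Geo.specialLinear (Fin n) F) :
    ∃ A : Cfsg.SU n F q, suToGL n F q A = g := by
  have hdet : (g : Matrix (Fin n) (Fin n) F).det = 1 := by
    have h1 : g ∈ (Matrix.GeneralLinearGroup.det :
      Matrix.GeneralLinearGroup (Fin n) F →* Fˣ).ker := hg.2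
    rw [MonoidHom.mem_ker] at h1
    have h2 := congrArg Units.val h1
    rw [Matrix.GeneralLinearGroup.val_det_apply, Units.val_one] at h2
    exact h2
  obtain ⟨A, hA⟩ := su_mk (g : Matrix (Fin n) (Fin n) F) ((mem_GU_iff g).mp hg.1) hdet
  exact ⟨A, Units.ext hA⟩

/-- the stabiliser of a nonzero totally isotropic subspace is a maximal subgroup of `SU_n(q)`. -/
theorem su_parabolic_max_gl (hF : Fintype.card F = q ^ 2) (hn : 3 ≤ n) (hn3 : n = 3 → 3 ≤ q)
    (W : Submodule F (Fin n → F)) (hW0 : W ≠ ⊥)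
    (hW : ∀ u ∈ W, ∀ v ∈ W, Cfsg.hermForm n F q u v = 0) :
    Cfsg.Geo.IsMaximalIn (Cfsg.GU n F q ⊓ Cfsg.Geo.specialLinear (Fin n) F)
      (Cfsg.Geo.subspaceStabilizer W ⊓ (Cfsg.GU n F q ⊓ Cfsg.Geo.specialLinear (Fin n) F)) := by
  classical
  have hmemP : ∀ A : Cfsg.SU n F q,
      suToGL n F q A ∈ Cfsg.Geo.subspaceStabilizer W
          ⊓ (Cfsg.GU n F q ⊓ Cfsg.Geo.specialLinear (Fin n) F) ↔
      ∀ v, v ∈ W ↔ suM A *ᵥ v ∈ W := by
    intro A
    constructor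
    · intro h
      exact h.1
    · intro h
      exact ⟨h, suToGL_mem A⟩
  refine ⟨lt_of_le_of_ne inf_le_right ?_, ?_⟩
  · intro heq
    obtain ⟨w₀, hw₀W, hw₀0⟩ := Submodule.exists_mem_ne_zero_of_ne_bot hW0
    obtain ⟨b, hb, hab⟩ := exists_partner hF (by omega) w₀ hw₀0 (hW w₀ hw₀W w₀ hw₀W)
    have hbW : b ∉ W := by
      intro h
      rw [hW w₀ hw₀W b h] at hab
      exact zero_ne_one hab
    obtain ⟨d, hd, -⟩ := su_trans_hyp hF hn w₀ b b w₀ (hW w₀ hw₀W w₀ hw₀W) hb hab hb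
      (hW w₀ hw₀W w₀ hw₀W) (herm_one_of_symm hF hab)
    have h1 : suToGL n F q d ∈ Cfsg.Geo.subspaceStabilizer W
        ⊓ (Cfsg.GU n F q ⊓ Cfsg.Geo.specialLinear (Fin n) F) := by
      rw [heq]
      exact suToGL_mem d
    have h2 := ((hmemP d).mp h1 w₀).mp hw₀W
    rw [hd] at h2
    exact hbW h2
  · intro M hPM hMS
    by_cases hMP : M ≤ Cfsg.Geo.subspaceStabilizer W
        ⊓ (Cfsg.GU n F q ⊓ Cfsg.Geo.specialLinear (Fin n) F)
    · left
      exact le_antisymm hMP hPM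
    · right
      obtain ⟨g₀, hg₀M, hg₀P⟩ := SetLike.not_le_iff_exists.mp hMP
      obtain ⟨A₀, hA₀⟩ := exists_su_of_mem g₀ (hMS hg₀M)
      have hkey := su_parabolic_max hF (by omega) hn3 W hW (M.comap (suToGL n F q))
        (fun A hA => hPM ((hmemP A).mpr hA)) A₀ (by
          show suToGL n F q A₀ ∈ M
          rw [hA₀]
          exact hg₀M) (by
          intro h
          apply hg₀P
          have h1 := (hmemP A₀).mpr h
          rw [hA₀] at h1
          exact h1)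
      apply le_antisymm hMS
      intro g' hg'
      obtain ⟨A', hA'⟩ := exists_su_of_mem g' hg'
      have h1 : A' ∈ M.comap (suToGL n F q) := by
        rw [hkey]
        trivial
      have h2 : suToGL n F q A' ∈ M := h1
      rw [hA'] at h2
      exact h2

end UMax

end Cfsg.Agent.Lib.helper4
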