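import Mathlib
import Cfsg.Agent.Lib.helper4.UMax

set_option autoImplicit false
set_option linter.unusedSectionVars false

/-!
# Orthogonal complements of nondegenerate subspaces for the Hermitian form
-/

namespace Cfsg.Agent.Lib.helper4

open Matrix

section UPerp

variable {F : Type*} [Field F] [Fintype F] {q : ℕ} {n : ℕ}

/-- the orthogonal complement of a subspace for the Hermitian form. -/
def uperp (hF : Fintype.card F = q ^ 2) (W : Submodule F (Fin n → F)) :
    Submodule F (Fin n → F) where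
  carrier := {x | ∀ w ∈ W, Cfsg.hermForm n F q w x = 0}
  add_mem' := fun {a b} ha hb w hw => by
    rw [herm_add_right hF, ha w hw, hb w hw, add_zero]
  zero_mem' := fun w _ => herm_zero_right hF w
  smul_mem' := fun c x hx w hw => by
    rw [herm_smul_right, hx w hw, mul_zero]

theorem mem_uperp (hF : Fintype.card F = q ^ 2) (W : Submodule F (Fin n → F)) (x : Fin n → F) :
    x ∈ uperp hF W ↔ ∀ w ∈ W, Cfsg.hermForm n F q w x = 0 := Iff.rfl

theorem uperp_disjoint (hF : Fintype.card F = q ^ 2) (W : Submodule F (Fin n → F))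
    (hWnd : ∀ w ∈ W, w ≠ 0 → ∃ x ∈ W, Cfsg.hermForm n F q w x ≠ 0)
    (x : Fin n → F) (hx : x ∈ W) (hx' : x ∈ uperp hF W) : x = 0 := by
  by_contra hx0
  obtain ⟨y, hy, hxy⟩ := hWnd x hx hx0
  exact hxy (herm_zero_of_symm hF (hx' y hy))

theorem uperp_decomp (hF : Fintype.card F = q ^ 2) (W : Submodule F (Fin n → F))
    (hWnd : ∀ w ∈ W, w ≠ 0 → ∃ x ∈ W, Cfsg.hermForm n F q w x ≠ 0) (z : Fin n → F) :
    ∃ a ∈ W, ∃ a' ∈ uperp hF W, a + a' = z := by
  classical
  obtain ⟨k, bv, hbW, hbLI, hbspan⟩ := exists_basis_vectors W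
  have hk : Module.finrank F (Submodule.span F (Set.range bv)) = k := by
    rw [finrank_span_eq_card hbLI, Fintype.card_fin]
  rw [hbspan] at hk
  obtain ⟨φ, hφ⟩ : ∃ φ : W →ₗ[F] (Fin k → F), ∀ (a : W) (i : Fin k),
      φ a i = Cfsg.hermForm n F q (a : Fin n → F) (bv i) :=
    ⟨LinearMap.pi (fun i => (uB hF n (bv i)).comp W.subtype), fun a i => rfl⟩
  have hinj : Function.Injective φ := by
    rw [injective_iff_map_eq_zero]
    intro a ha
    by_contra ha0
    obtain ⟨x, hxW, hx⟩ := hWnd a.1 a.2 (fun h => ha0 (Subtype.ext h))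
    apply hx
    apply herm_zero_of_symm hF
    have h1 : ∀ i, Cfsg.hermForm n F q (bv i) (a : Fin n → F) = 0 := by
      intro i
      apply herm_zero_of_symm hF
      rw [← hφ, ha]
      rfl
    rw [← hbspan] at hxW
    exact herm_orth_span hF bv _ h1 x hxW
  have hsurj : Function.Surjective φ :=
    (LinearMap.injective_iff_surjective_of_finrank_eq_finrank
      (by rw [hk, Module.finrank_fin_fun])).mp hinj
  obtain ⟨a, ha⟩ := hsurj (fun i => Cfsg.hermForm n F q z (bv i))
  refine ⟨a.1, a.2, z - a.1, ?_, by abel⟩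
  intro w hw
  rw [← hbspan] at hw
  refine herm_orth_span hF bv _ (fun i => ?_) w hw
  apply herm_zero_of_symm hF
  rw [herm_sub_left, ← hφ, ha, sub_self]

theorem uperp_nondeg (hF : Fintype.card F = q ^ 2) (W : Submodule F (Fin n → F))
    (hWnd : ∀ w ∈ W, w ≠ 0 → ∃ x ∈ W, Cfsg.hermForm n F q w x ≠ 0) :
    ∀ y ∈ uperp hF W, y ≠ 0 → ∃ x ∈ uperp hF W, Cfsg.hermForm n F q y x ≠ 0 := by
  intro y hy hy0
  obtain ⟨x, hx⟩ : ∃ x, Cfsg.hermForm n F q y x ≠ 0 := by
    by_contra hcon
    push Not at hcon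
    exact hy0 (herm_nondeg hF y hcon)
  obtain ⟨a, ha, a', ha', haa⟩ := uperp_decomp hF W hWnd x
  refine ⟨a', ha', ?_⟩
  rw [← haa, herm_add_right hF, herm_zero_of_symm hF (hy a ha), zero_add] at hx
  exact hx

theorem uperp_uperp (hF : Fintype.card F = q ^ 2) (W : Submodule F (Fin n → F))
    (hWnd : ∀ w ∈ W, w ≠ 0 → ∃ x ∈ W, Cfsg.hermForm n F q w x ≠ 0) (x : Fin n → F)
    (hx : ∀ y ∈ uperp hF W, Cfsg.hermForm n F q y x = 0) : x ∈ W := by
  obtain ⟨a, ha, a', ha', haa⟩ := uperp_decomp hF W hWnd x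
  have h1 : a' = 0 := by
    by_contra h0
    obtain ⟨y, hy, hy'⟩ := uperp_nondeg hF W hWnd a' ha' h0
    apply hy'
    apply herm_zero_of_symm hF
    have h2 := hx y hy
    rw [← haa, herm_add_right hF, herm_zero_of_symm hF (hy a ha), zero_add] at h2
    exact h2
  rw [← haa, h1, add_zero]
  exact ha

theorem uperp_isCompl (hF : Fintype.card F = q ^ 2) (W : Submodule F (Fin n → F))
    (hWnd : ∀ w ∈ W, w ≠ 0 → ∃ x ∈ W, Cfsg.hermForm n F q w x ≠ 0) :
    IsCompl W (uperp hF W) := by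
  refine ⟨Submodule.disjoint_def.mpr (fun x hx hx' => uperp_disjoint hF W hWnd x hx hx'), ?_⟩
  rw [codisjoint_iff, eq_top_iff]
  intro z _
  obtain ⟨a, ha, a', ha', haa⟩ := uperp_decomp hF W hWnd z
  exact Submodule.mem_sup.mpr ⟨a, ha, a', ha', haa⟩

theorem finrank_uperp (hF : Fintype.card F = q ^ 2) (W : Submodule F (Fin n → F))
    (hWnd : ∀ w ∈ W, w ≠ 0 → ∃ x ∈ W, Cfsg.hermForm n F q w x ≠ 0) :
    Module.finrank F W + Module.finrank F (uperp hF W) = n := by
  rw [Submodule.finrank_add_eq_of_isCompl (uperp_isCompl hF W hWnd), Module.finrank_fin_fun]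

/-- a non-orthogonal pair spans an anisotropic vector. -/
theorem exists_aniso_comb (hF : Fintype.card F = q ^ 2) (x u : Fin n → F)
    (hxu : Cfsg.hermForm n F q x u ≠ 0) :
    ∃ α β : F, Cfsg.hermForm n F q (α • x + β • u) (α • x + β • u) ≠ 0 ∧
      (Cfsg.hermForm n F q u u = 0 → α ≠ 0) := by
  have hq := uq_ge_two hF
  by_cases hu : Cfsg.hermForm n F q u u = 0
  · by_cases hx : Cfsg.hermForm n F q x x = 0
    · obtain ⟨t, ht⟩ := utrace_surj hF 1 (one_pow q)
      have ht0 : t ≠ 0 := by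
        rintro rfl
        rw [zero_pow (by omega), add_zero] at ht
        exact zero_ne_one ht
      refine ⟨t / Cfsg.hermForm n F q x u, 1, ?_, fun _ => div_ne_zero ht0 hxu⟩
      have hux : Cfsg.hermForm n F q u x ≠ 0 := fun h => hxu (herm_zero_of_symm hF h)
      have h1 : Cfsg.hermForm n F q ((t / Cfsg.hermForm n F q x u) • x + (1 : F) • u)
          ((t / Cfsg.hermForm n F q x u) • x + (1 : F) • u) = 1 := by
        simp only [herm_add_left, herm_add_right hF, herm_smul_left, herm_smul_right, hu, hx,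
          one_pow, div_pow, herm_symm hF x u]
        field_simp
        linear_combination (Cfsg.hermForm n F q u x * Cfsg.hermForm n F q x u) * ht
      rw [h1]
      exact one_ne_zero
    · refine ⟨1, 0, ?_, fun _ => one_ne_zero⟩
      rw [zero_smul, add_zero, one_smul]
      exact hx
  · refine ⟨0, 1, ?_, fun h => absurd h hu⟩
    rw [zero_smul, zero_add, one_smul]
    exact hu

/-- in a nondegenerate subspace, an anisotropic vector orthogonal to a given vector `a'`, given
some vector orthogonal to `a'` that is not a multiple of it. -/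
theorem exists_aniso_perp (hF : Fintype.card F = q ^ 2) (U : Submodule F (Fin n → F))
    (hU : ∀ y ∈ U, y ≠ 0 → ∃ x ∈ U, Cfsg.hermForm n F q y x ≠ 0) (a' u : Fin n → F)
    (ha' : a' ∈ U) (hu : u ∈ U) (hua : Cfsg.hermForm n F q u a' = 0)
    (hne : ∀ c : F, u ≠ c • a') :
    ∃ v ∈ U, Cfsg.hermForm n F q v a' = 0 ∧ Cfsg.hermForm n F q v v ≠ 0 := by
  have hq := uq_ge_two hF
  have hu0 : u ≠ 0 := by
    intro h
    apply hne 0
    rw [h, zero_smul]
  obtain ⟨x, hxU, hxa, hxu⟩ : ∃ x ∈ U, Cfsg.hermForm n F q x a' = 0 ∧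
      Cfsg.hermForm n F q x u ≠ 0 := by
    by_contra hcon
    push Not at hcon
    by_cases ha0 : a' = 0
    · obtain ⟨x, hxU, hx⟩ := hU u hu hu0
      apply hx
      apply herm_zero_of_symm hF
      exact hcon x hxU (by rw [ha0, herm_zero_right hF])
    · obtain ⟨x₀, hx₀U, hx₀⟩ := hU a' ha' ha0
      have hx₀' : Cfsg.hermForm n F q x₀ a' ≠ 0 := fun h => hx₀ (herm_zero_of_symm hF h)
      obtain ⟨x₁, hx₁⟩ : ∃ x₁ : Fin n → F, x₁ = (Cfsg.hermForm n F q x₀ a')⁻¹ • x₀ := ⟨_, rfl⟩
      have hx₁U : x₁ ∈ U := by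
        rw [hx₁]
        exact U.smul_mem _ hx₀U
      have hx₁a : Cfsg.hermForm n F q x₁ a' = 1 := by
        rw [hx₁, herm_smul_left, inv_mul_cancel₀ hx₀']
      have h1 : ∀ x ∈ U, Cfsg.hermForm n F q x
          (u - (Cfsg.hermForm n F q x₁ u) ^ q • a') = 0 := by
        intro x hxU
        have h2 := hcon (x - Cfsg.hermForm n F q x a' • x₁)
          (U.sub_mem hxU (U.smul_mem _ hx₁U))
          (by rw [herm_sub_left, herm_smul_left, hx₁a, mul_one, sub_self])
        rw [herm_sub_left, herm_smul_left] at h2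
        rw [herm_sub_right hF, herm_smul_right, frob_frob hF]
        linear_combination h2
      have h3 : u - (Cfsg.hermForm n F q x₁ u) ^ q • a' = 0 := by
        by_contra h0
        obtain ⟨x, hxU, hx⟩ := hU _ (U.sub_mem hu (U.smul_mem _ ha')) h0
        exact hx (herm_zero_of_symm hF (h1 x hxU))
      exact hne _ (sub_eq_zero.mp h3)
  obtain ⟨α, β, hv, -⟩ := exists_aniso_comb hF x u hxu
  refine ⟨α • x + β • u, U.add_mem (U.smul_mem _ hxU) (U.smul_mem _ hu), ?_, hv⟩
  rw [herm_add_left, herm_smul_left, herm_smul_left, hxa, hua]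
  ring

/-- in a nondegenerate subspace of dimension at least `3`, there is an anisotropic vector
orthogonal to any given vector. -/
theorem exists_aniso_in (hF : Fintype.card F = q ^ 2) (U : Submodule F (Fin n → F))
    (hU : ∀ y ∈ U, y ≠ 0 → ∃ x ∈ U, Cfsg.hermForm n F q y x ≠ 0)
    (hU3 : 3 ≤ Module.finrank F U) (a' : Fin n → F) (ha' : a' ∈ U) :
    ∃ v ∈ U, Cfsg.hermForm n F q v a' = 0 ∧ Cfsg.hermForm n F q v v ≠ 0 := by
  classical
  obtain ⟨K, hK⟩ : ∃ K : Submodule F (Fin n → F), K = LinearMap.ker (uB hF n a') := ⟨_, rfl⟩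
  have hmemK : ∀ x, x ∈ K ↔ Cfsg.hermForm n F q x a' = 0 := by
    intro x
    rw [hK, LinearMap.mem_ker, uB_apply]
  have h1 : n ≤ Module.finrank F K + 1 := by
    have h2 := LinearMap.finrank_range_add_finrank_ker (uB hF n a')
    rw [Module.finrank_fin_fun] at h2
    have h3 : Module.finrank F (LinearMap.range (uB hF n a')) ≤ 1 := by
      have h4 := Submodule.finrank_le (LinearMap.range (uB hF n a'))
      rw [Module.finrank_self] at h4
      exact h4
    rw [hK]
    omega
  have h2 := Submodule.finrank_sup_add_finrank_inf_eq U K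
  have h3 : Module.finrank F (U ⊔ K : Submodule F (Fin n → F)) ≤ n := by
    have h4 := Submodule.finrank_le (U ⊔ K)
    rw [Module.finrank_fin_fun] at h4
    exact h4
  have h5 : 2 ≤ Module.finrank F (U ⊓ K : Submodule F (Fin n → F)) := by omega
  obtain ⟨u, hu, hune⟩ : ∃ u ∈ U ⊓ K, u ∉ Submodule.span F {a'} := by
    by_contra hcon
    push Not at hcon
    have hle : U ⊓ K ≤ Submodule.span F {a'} := fun u hu => hcon u hu
    have h6 := Submodule.finrank_mono hle
    have h7 : Module.finrank F (Submodule.span F {a'}) ≤ 1 := by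
      by_cases ha0 : a' = 0
      · rw [ha0, Submodule.span_zero_singleton, finrank_bot]
        omega
      · rw [finrank_span_singleton ha0]
    omega
  exact exists_aniso_perp hF U hU a' u ha' hu.1 ((hmemK u).mp hu.2)
    (fun c h => hune (Submodule.mem_span_singleton.mpr ⟨c, h.symm⟩))

/-- the quasi-reflection `x ↦ x + (δ - 1) h(x,v)/h(v,v) v`, an element of `GU` of
determinant `δ`. -/
theorem exists_gu_refl (hF : Fintype.card F = q ^ 2) (v : Fin n → F)
    (hv : Cfsg.hermForm n F q v v ≠ 0) (δ : F) (hδ : δ ^ (q + 1) = 1) :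
    ∃ g : Matrix.GeneralLinearGroup (Fin n) F, g ∈ Cfsg.GU n F q ∧
      (∀ x, (g : Matrix (Fin n) (Fin n) F) *ᵥ x
        = x + ((δ - 1) / Cfsg.hermForm n F q v v * Cfsg.hermForm n F q x v) • v) ∧
      (g : Matrix (Fin n) (Fin n) F).det = δ := by
  classical
  have hq := uq_ge_two hF
  obtain ⟨c, hc⟩ : ∃ c : F, c = (δ - 1) / Cfsg.hermForm n F q v v := ⟨_, rfl⟩
  have hcq : c ^ q = (δ ^ q - 1) / Cfsg.hermForm n F q v v := by
    rw [hc, div_pow, frob_sub hF, one_pow, herm_self_fixed hF]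
  have hδ' : δ * δ ^ q = 1 := by
    rw [← unorm_eq]
    exact hδ
  have hkey : c ^ q + c + c * c ^ q * Cfsg.hermForm n F q v v = 0 := by
    rw [hcq, hc]
    field_simp
    linear_combination hδ'
  obtain ⟨M, hM⟩ : ∃ M : Matrix (Fin n) (Fin n) F,
      M = 1 + c • Matrix.vecMulVec v (fun j => v j ^ q) := ⟨_, rfl⟩
  have hMv : ∀ x, M *ᵥ x = x + (c * Cfsg.hermForm n F q x v) • v := by
    intro x
    rw [hM, rk1_mulVec]
  have hpres : ∀ x y, Cfsg.hermForm n F q (M *ᵥ x) (M *ᵥ y) = Cfsg.hermForm n F q x y := by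
    intro x y
    rw [hMv, hMv]
    simp only [herm_add_left, herm_add_right hF, herm_smul_left, herm_smul_right, mul_pow,
      herm_symm hF y v]
    linear_combination (Cfsg.hermForm n F q x v * Cfsg.hermForm n F q v y) * hkey
  obtain ⟨g, hg, hgM⟩ := gu_mk hF M hpres
  refine ⟨g, hg, ?_, ?_⟩
  · intro x
    rw [hgM, hMv, hc]
  · rw [hgM, hM, rk1_det, hc, div_mul_cancel₀ _ hv]
    ring

end UPerp

end Cfsg.Agent.Lib.helper4
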